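import Cfsg.Agent.Lib.Reflections.NegOne
import Mathlib

/-!
Membership in Omega by the spinor norm: products of reflections, pair involutions.
-/

set_option autoImplicit false
set_option linter.unusedSectionVars false

namespace Cfsg.Agent.Forms59

open Matrix QuadraticMap Cfsg.Agent.Reflections
open scoped Matrix

variable {ι : Type} [Fintype ι] [DecidableEq ι] {F : Type*} [Field F]
variable {Q : QuadraticForm F (ι → F)}

/-- The product of the reflections of a list of vectors. -/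
noncomputable def reflProd (Q : QuadraticForm F (ι → F)) (vs : List (ι → F)) :
    ↥(Cfsg.isometryGroup F ⇑Q) := (vs.map (refl Q)).prod

theorem reflProd_cons (v : ι → F) (vs : List (ι → F)) :
    reflProd Q (v :: vs) = refl Q v * reflProd Q vs := by simp [reflProd]

theorem reflProd_append (us vs : List (ι → F)) :
    reflProd Q (us ++ vs) = reflProd Q us * reflProd Q vs := by simp [reflProd]

theorem mat_mul' (g h : ↥(Cfsg.isometryGroup F ⇑Q)) : mat (g * h) = mat g * mat h := by
  simp [mat]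

theorem mat_one' : mat (1 : ↥(Cfsg.isometryGroup F ⇑Q)) = 1 := by simp [mat]

theorem mat_reflProd : ∀ (vs : List (ι → F)), (∀ v ∈ vs, Q v ≠ 0) →
    mat (reflProd Q vs) = (vs.map fun v => Cfsg.reflectionMatrix ⇑Q v).prod
  | [], _ => by simp [reflProd, mat]
  | v :: vs, h => by
    rw [reflProd_cons, mat_mul', mat_refl (h v (by simp)),
      mat_reflProd vs (fun w hw => h w (by simp [hw])), List.map_cons, List.prod_cons]

section finite

variable [Fintype F] [DecidableEq F]

theorem theta_pair_refl (h2 : (2 : F) ≠ 0) {ε : F} (hε : ¬ IsSquare ε) {v : ι → F} (hv : Q v ≠ 0) :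
    ((theta Q ε (refl Q v) : ℤ) = quadraticChar F (Q v)) ∧
      ((theta Q 1 (refl Q v) : ℤ) = -quadraticChar F (Q v)) := by
  have hε0 : ε ≠ 0 := fun h => hε (h ▸ IsSquare.zero)
  by_cases hs : IsSquare (Q v)
  · rw [(quadraticChar_one_iff_isSquare hv).2 hs]
    obtain ⟨s, hs⟩ := hs
    have hs0 : s ≠ 0 := by rintro rfl; exact hv (by simpa using hs)
    constructor
    · rw [theta_refl_of_not_exists h2 hv hε0 (fun ⟨t, ht⟩ => hε ⟨t * s, by rw [← ht, hs]; ring⟩)]
      rfl
    · rw [theta_refl_of_exists h2 hv one_ne_zero ⟨s⁻¹, by rw [hs]; field_simp⟩]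
      rfl
  · rw [quadraticChar_neg_one_iff_not_isSquare.2 hs]
    obtain ⟨t, ht, hvt⟩ : ∃ t : F, t ≠ 0 ∧ Q v = ε * t ^ 2 := by
      rcases square_class hε hv with ⟨t, _, h⟩ | h
      · exact absurd ⟨t, by rw [h]; ring⟩ hs
      · exact h
    constructor
    · rw [theta_refl_of_exists h2 hv hε0 ⟨t⁻¹, by rw [hvt]; field_simp⟩]
      rfl
    · rw [theta_refl_of_not_exists h2 hv one_ne_zero (fun ⟨r, hr⟩ => hs ⟨r⁻¹, by
        have hr0 : r ≠ 0 := by rintro rfl; simp at hr
        field_simp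
        linear_combination hr⟩)]
      rfl

theorem theta_reflProd (h2 : (2 : F) ≠ 0) {ε : F} (hε : ¬ IsSquare ε) :
    ∀ (vs : List (ι → F)), (∀ v ∈ vs, Q v ≠ 0) →
      ((theta Q ε (reflProd Q vs) : ℤ) = quadraticChar F (vs.map fun v => Q v).prod) ∧
      ((theta Q 1 (reflProd Q vs) : ℤ) =
        (-1) ^ vs.length * quadraticChar F (vs.map fun v => Q v).prod)
  | [], _ => by simp [reflProd]
  | v :: vs, h => by
    obtain ⟨a1, a2⟩ := theta_pair_refl h2 hε (h v (by simp))
    obtain ⟨b1, b2⟩ := theta_reflProd h2 hε vs (fun w hw => h w (by simp [hw]))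
    rw [reflProd_cons, map_mul, map_mul, Units.val_mul, Units.val_mul, a1, a2, b1, b2,
      List.map_cons, List.prod_cons, map_mul, List.length_cons, pow_succ]
    constructor <;> ring

/-- The spinor norm criterion. -/
theorem reflProd_mem_omega_iff (h2 : (2 : F) ≠ 0) (hQ : Q.polarBilin.Nondegenerate)
    (hn : 2 ≤ Fintype.card ι) (vs : List (ι → F)) (hvs : ∀ v ∈ vs, Q v ≠ 0) :
    reflProd Q vs ∈ Cfsg.Omega F ⇑Q ↔
      Even vs.length ∧ IsSquare (vs.map fun v => Q v).prod := by
  obtain ⟨ε, -, hε⟩ := exists_nonsquare_scalar (F := F) h2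
  have hne : (vs.map fun v => Q v).prod ≠ 0 := by
    refine List.prod_ne_zero fun h => ?_
    obtain ⟨v, hv, h0⟩ := List.mem_map.1 h
    exact hvs v hv h0
  obtain ⟨h1, h1'⟩ := theta_reflProd h2 hε vs hvs
  rw [omega_eq_ker h2 hQ hn hε, MonoidHom.mem_ker]
  simp only [thetaPair, MonoidHom.prod_apply, Prod.mk_eq_one]
  rw [← Units.val_eq_one, ← Units.val_eq_one, h1, h1', ← quadraticChar_one_iff_isSquare hne]
  constructor
  · rintro ⟨e1, e2⟩
    rw [e2, mul_one, neg_one_pow_eq_one_iff_even (by decide)] at e1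
    exact ⟨e1, e2⟩
  · rintro ⟨e1, e2⟩
    rw [e2, e1.neg_one_pow]
    exact ⟨one_mul 1, rfl⟩

/-- The same criterion, for an isometry given by its matrix. -/
theorem mem_omega_iff_of_mat (h2 : (2 : F) ≠ 0) (hQ : Q.polarBilin.Nondegenerate)
    (hn : 2 ≤ Fintype.card ι) (g : ↥(Cfsg.isometryGroup F ⇑Q)) (vs : List (ι → F))
    (hvs : ∀ v ∈ vs, Q v ≠ 0)
    (hg : mat g = (vs.map fun v => Cfsg.reflectionMatrix ⇑Q v).prod) :
    g ∈ Cfsg.Omega F ⇑Q ↔ Even vs.length ∧ IsSquare (vs.map fun v => Q v).prod := by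
  have : g = reflProd Q vs := eq_of_mat (hg.trans (mat_reflProd vs hvs).symm)
  subst this
  exact reflProd_mem_omega_iff h2 hQ hn vs hvs

/-- A form of the statement with the isometry quantified. -/
theorem exists_mat_omega_iff (h2 : (2 : F) ≠ 0) (hQ : Q.polarBilin.Nondegenerate)
    (hn : 2 ≤ Fintype.card ι) {M : Matrix ι ι F} (vs : List (ι → F))
    (hvs : ∀ v ∈ vs, Q v ≠ 0) (hM : mat (reflProd Q vs) = M) :
    (∃ g : ↥(Cfsg.isometryGroup F ⇑Q), g ∈ Cfsg.Omega F ⇑Q ∧ mat g = M) ↔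
      Even vs.length ∧ IsSquare (vs.map fun v => Q v).prod := by
  rw [← reflProd_mem_omega_iff h2 hQ hn vs hvs]
  constructor
  · rintro ⟨g, hg, hgM⟩
    rwa [← eq_of_mat (hgM.trans hM.symm)]
  · exact fun h => ⟨_, h, hM⟩

theorem neg_one_omega_iff_disc (h2 : (2 : F) ≠ 0) (hQ : Q.polarBilin.Nondegenerate)
    (hn : 2 ≤ Fintype.card ι) (hev : Even (Fintype.card ι)) :
    (∃ g : ↥(Cfsg.isometryGroup F ⇑Q), g ∈ Cfsg.Omega F ⇑Q ∧ mat g = -1) ↔
      IsSquare (Matrix.of fun i j : ι => polar ⇑Q (Pi.single i 1) (Pi.single j 1)).det := by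
  obtain ⟨e, ho, hne⟩ := exists_orth_basis h2 hQ
  have hcard : Fintype.card (Fin (Module.finrank F (ι → F))) = Fintype.card ι := by simp
  let E := Fintype.equivOfCardEq hcard
  let P : Matrix ι ι F := Matrix.of fun i j => e (E.symm j) i
  have hpol : ∀ x y : ι → F, polar ⇑Q x y =
      x ⬝ᵥ (Matrix.of fun i j : ι => polar ⇑Q (Pi.single i 1) (Pi.single j 1)) *ᵥ y := by
    intro x y
    have hx : ∀ z : ι → F, z = ∑ j, z j • (Pi.single j (1 : F)) := fun z => by
      funext i
      simp [Finset.sum_apply, Pi.single_apply]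
    show Q.polarBilin x y = _
    conv_lhs => rw [hx x, hx y]
    simp only [map_sum, map_smul, LinearMap.sum_apply, LinearMap.smul_apply, smul_eq_mul,
      QuadraticMap.polarBilin_apply_apply, dotProduct, Matrix.mulVec, Matrix.of_apply,
      Finset.mul_sum]
    rw [Finset.sum_comm]
    exact Finset.sum_congr rfl fun i _ => Finset.sum_congr rfl fun j _ => by ring
  set G : Matrix ι ι F := Matrix.of fun i j : ι => polar ⇑Q (Pi.single i 1) (Pi.single j 1)
  have hdiag : Pᵀ * G * P = Matrix.diagonal fun j => 2 * Q (e (E.symm j)) := by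
    ext i j
    have h : (Pᵀ * G * P) i j = e (E.symm i) ⬝ᵥ G *ᵥ e (E.symm j) := by
      rw [Matrix.mul_assoc, Matrix.mul_apply_eq_vecMul, dotProduct_mulVec]
      simp only [Matrix.mul_apply, Matrix.vecMul, dotProduct, P, Matrix.transpose_apply,
        Matrix.of_apply, Finset.mul_sum, Finset.sum_mul]
      rw [Finset.sum_comm]
      exact Finset.sum_congr rfl fun a _ => Finset.sum_congr rfl fun b _ => by ring
    rw [h, ← hpol]
    rcases eq_or_ne i j with rfl | hij
    · rw [Matrix.diagonal_apply_eq, polar_self']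
    · rw [Matrix.diagonal_apply_ne _ hij, ho _ _ (fun h => hij (E.symm.injective h))]
  have hdet := congrArg Matrix.det hdiag
  rw [Matrix.det_mul, Matrix.det_mul, Matrix.det_transpose, Matrix.det_diagonal,
    Finset.prod_mul_distrib, Finset.prod_const, Finset.card_univ,
    Equiv.prod_comp E.symm (fun k => Q (e k))] at hdet
  have hP : P.det ≠ 0 := fun h => by
    rw [h, zero_mul, zero_mul] at hdet
    exact mul_ne_zero (pow_ne_zero _ h2) (Finset.prod_ne_zero_iff.2 fun k _ => hne k) hdet.symm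
  have hsq : IsSquare G.det ↔ IsSquare (∏ k, Q (e k)) := by
    obtain ⟨r, hr⟩ := hev
    rw [hr] at hdet
    have key : ∏ k, Q (e k) = (P.det / (2 : F) ^ r) ^ 2 * G.det := by
      have hr0 : (2 : F) ^ r ≠ 0 := pow_ne_zero _ h2
      field_simp
      linear_combination -hdet
    constructor
    · rintro ⟨s, hs⟩
      exact ⟨P.det / (2 : F) ^ r * s, by rw [key, hs]; ring⟩
    · rintro ⟨s, hs⟩
      have hd : P.det / (2 : F) ^ r ≠ 0 := div_ne_zero hP (pow_ne_zero _ h2)
      refine ⟨s / (P.det / (2 : F) ^ r), ?_⟩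
      rw [key] at hs
      field_simp at hs ⊢
      linear_combination hs
  obtain ⟨g, hg, hψ⟩ := exists_mat_neg_one h2 e hcard ho hne
  obtain ⟨ε, hε0, hε⟩ := exists_nonsquare_scalar (F := F) h2
  have hkey : g ∈ Cfsg.Omega F ⇑Q ↔ IsSquare (∏ k, Q (e k)) := by
    rw [omega_eq_ker h2 hQ hn hε, MonoidHom.mem_ker]
    simp only [thetaPair, MonoidHom.prod_apply, Prod.mk_eq_one]
    rw [← Units.val_eq_one, ← Units.val_eq_one,
      ← quadraticChar_one_iff_isSquare (Finset.prod_ne_zero_iff.2 fun k _ => hne k)]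
    have c1 : (theta Q ε g : ℤ) = quadraticChar F (∏ k, Q (e k)) := by
      rw [hψ, Units.coe_prod, map_prod]
      exact Finset.prod_congr rfl fun k _ => (theta_pair_refl h2 hε (hne k)).1
    have c2 : (theta Q 1 g : ℤ) = quadraticChar F (∏ k, Q (e k)) := by
      rw [hψ, Units.coe_prod, Finset.prod_congr rfl fun k _ => (theta_pair_refl h2 hε (hne k)).2,
        Finset.prod_neg, Finset.card_univ, hcard, hev.neg_one_pow, one_mul, ← map_prod]
    rw [c1, c2, and_self]
  rw [hsq, ← hkey]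
  exact ⟨fun ⟨g', hm, hg'⟩ => eq_of_mat (hg.trans hg'.symm) ▸ hm, fun h => ⟨g, h, hg⟩⟩

end finite

/-! ### Involutions negating hyperbolic pairs -/

theorem refl_pair (h2 : (2 : F) ≠ 0) {a b : ι} (hab : a ≠ b)
    (hpa : ∀ x, polar ⇑Q (Pi.single a 1) x = x b) (hpb : ∀ x, polar ⇑Q (Pi.single b 1) x = x a) :
    Q (Pi.single a 1 + Pi.single b 1) = 1 ∧ Q (Pi.single a 1 - Pi.single b 1) = -1 ∧
    ∀ x : ι → F, act (refl Q (Pi.single a 1 + Pi.single b 1) *
      refl Q (Pi.single a 1 - Pi.single b 1)) x = fun k => if k = a ∨ k = b then -x k else x k := by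
  have hQa : Q (Pi.single a 1) = 0 := by
    have h := polar_self' Q (Pi.single a (1 : F))
    rw [hpa, Pi.single_eq_of_ne hab.symm] at h
    exact (mul_eq_zero.1 h.symm).resolve_left h2
  have hQb : Q (Pi.single b 1) = 0 := by
    have h := polar_self' Q (Pi.single b (1 : F))
    rw [hpb, Pi.single_eq_of_ne hab] at h
    exact (mul_eq_zero.1 h.symm).resolve_left h2
  have hu : Q (Pi.single a 1 + Pi.single b 1) = 1 := by
    rw [map_add', hQa, hQb, hpa, Pi.single_eq_same]; simp
  have hv : Q (Pi.single a 1 - Pi.single b 1) = -1 := by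
    rw [Reflections.map_sub', hQa, hQb, hpa, Pi.single_eq_same]; simp
  refine ⟨hu, hv, fun x => ?_⟩
  have hu0 : Q (Pi.single a 1 + Pi.single b 1) ≠ 0 := by rw [hu]; exact one_ne_zero
  have hv0 : Q (Pi.single a 1 - Pi.single b 1) ≠ 0 := by rw [hv]; exact neg_ne_zero.2 one_ne_zero
  rw [act_mul, act_refl hv0, act_refl hu0, hu, hv, QuadraticMap.polar_sub_left,
    QuadraticMap.polar_add_left, hpa, hpb, hpa, hpb]
  funext k
  simp only [Pi.sub_apply, Pi.add_apply, Pi.smul_apply, smul_eq_mul, Pi.single_apply]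
  by_cases ha : k = a
  · subst ha
    simp [hab, hab.symm]
  · by_cases hb : k = b
    · subst hb
      simp [hab, hab.symm]
    · simp [ha, hb]

/-- The involution negating the pairs of level below `i` is a product of reflections. -/
theorem exists_negPairs {m : ℕ} (h2 : (2 : F) ≠ 0) (a b : Fin m → ι) (hab : ∀ j, a j ≠ b j)
    (lev : ι → ℕ) (hlev : ∀ (j : Fin m) (k : ι), lev k = j ↔ (k = a j ∨ k = b j))
    (hpa : ∀ j x, polar ⇑Q (Pi.single (a j) 1) x = x (b j))
    (hpb : ∀ j x, polar ⇑Q (Pi.single (b j) 1) x = x (a j)) :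
    ∀ i, i ≤ m → ∃ vs : List (ι → F), (∀ v ∈ vs, Q v ≠ 0) ∧ vs.length = 2 * i ∧
      (vs.map fun v => Q v).prod = (-1) ^ i ∧
      mat (reflProd Q vs) = Matrix.diagonal fun k => if lev k < i then (-1 : F) else 1 := by
  intro i
  induction i with
  | zero =>
    intro _
    refine ⟨[], by simp, by simp, by simp, ?_⟩
    simp [reflProd, mat]
  | succ i ih =>
    intro hi
    obtain ⟨vs, hvs, hlen, hprod, hmat⟩ := ih (by omega)
    let j : Fin m := ⟨i, by omega⟩
    obtain ⟨hu, hv, hact⟩ := refl_pair h2 (hab j) (hpa j) (hpb j)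
    refine ⟨(Pi.single (a j) 1 + Pi.single (b j) 1) :: (Pi.single (a j) 1 - Pi.single (b j) 1) :: vs,
      ?_, by simp [hlen]; ring, ?_, ?_⟩
    · intro v hv'
      rcases List.mem_cons.1 hv' with rfl | hv'
      · rw [hu]; exact one_ne_zero
      · rcases List.mem_cons.1 hv' with rfl | hv'
        · rw [hv]; exact neg_ne_zero.2 one_ne_zero
        · exact hvs v hv'
    · rw [List.map_cons, List.map_cons, List.prod_cons, List.prod_cons, hu, hv, hprod, pow_succ]
      ring
    · apply Matrix.ext_iff_mulVec.mpr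
      intro x
      rw [reflProd_cons, reflProd_cons, ← mul_assoc]
      show act _ x = _
      rw [act_mul, hact]
      funext k
      rw [Matrix.mulVec_diagonal]
      have hk : act (reflProd Q vs) x k = (if lev k < i then (-1 : F) else 1) * x k := by
        rw [act, hmat, Matrix.mulVec_diagonal]
      show (if k = a j ∨ k = b j then -(act (reflProd Q vs) x k) else act (reflProd Q vs) x k) = _
      rw [hk]
      by_cases hkj : lev k = i
      · rw [if_pos ((hlev j k).1 hkj), if_neg (by omega), if_pos (by omega)]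
        ring
      · rw [if_neg fun h => hkj ((hlev j k).2 h)]
        by_cases hlt : lev k < i
        · rw [if_pos hlt, if_pos (by omega)]
        · rw [if_neg hlt, if_neg (by omega)]

theorem isSquare_neg_one_pow_iff [Fintype F] {q : ℕ} (hF : Fintype.card F = q) (hq : Odd q)
    (i : ℕ) : IsSquare ((-1 : F) ^ i) ↔ q ^ i % 4 = 1 := by
  have hq4 : q % 4 = 1 ∨ q % 4 = 3 := by rcases hq with ⟨r, hr⟩; omega
  rcases Nat.even_or_odd i with ⟨r, rfl⟩ | ⟨r, rfl⟩
  · refine iff_of_true ⟨1, by rw [← two_mul, pow_mul]; simp⟩ ?_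
    rw [← two_mul, pow_mul, Nat.pow_mod]
    have : q ^ 2 % 4 = 1 := by rw [Nat.pow_mod]; rcases hq4 with h | h <;> rw [h]
    rw [this]; simp
  · rw [pow_succ, pow_succ, pow_mul, pow_mul, neg_one_sq, one_pow, one_mul,
      FiniteField.isSquare_neg_one_iff, hF, Nat.mul_mod, Nat.pow_mod]
    have : q ^ 2 % 4 = 1 := by rw [Nat.pow_mod]; rcases hq4 with h | h <;> rw [h]
    rw [this]
    rcases hq4 with h | h <;> simp [h]

end Cfsg.Agent.Forms59

namespace Cfsg.Agent.Forms59

open Matrix QuadraticMap Cfsg.Agent.Reflections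

theorem two_ne_zero_of_odd {F : Type*} [Field F] [Fintype F] {q : ℕ} (hF : Fintype.card F = q)
    (hq : Odd q) : (2 : F) ≠ 0 :=
  Ring.two_ne_zero fun h => by
    haveI : CharP F 2 := h ▸ ringChar.charP F
    have := FiniteField.even_card_of_char_two (F := F) h
    rcases hq with ⟨r, hr⟩
    omega

/-- The involution negating the first `i` hyperbolic pairs lies in Omega iff `q^i ≡ 1 mod 4`. -/
theorem exists_negPairs_omega_iff {ι : Type} [Fintype ι] [DecidableEq ι] {F : Type*} [Field F]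
    [Fintype F] {Q : QuadraticForm F (ι → F)} (h2 : (2 : F) ≠ 0) {q : ℕ}
    (hF : Fintype.card F = q) (hq : Odd q) {m : ℕ} (a b : Fin m → ι) (hab : ∀ j, a j ≠ b j)
    (lev : ι → ℕ) (hlev : ∀ (j : Fin m) (k : ι), lev k = j ↔ (k = a j ∨ k = b j))
    (hpa : ∀ j x, polar ⇑Q (Pi.single (a j) 1) x = x (b j))
    (hpb : ∀ j x, polar ⇑Q (Pi.single (b j) 1) x = x (a j))
    (hnd : ∀ x, (∀ y, polar ⇑Q x y = 0) → x = 0) (hn : 2 ≤ Fintype.card ι)
    (i : ℕ) (_hi : 1 ≤ i) (him : i ≤ m) :
    (∃ g : ↥(Cfsg.isometryGroup F ⇑Q), g ∈ Cfsg.Omega F ⇑Q ∧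
      ((g : Matrix.GeneralLinearGroup ι F) : Matrix ι ι F) =
        Matrix.diagonal fun k => if lev k < i then (-1 : F) else 1) ↔ q ^ i % 4 = 1 := by
  classical
  have hQ : Q.polarBilin.Nondegenerate :=
    ⟨hnd, fun x hx => hnd x fun y => by rw [polar_comm]; exact hx y⟩
  obtain ⟨vs, hvs, hlen, hprod, hmat⟩ := exists_negPairs h2 a b hab lev hlev hpa hpb i him
  rw [← isSquare_neg_one_pow_iff hF hq i, ← hprod]
  exact (exists_mat_omega_iff h2 hQ hn vs hvs hmat).trans (and_iff_right ⟨i, by omega⟩)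

end Cfsg.Agent.Forms59
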