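import Cfsg.Agent.Forms59.CharTwo
import Cfsg.Agent.Forms59.Spinor

/-!
A membership criterion for Omega valid in every characteristic, and consequences.
-/

set_option autoImplicit false
set_option linter.unusedSectionVars false

namespace Cfsg.Agent.Forms59

open Matrix QuadraticMap Cfsg.Agent.Reflections
open scoped Matrix commutatorElement

variable {ι : Type} [Fintype ι] [DecidableEq ι] {F : Type*} [Field F] [Fintype F]
variable {Q : QuadraticForm F (ι → F)}

theorem charTwo_of_two_eq_zero {K : Type*} [Field K] (h2 : (2 : K) = 0) : CharP K 2 :=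
  (CharP.charP_iff_prime_eq_zero Nat.prime_two).2 (by exact_mod_cast h2)

theorem isSquare_of_two_eq_zero (h2 : (2 : F) = 0) (a : F) : IsSquare a := by
  haveI := charTwo_of_two_eq_zero h2
  exact FiniteField.isSquare_of_char_two (ringChar.eq F 2) a

theorem reflGroup_top_general (hQ : (QuadraticMap.polarBilin Q).Nondegenerate)
    (h : Fintype.card F ≠ 2 ∨ Fintype.card ι ≠ 4) : Reflections.reflGroup Q = ⊤ := by
  by_cases h2 : (2 : F) = 0
  · haveI := charTwo_of_two_eq_zero h2
    exact matReflGroup_eq_top hQ (by rwa [Nat.card_eq_fintype_card])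
  · exact reflGroup_eq_top_of_two_ne_zero h2 hQ

/-- Every isometry is a product of reflections. -/
theorem exists_reflProd (hQ : (QuadraticMap.polarBilin Q).Nondegenerate)
    (h : Fintype.card F ≠ 2 ∨ Fintype.card ι ≠ 4) (g : ↥(Cfsg.isometryGroup F ⇑Q)) :
    ∃ vs : List (ι → F), (∀ v ∈ vs, Q v ≠ 0) ∧ g = reflProd Q vs := by
  refine reflGroup_induction (p := fun g => ∃ vs : List (ι → F), (∀ v ∈ vs, Q v ≠ 0) ∧
    g = reflProd Q vs) ⟨[], by simp, rfl⟩ ?_ (reflGroup_top_general hQ h ▸ Subgroup.mem_top g)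
  rintro v g hv ⟨vs, hvs, rfl⟩
  exact ⟨v :: vs, by simpa [hv] using hvs, (reflProd_cons v vs).symm⟩

theorem parity_reflProd [CharP F 2] {δ : ↥(Cfsg.isometryGroup F ⇑Q) →* Multiplicative (ZMod 2)}
    (hδ : ∀ v, Q v ≠ 0 → δ (refl Q v) = Multiplicative.ofAdd 1) :
    ∀ vs : List (ι → F), (∀ v ∈ vs, Q v ≠ 0) →
      δ (reflProd Q vs) = Multiplicative.ofAdd (vs.length : ZMod 2)
  | [], _ => by simp [reflProd]
  | v :: vs, hvs => by
    rw [reflProd_cons, map_mul, hδ v (hvs v (by simp)),
      parity_reflProd hδ vs (fun w hw => hvs w (by simp [hw])), ← ofAdd_add, List.length_cons,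
      Nat.cast_succ, add_comm]

/-- Products of reflections inside Omega have even length and square value product. -/
theorem even_and_square_of_mem_omega (hQ : (QuadraticMap.polarBilin Q).Nondegenerate)
    (h : Fintype.card F ≠ 2 ∨ Fintype.card ι ≠ 4) (vs : List (ι → F)) (hvs : ∀ v ∈ vs, Q v ≠ 0)
    (hmem : reflProd Q vs ∈ Cfsg.Omega F ⇑Q) :
    Even vs.length ∧ IsSquare (vs.map fun v => Q v).prod := by
  classical
  by_cases h2 : (2 : F) = 0
  · haveI := charTwo_of_two_eq_zero h2
    obtain ⟨δ, hδ⟩ := exists_parityHom hQ (by rwa [Nat.card_eq_fintype_card])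
    have := Abelianization.commutator_subset_ker δ hmem
    rw [MonoidHom.mem_ker, parity_reflProd hδ vs hvs, ofAdd_eq_one,
      ZMod.natCast_eq_zero_iff_even] at this
    exact ⟨this, isSquare_of_two_eq_zero h2 _⟩
  · obtain ⟨ε, -, hε⟩ := exists_nonsquare_scalar (F := F) h2
    have hne : (vs.map fun v => Q v).prod ≠ 0 := by
      refine List.prod_ne_zero fun h0 => ?_
      obtain ⟨v, hv, hv0⟩ := List.mem_map.1 h0
      exact hvs v hv hv0
    obtain ⟨e1, e2⟩ := theta_reflProd h2 hε vs hvs
    rw [Abelianization.commutator_subset_ker (theta Q ε) hmem, Units.val_one] at e1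
    rw [Abelianization.commutator_subset_ker (theta Q 1) hmem, Units.val_one, ← e1, mul_one] at e2
    exact ⟨(neg_one_pow_eq_one_iff_even (by decide)).1 e2.symm,
      (quadraticChar_one_iff_isSquare hne).1 e1.symm⟩

/-- The membership criterion. -/
theorem mem_omega_of_even_square (hQ : (QuadraticMap.polarBilin Q).Nondegenerate)
    (h : Fintype.card F ≠ 2 ∨ Fintype.card ι ≠ 4) (hn : 2 ≤ Fintype.card ι) (vs : List (ι → F))
    (hvs : ∀ v ∈ vs, Q v ≠ 0) (he : Even vs.length) (hs : IsSquare (vs.map fun v => Q v).prod) :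
    reflProd Q vs ∈ Cfsg.Omega F ⇑Q := by
  classical
  by_cases h2 : (2 : F) = 0
  · haveI := charTwo_of_two_eq_zero h2
    rw [omega_eq_closure_pairs hQ (by rwa [Nat.card_eq_fintype_card])]
    obtain ⟨r, hr⟩ := he
    clear hs
    induction r generalizing vs with
    | zero =>
      rw [List.eq_nil_of_length_eq_zero hr]
      exact one_mem _
    | succ r ih =>
      match vs, hr, hvs with
      | [], hr, _ => simp at hr
      | [_], hr, _ => simp at hr; omega
      | u :: v :: vs, hr, hvs =>
        rw [reflProd_cons, reflProd_cons, ← mul_assoc]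
        refine mul_mem (Subgroup.subset_closure
          (reflPairs_mem (hvs u (by simp)) (hvs v (by simp)))) (ih vs ?_ ?_)
        · exact fun w hw => hvs w (by simp [hw])
        · simp at hr; omega
  · exact (reflProd_mem_omega_iff h2 hQ hn vs hvs).2 ⟨he, hs⟩

/-- Squares of isometries lie in Omega. -/
theorem sq_mem_omega (hQ : (QuadraticMap.polarBilin Q).Nondegenerate)
    (h : Fintype.card F ≠ 2 ∨ Fintype.card ι ≠ 4) (g : ↥(Cfsg.isometryGroup F ⇑Q)) :
    g * g ∈ Cfsg.Omega F ⇑Q := by
  have key : Abelianization.of g * Abelianization.of g = 1 := by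
    refine reflGroup_induction (p := fun g => Abelianization.of g * Abelianization.of g = 1)
      (by simp) ?_ (reflGroup_top_general hQ h ▸ Subgroup.mem_top g)
    intro v g hv hg
    rw [map_mul, mul_mul_mul_comm, hg, mul_one, ← map_mul, refl_mul_self hv, map_one]
  rw [← map_mul] at key
  exact (QuotientGroup.eq_one_iff _).1 key

end Cfsg.Agent.Forms59
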