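import Cfsg.Agent.Forms59.IsometryConj
import Cfsg.Agent.Lib.Forms.Witt
import Cfsg.Agent.Lib.Forms.Sesq

set_option autoImplicit false

namespace Cfsg.Agent.Forms59

variable {F V : Type*} [Field F] [AddCommGroup V] [Module F V]

section Decomp

variable (B : LinearMap.BilinForm F V) (a : Module.End F V) {N : ℕ}

theorem pow_add_of_fixed {v w : V} (hv : a v = v + w) (hw : a w = w) (j : ℕ) :
    (a ^ j) v = v + j • w := by
  induction j with
  | zero => simp
  | succ j ih =>
    rw [pow_succ', Module.End.mul_apply, ih, map_add, map_nsmul, hv, hw, succ_nsmul]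
    abel

theorem disjoint_range_ker (hN : a ^ N = 1) (hNF : (N : F) ≠ 0) :
    Disjoint (LinearMap.range (a * a - 1)) (LinearMap.ker (a * a - 1)) := by
  rw [Submodule.disjoint_def]
  intro w hw hk
  obtain ⟨v, rfl⟩ := hw
  have h1 : (a * a) v = v + (a * a - 1) v := by simp
  have h2 : (a * a) ((a * a - 1) v) = (a * a - 1) v :=
    sub_eq_zero.1 (by simpa using LinearMap.mem_ker.1 hk)
  have h3 := pow_add_of_fixed (a * a) h1 h2 N
  rw [← pow_two, ← pow_mul, mul_comm, pow_mul, hN, one_pow, Module.End.one_apply,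
    left_eq_add, ← Nat.cast_smul_eq_nsmul F] at h3
  rcases smul_eq_zero.1 h3 with h | h
  · exact absurd h hNF
  · simpa [pow_two] using h

theorem isCompl_range_ker [FiniteDimensional F V] (hN : a ^ N = 1) (hNF : (N : F) ≠ 0) :
    IsCompl (LinearMap.range (a * a - 1)) (LinearMap.ker (a * a - 1)) := by
  refine ⟨disjoint_range_ker a hN hNF, ?_⟩
  rw [codisjoint_iff]
  apply Submodule.eq_top_of_finrank_eq
  have h := Submodule.finrank_sup_add_finrank_inf_eq (LinearMap.range (a * a - 1)) (LinearMap.ker (a * a - 1))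
  rw [(disjoint_range_ker a hN hNF).eq_bot, finrank_bot, LinearMap.finrank_range_add_finrank_ker] at h
  simpa using h

theorem orth_range_ker (ha : ∀ u v, B (a u) (a v) = B u v) :
    ∀ w ∈ LinearMap.range (a * a - 1), ∀ k ∈ LinearMap.ker (a * a - 1), B w k = 0 := by
  rintro w ⟨x, rfl⟩ k hk
  have hk' : a (a k) = k := sub_eq_zero.1 (by simpa using LinearMap.mem_ker.1 hk)
  simp only [LinearMap.sub_apply, Module.End.mul_apply, Module.End.one_apply, map_sub]
  have h1 := ha (a x) (a k)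
  rw [hk'] at h1
  rw [h1.trans (ha x k), sub_self]

end Decomp

variable [FiniteDimensional F V]

/-- On the part without eigenvalues `±1`, conjugate isometries are conjugate by an isometry. -/
theorem exists_range_isometry [Finite F] (B : LinearMap.BilinForm F V) (hB : B.Nondegenerate)
    (ε : F) (hBε : ∀ u v, B u v = ε * B v u) (a b g : Module.End F V) (hg : Function.Bijective g)
    (hgab : g * a = b * g) (ha : ∀ u v, B (a u) (a v) = B u v) (hb : ∀ u v, B (b u) (b v) = B u v)
    {N : ℕ} (hN : a ^ N = 1) (hNF : (N : F) ≠ 0) :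
    ∃ f : V →ₗ[F] V, (∀ v ∈ LinearMap.range (a * a - 1), f v = 0 → v = 0) ∧
      (∀ u ∈ LinearMap.range (a * a - 1), ∀ v ∈ LinearMap.range (a * a - 1), B (f u) (f v) = B u v) ∧
      (∀ v ∈ LinearMap.range (a * a - 1), f (a v) = b (f v)) ∧
      (LinearMap.range (a * a - 1)).map f = LinearMap.range (b * b - 1) := by
  classical
  set W := LinearMap.range (a * a - 1) with hW
  set K := LinearMap.ker (a * a - 1) with hK
  have hbN : b ^ N = 1 := by
    have hsc : SemiconjBy g a b := hgab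
    have h := (hsc.pow_right N).eq
    rw [hN, mul_one] at h
    ext x
    obtain ⟨y, rfl⟩ := hg.2 x
    exact (LinearMap.congr_fun h y).symm
  have hgs : ∀ x, g (a x) = b (g x) := fun x => LinearMap.congr_fun hgab x
  have hgW : W.map g = LinearMap.range (b * b - 1) := by
    ext y
    constructor
    · rintro ⟨_, ⟨x, rfl⟩, rfl⟩
      exact ⟨g x, by simp [hgs]⟩
    · rintro ⟨z, rfl⟩
      obtain ⟨x, rfl⟩ := hg.2 z
      exact ⟨_, LinearMap.mem_range_self _ x, by simp [hgs]⟩
  have hgK : ∀ k ∈ LinearMap.ker (b * b - 1), ∃ x ∈ K, g x = k := by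
    intro k hk
    obtain ⟨x, rfl⟩ := hg.2 k
    refine ⟨x, LinearMap.mem_ker.2 (hg.1 ?_), rfl⟩
    rw [map_zero]
    simpa [hgs] using LinearMap.mem_ker.1 hk
  have haW : ∀ w ∈ W, a w ∈ W := by
    rintro _ ⟨x, rfl⟩
    exact ⟨a x, by simp⟩
  -- the two forms on W
  let aW : Module.End F W := a.restrict haW
  let B1 : LinearMap.BilinForm F W := B.compl₁₂ W.subtype W.subtype
  let B2 : LinearMap.BilinForm F W := B.compl₁₂ (g ∘ₗ W.subtype) (g ∘ₗ W.subtype)
  have hsplit : ∀ (b' : Module.End F V), (∀ u v, B (b' u) (b' v) = B u v) → b' ^ N = 1 →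
      ∀ w ∈ LinearMap.range (b' * b' - 1), (∀ v ∈ LinearMap.range (b' * b' - 1), B w v = 0) → w = 0 := by
    intro b' hb' hb'N w hw hwv
    apply hB.1
    intro v
    obtain ⟨v₁, hv₁, v₂, hv₂, rfl⟩ := Submodule.mem_sup.1
      ((isCompl_range_ker b' hb'N hNF).sup_eq_top ▸ Submodule.mem_top : v ∈ _)
    rw [map_add, hwv v₁ hv₁, orth_range_ker B b' hb' w hw v₂ hv₂, add_zero]
  have hsymm1 : ∀ u v : W, B1 u v = ε * B1 v u := fun u v => hBε _ _
  have hsymm2 : ∀ u v : W, B2 u v = ε * B2 v u := fun u v => hBε _ _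
  have hB1 : B1.Nondegenerate := by
    have key : ∀ u : W, (∀ v, B1 u v = 0) → u = 0 := fun u hu =>
      Subtype.ext (hsplit a ha hN u u.2 fun v hv => hu ⟨v, hv⟩)
    exact ⟨fun u hu => key u hu, fun v hv => key v fun u => by rw [hsymm1, hv, mul_zero]⟩
  have hB2 : B2.Nondegenerate := by
    have key : ∀ u : W, (∀ v, B2 u v = 0) → u = 0 := by
      intro u hu
      have h0 := hsplit b hb hbN (g u) (hgW ▸ Submodule.mem_map_of_mem u.2) (fun v hv => by
        rw [← hgW] at hv
        obtain ⟨x, hx, rfl⟩ := hv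
        exact hu ⟨x, hx⟩)
      exact Subtype.ext (hg.1 (h0.trans (map_zero g).symm))
    exact ⟨fun u hu => key u hu, fun v hv => key v fun u => by rw [hsymm2, hv, mul_zero]⟩
  have hinj : Function.Injective ⇑(aW * aW - 1) := by
    rw [injective_iff_map_eq_zero]
    intro w hw
    have hw' : (a * a - 1) (w : V) = 0 := congr_arg Subtype.val hw
    exact Subtype.ext ((Submodule.disjoint_def.1 (disjoint_range_ker a hN hNF)) _ w.2 (LinearMap.mem_ker.2 hw'))
  obtain ⟨c, hcaW, hcB⟩ := exists_commute_of_forms aW B1 B2 ε hsymm1 hsymm2 hB1 hB2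
    (fun u v => ha _ _)
    (fun u v => by
      show B (g (a (u : V))) (g (a (v : V))) = B (g (u : V)) (g (v : V))
      rw [hgs, hgs, hb])
    hinj
  obtain ⟨cW, hcW⟩ : ∃ cW : W →ₗ[F] W, cW = c.toLinearMap := ⟨_, rfl⟩
  obtain ⟨dW, hdW⟩ : ∃ dW : W →ₗ[F] W, dW = c.symm.toLinearMap := ⟨_, rfl⟩
  have hcd : ∀ w, cW (dW w) = w := fun w => by subst hcW hdW; exact c.apply_symm_apply w
  have hdc : ∀ w, dW (cW w) = w := fun w => by subst hcW hdW; exact c.symm_apply_apply w
  have hcaW : ∀ w, cW (aW w) = aW (cW w) := fun w => by subst hcW; exact hcaW w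
  have hcB : ∀ u v, B2 u v = B1 (cW u) (cW v) := fun u v => by subst hcW; exact hcB u v
  obtain ⟨f, hf⟩ := LinearMap.exists_extend (g ∘ₗ W.subtype ∘ₗ dW)
  have hfW : ∀ w : W, f (w : V) = g (dW w : V) := fun w => LinearMap.congr_fun hf w
  refine ⟨f, fun v hv h0 => ?_, fun u hu v hv => ?_, fun v hv => ?_, ?_⟩
  · have h1 : dW ⟨v, hv⟩ = 0 := Subtype.ext (hg.1 (by rw [← hfW, h0]; simp))
    have h2 := hcd ⟨v, hv⟩
    rw [h1, map_zero] at h2
    exact congr_arg Subtype.val h2.symm
  · have := hcB (dW ⟨u, hu⟩) (dW ⟨v, hv⟩)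
    rw [hcd, hcd] at this
    show B (f ((⟨u, hu⟩ : W) : V)) (f ((⟨v, hv⟩ : W) : V)) = _
    rw [hfW, hfW]
    exact this
  · have hcomm : dW (aW ⟨v, hv⟩) = aW (dW ⟨v, hv⟩) := by
      conv_lhs => rw [← hcd ⟨v, hv⟩, ← hcaW, hdc]
    show f ((aW ⟨v, hv⟩ : W) : V) = b (f ((⟨v, hv⟩ : W) : V))
    rw [hfW, hfW, hcomm]
    exact hgs _
  · rw [← hgW]
    ext y
    constructor
    · rintro ⟨v, hv, rfl⟩
      exact ⟨_, (dW ⟨v, hv⟩).2, (hfW ⟨v, hv⟩).symm⟩
    · rintro ⟨x, hx, rfl⟩
      exact ⟨_, (cW ⟨x, hx⟩).2, by rw [hfW, hdc]⟩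

end Cfsg.Agent.Forms59

namespace Cfsg.Agent.Forms59

variable {F V : Type*} [Field F] [AddCommGroup V] [Module F V]

theorem commute_of_extend (B : LinearMap.BilinForm F V) (a b : Module.End F V) (G : V ≃ₗ[F] V)
    (hG : ∀ u v, B (G u) (G v) = B u v) (X Y : Submodule F V) (hXY : X ⊔ Y = ⊤)
    (hYX : ∀ x ∈ X, ∀ y ∈ Y, B x y = 0) (haX : ∀ x ∈ X, a x ∈ X) (hY : ∀ y ∈ Y, a y = y)
    (hGX : ∀ x ∈ X, G (a x) = b (G x))
    (hfix : ∀ v, (∀ x ∈ X, B (G x) v = 0) → b v = v) : ∀ v, G (a v) = b (G v) := by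
  intro v
  obtain ⟨x, hx, y, hy, rfl⟩ := Submodule.mem_sup.1 (hXY ▸ Submodule.mem_top : v ∈ X ⊔ Y)
  have hyb : b (G y) = G y := hfix _ fun x hx => by rw [hG]; exact hYX x hx y hy
  simp only [map_add]
  rw [hY y hy, hGX x hx, hyb]

theorem eq_one_of_sq_fixed {a : Module.End F V} {N : ℕ} (hN : a ^ N = 1) (hodd : Odd N) {v : V}
    (hv : a (a v) = v) : a v = v := by
  obtain ⟨r, rfl⟩ := hodd
  have h : ∀ j, (a ^ (2 * j)) v = v := by
    intro j
    induction j with
    | zero => simp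
    | succ j ih => rw [Nat.mul_succ, pow_add, Module.End.mul_apply, pow_two, Module.End.mul_apply, hv, ih]
  have h2 := h r
  rw [pow_succ', ] at hN
  have h3 := LinearMap.congr_fun hN v
  rw [Module.End.mul_apply, h2] at h3
  exact h3

variable [FiniteDimensional F V]

theorem mem_ker_of_orth_range (B : LinearMap.BilinForm F V) (hB : B.Nondegenerate) (ε : F)
    (hBε : ∀ u v, B u v = ε * B v u) (a : Module.End F V) (ha : ∀ u v, B (a u) (a v) = B u v)
    {N : ℕ} (hN : a ^ N = 1) (hNF : (N : F) ≠ 0) {v : V}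
    (hv : ∀ w ∈ LinearMap.range (a * a - 1), B w v = 0) : v ∈ LinearMap.ker (a * a - 1) := by
  obtain ⟨w, hw, k, hk, rfl⟩ := Submodule.mem_sup.1
    ((isCompl_range_ker a hN hNF).sup_eq_top ▸ Submodule.mem_top : v ∈ _)
  have hw0 : w = 0 := by
    apply hB.1
    intro u
    obtain ⟨u₁, hu₁, u₂, hu₂, rfl⟩ := Submodule.mem_sup.1
      ((isCompl_range_ker a hN hNF).sup_eq_top ▸ Submodule.mem_top : u ∈ _)
    have h1 := hv u₁ hu₁
    rw [map_add, orth_range_ker B a ha u₁ hu₁ k hk, add_zero] at h1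
    rw [map_add, hBε w u₁, h1, mul_zero, zero_add, orth_range_ker B a ha w hw u₂ hu₂]
  rwa [hw0, zero_add]

/-- Isometries of odd order coprime to the characteristic of a quadratic form. -/
theorem orth_conj [Finite F] (Q : QuadraticForm F V) (hQ : (QuadraticMap.polarBilin Q).Nondegenerate)
    (a b g : Module.End F V) (hg : Function.Bijective g) (hgab : g * a = b * g)
    (ha : ∀ v, Q (a v) = Q v) (hb : ∀ v, Q (b v) = Q v) {N : ℕ} (hN : a ^ N = 1) (hbN : b ^ N = 1)
    (hNF : (N : F) ≠ 0) (hodd : Odd N) :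
    ∃ G : V ≃ₗ[F] V, (∀ v, Q (G v) = Q v) ∧ ∀ v, G (a v) = b (G v) := by
  set B := QuadraticMap.polarBilin Q with hB
  have hsym : ∀ u v, B u v = (1 : F) * B v u := fun u v => by
    rw [one_mul]; exact QuadraticMap.polar_comm _ _ _
  have hpol : ∀ (c : Module.End F V), (∀ v, Q (c v) = Q v) → ∀ u v, B (c u) (c v) = B u v := fun c hc u v => by
    simp only [hB, QuadraticMap.polarBilin_apply_apply, QuadraticMap.polar, ← map_add, hc]
  obtain ⟨f, hfinj, hfB, hfab, hfim⟩ :=
    exists_range_isometry B hQ 1 hsym a b g hg hgab (hpol a ha) (hpol b hb) hN hNF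
  set W := LinearMap.range (a * a - 1) with hW
  have haW : ∀ w ∈ W, a w ∈ W := by rintro _ ⟨x, rfl⟩; exact ⟨a x, by simp⟩
  -- the discrepancy is an invariant additive function, hence zero
  have hQf : ∀ w ∈ W, Q (f w) = Q w := by
    have hadd : ∀ u ∈ W, ∀ v ∈ W, Q (f (u + v)) - Q (u + v) = (Q (f u) - Q u) + (Q (f v) - Q v) := by
      intro u hu v hv
      have := hfB u hu v hv
      simp only [hB, QuadraticMap.polarBilin_apply_apply, QuadraticMap.polar] at this
      rw [map_add f]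
      linear_combination this
    have hinv : ∀ u ∈ W, Q (f (a u)) - Q (a u) = Q (f u) - Q u := by
      intro u hu
      rw [hfab u hu, hb, ha]
    intro w hw
    obtain ⟨x, rfl⟩ := hw
    obtain ⟨x₁, hx₁, x₂, hx₂, rfl⟩ := Submodule.mem_sup.1
      ((isCompl_range_ker a hN hNF).sup_eq_top ▸ Submodule.mem_top : x ∈ _)
    rw [map_add, LinearMap.mem_ker.1 hx₂, add_zero]
    have hm : (a * a - 1) x₁ ∈ W := LinearMap.mem_range_self _ _
    have h1 := hadd _ hm _ hx₁
    have he : (a * a - 1) x₁ + x₁ = a (a x₁) := by simp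
    rw [he, hinv _ (haW _ hx₁), hinv _ hx₁] at h1
    linear_combination (-1 : F) * h1
  obtain ⟨G, hG, hGW⟩ := Cfsg.Agent.Forms.witt_quadratic' Q hQ W f hfinj hQf
  refine ⟨G, hG, commute_of_extend B a b G (hpol G.toLinearMap hG) W (LinearMap.ker (a * a - 1))
    (isCompl_range_ker a hN hNF).sup_eq_top (orth_range_ker B a (hpol a ha)) haW (fun y hy => ?_) (fun x hx => ?_) ?_⟩
  · exact eq_one_of_sq_fixed hN hodd (sub_eq_zero.1 (by simpa using LinearMap.mem_ker.1 hy))
  · rw [hGW _ (haW x hx), hGW x hx, hfab x hx]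
  · intro v hv
    have hk := mem_ker_of_orth_range B hQ 1 hsym b (hpol b hb) hbN hNF (v := v) (fun w hw => by
      rw [← hfim] at hw
      obtain ⟨x, hx, rfl⟩ := hw
      rw [← hGW x hx]
      exact hv x hx)
    exact eq_one_of_sq_fixed hbN hodd (sub_eq_zero.1 (by simpa using LinearMap.mem_ker.1 hk))

theorem exists_linear_of_family {m : ℕ} (v : Fin m ⊕ Fin m → V) (hv : LinearIndependent F v)
    (w : Fin m ⊕ Fin m → V) : ∃ f : V →ₗ[F] V, ∀ i, f (v i) = w i := by
  obtain ⟨f, hf⟩ := LinearMap.exists_extend ((Module.Basis.span hv).constr F w)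
  refine ⟨f, fun i => ?_⟩
  have h := LinearMap.congr_fun hf (Module.Basis.span hv i)
  rw [LinearMap.comp_apply, Module.Basis.constr_basis] at h
  rw [← h, Submodule.subtype_apply, Module.Basis.span_apply]

/-- Isometries of order coprime to the characteristic of an alternating form. -/
theorem symp_conj [Finite F] (B : LinearMap.BilinForm F V) (hB : B.Nondegenerate) (hA : B.IsAlt)
    (a b g : Module.End F V) (hg : Function.Bijective g) (hgab : g * a = b * g)
    (ha : ∀ u v, B (a u) (a v) = B u v) (hb : ∀ u v, B (b u) (b v) = B u v) {N : ℕ} (hN : a ^ N = 1)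
    (hbN : b ^ N = 1) (hNF : (N : F) ≠ 0) :
    ∃ G : V ≃ₗ[F] V, (∀ u v, B (G u) (G v) = B u v) ∧ ∀ v, G (a v) = b (G v) := by
  have hsym : ∀ u v, B u v = (-1 : F) * B v u := fun u v => by
    rw [neg_one_mul]; exact (LinearMap.IsAlt.neg hA v u).symm
  obtain ⟨f, hfinj, hfB, hfab, hfim⟩ := exists_range_isometry B hB (-1) hsym a b g hg hgab ha hb hN hNF
  set W := LinearMap.range (a * a - 1) with hW
  have haW : ∀ w ∈ W, a w ∈ W := by rintro _ ⟨x, rfl⟩; exact ⟨a x, by simp⟩
  have hc := isCompl_range_ker a hN hNF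
  by_cases h2 : (2 : F) = 0
  · have hodd : Odd N := by
      rcases Nat.even_or_odd N with ⟨r, rfl⟩ | h
      · exact absurd (by push_cast; rw [← two_mul, h2, zero_mul]) hNF
      · exact h
    obtain ⟨G, hG, hGW⟩ := Cfsg.Agent.Forms.witt_alternating' B hB hA W f hfinj hfB
    refine ⟨G, hG, commute_of_extend B a b G hG W (LinearMap.ker (a * a - 1))
      hc.sup_eq_top (orth_range_ker B a ha) haW (fun y hy => ?_) (fun x hx => ?_) ?_⟩
    · exact eq_one_of_sq_fixed hN hodd (sub_eq_zero.1 (by simpa using LinearMap.mem_ker.1 hy))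
    · rw [hGW _ (haW x hx), hGW x hx, hfab x hx]
    · intro v hv
      have hk := mem_ker_of_orth_range B hB (-1) hsym b hb hbN hNF (v := v) (fun w hw => by
        rw [← hfim] at hw
        obtain ⟨x, hx, rfl⟩ := hw
        rw [← hGW x hx]
        exact hv x hx)
      exact eq_one_of_sq_fixed hbN hodd (sub_eq_zero.1 (by simpa using LinearMap.mem_ker.1 hk))
  · set E := LinearMap.ker (a + 1) with hE
    set E' := LinearMap.ker (b + 1) with hE'
    have hmemE : ∀ {c : Module.End F V} {v}, v ∈ LinearMap.ker (c + 1) ↔ c v = -v := fun {c v} => by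
      rw [LinearMap.mem_ker, LinearMap.add_apply, Module.End.one_apply, add_eq_zero_iff_eq_neg]
    have horth : ∀ (c : Module.End F V), (∀ u v, B (c u) (c v) = B u v) → ∀ u, c u = u → ∀ v, c v = -v → B u v = 0 := by
      intro c hc u hu v hv
      have h := hc u v
      rw [hu, hv, map_neg] at h
      have : (2 : F) * B u v = 0 := by linear_combination (-1 : F) * h
      exact (mul_eq_zero.1 this).resolve_left h2
    have hsplitK : ∀ (c : Module.End F V) v, c (c v) = v →
        ∃ p q, c p = p ∧ c q = -q ∧ v = p + q := by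
      intro c v hv
      refine ⟨(2 : F)⁻¹ • (v + c v), (2 : F)⁻¹ • (v - c v), by rw [map_smul, map_add, hv, add_comm],
        by rw [map_smul, map_sub, hv, ← smul_neg, neg_sub], ?_⟩
      rw [← smul_add, show v + c v + (v - c v) = (2 : F) • v by rw [two_smul]; abel, smul_smul,
        inv_mul_cancel₀ h2, one_smul]
    have hEK : ∀ {c : Module.End F V} {v}, c v = -v → v ∈ LinearMap.ker (c * c - 1) := fun {c v} hv => by
      simp [hv]
    have hFK : ∀ {c : Module.End F V} {v}, c v = v → v ∈ LinearMap.ker (c * c - 1) := fun {c v} hv => by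
      simp [hv]
    have hndE : ∀ (c : Module.End F V), (∀ u v, B (c u) (c v) = B u v) → c ^ N = 1 →
        ∀ u ∈ LinearMap.ker (c + 1), (∀ v ∈ LinearMap.ker (c + 1), B u v = 0) → u = 0 := by
      intro c hc hcN u hu huv
      apply hB.1
      intro v
      obtain ⟨w, hw, k, hk, rfl⟩ := Submodule.mem_sup.1
        ((isCompl_range_ker c hcN hNF).sup_eq_top ▸ Submodule.mem_top : v ∈ _)
      obtain ⟨p, q, hp, hq, rfl⟩ := hsplitK c k (sub_eq_zero.1 (by simpa using LinearMap.mem_ker.1 hk))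
      rw [map_add, hsym u w, orth_range_ker B c hc w hw u (hEK (hmemE.1 hu)), mul_zero, zero_add,
        map_add, huv q (hmemE.2 hq), add_zero, hsym u p, horth c hc p hp u (hmemE.1 hu), mul_zero]
    obtain ⟨m, e₁, e₂, he₁, he₂, h12, h11, h22, hspan⟩ :=
      Cfsg.Agent.Forms.exists_symplectic_family B hA E (hndE a ha hN)
    obtain ⟨m', e₁', e₂', he₁', he₂', h12', h11', h22', hspan'⟩ :=
      Cfsg.Agent.Forms.exists_symplectic_family B hA E' (hndE b hb hbN)
    have hgs : ∀ x, g (a x) = b (g x) := fun x => LinearMap.congr_fun hgab x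
    have hmap : E.map g = E' := by
      ext y
      constructor
      · rintro ⟨x, hx, rfl⟩
        refine hmemE.2 ?_
        rw [← hgs, hmemE.1 hx, map_neg]
      · intro hy
        obtain ⟨x, rfl⟩ := hg.2 y
        refine ⟨x, hmemE.2 (hg.1 ?_), rfl⟩
        rw [hgs, map_neg]
        exact hmemE.1 hy
    have hmm : m = m' := by
      have d1 := Cfsg.Agent.Forms.finrank_eq_of_symplectic_family B hA E e₁ e₂ he₁ he₂ h12 h11 h22 hspan
      have d2 := Cfsg.Agent.Forms.finrank_eq_of_symplectic_family B hA E' e₁' e₂' he₁' he₂' h12' h11' h22' hspan'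
      have d3 : Module.finrank F (E.map g) = Module.finrank F E :=
        (Submodule.equivMapOfInjective g hg.1 E).finrank_eq.symm
      rw [hmap] at d3
      omega
    subst hmm
    obtain ⟨f₂, hf₂⟩ := exists_linear_of_family (Sum.elim e₁ e₂)
      (Cfsg.Agent.Forms.linearIndependent_symplectic_family B hA e₁ e₂ h12 h11 h22) (Sum.elim e₁' e₂')
    have hEspan : E = Submodule.span F (Set.range (Sum.elim e₁ e₂)) :=
      le_antisymm hspan (Submodule.span_le.2 (by rintro _ ⟨(i | i), rfl⟩ <;> simp [he₁, he₂]))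
    have hf₂B : ∀ u ∈ E, ∀ v ∈ E, B (f₂ u) (f₂ v) = B u v := by
      intro u hu v hv
      rw [hEspan] at hu hv
      induction hu using Submodule.span_induction with
      | mem x hx =>
        obtain ⟨i, rfl⟩ := hx
        induction hv using Submodule.span_induction with
        | mem y hy =>
          obtain ⟨j, rfl⟩ := hy
          rw [hf₂, hf₂]
          rcases i with i | i <;> rcases j with j | j
          · simp [h11, h11']
          · simp [h12, h12']
          · simp only [Sum.elim_inl, Sum.elim_inr]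
            rw [hsym, hsym (e₂ i), h12, h12']
          · simp [h22, h22']
        | zero => simp
        | add y z _ _ hy hz => simp [map_add, hy, hz]
        | smul r y _ hy => simp [map_smul, hy]
      | zero => simp
      | add x z _ _ hx hz => simp [map_add, hx, hz]
      | smul r x _ hx => simp [map_smul, hx]
    have hf₂im : ∀ u ∈ E, f₂ u ∈ E' := by
      intro u hu
      rw [hEspan] at hu
      induction hu using Submodule.span_induction with
      | mem x hx =>
        obtain ⟨i, rfl⟩ := hx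
        rw [hf₂]
        rcases i with i | i <;> simp [he₁', he₂']
      | zero => simp
      | add x z _ _ hx hz => rw [map_add]; exact E'.add_mem hx hz
      | smul r x _ hx => rw [map_smul]; exact E'.smul_mem r hx
    have hE'im : ∀ y ∈ E', ∃ u ∈ E, f₂ u = y := by
      intro y hy
      have h := hspan' hy
      induction h using Submodule.span_induction with
      | mem x hx =>
        obtain ⟨i, rfl⟩ := hx
        exact ⟨_, hEspan ▸ Submodule.subset_span ⟨i, rfl⟩, hf₂ i⟩
      | zero => exact ⟨0, E.zero_mem, map_zero _⟩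
      | add x z hx' hz' hx hz =>
        have hle : Submodule.span F (Set.range (Sum.elim e₁' e₂')) ≤ E' :=
          Submodule.span_le.2 (by rintro _ ⟨(i | i), rfl⟩ <;> simp [he₁', he₂'])
        obtain ⟨u, hu, rfl⟩ := hx (hle hx')
        obtain ⟨v, hv, rfl⟩ := hz (hle hz')
        exact ⟨u + v, E.add_mem hu hv, map_add _ _ _⟩
      | smul r x hx' hx =>
        have hle : Submodule.span F (Set.range (Sum.elim e₁' e₂')) ≤ E' :=
          Submodule.span_le.2 (by rintro _ ⟨(i | i), rfl⟩ <;> simp [he₁', he₂'])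
        obtain ⟨u, hu, rfl⟩ := hx (hle hx')
        exact ⟨r • u, E.smul_mem r hu, map_smul _ _ _⟩
    let P : V →ₗ[F] V := (2 : F)⁻¹ • (1 - a)
    let fX : V →ₗ[F] V := LinearMap.ofIsCompl hc (f ∘ₗ W.subtype) (f₂ ∘ₗ P ∘ₗ (LinearMap.ker (a * a - 1)).subtype)
    have hfXW : ∀ w ∈ W, fX w = f w := fun w hw => LinearMap.ofIsCompl_left_apply hc ⟨w, hw⟩
    have hfXE : ∀ u ∈ E, fX u = f₂ u := by
      intro u hu
      have h := LinearMap.ofIsCompl_right_apply hc
        (φ := f ∘ₗ W.subtype) (ψ := f₂ ∘ₗ P ∘ₗ (LinearMap.ker (a * a - 1)).subtype) ⟨u, hEK (hmemE.1 hu)⟩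
      refine h.trans ?_
      show f₂ ((2 : F)⁻¹ • (u - a u)) = f₂ u
      rw [hmemE.1 hu, sub_neg_eq_add, ← two_smul F u, smul_smul, inv_mul_cancel₀ h2, one_smul]
    have horthWE : ∀ w ∈ W, ∀ u ∈ E, B w u = 0 := fun w hw u hu =>
      orth_range_ker B a ha w hw u (hEK (hmemE.1 hu))
    have horthWE' : ∀ w ∈ W, ∀ u ∈ E, B (f w) (f₂ u) = 0 := fun w hw u hu =>
      orth_range_ker B b hb _ (hfim ▸ Submodule.mem_map_of_mem hw) _ (hEK (hmemE.1 (hf₂im u hu)))
    have hBX : ∀ u ∈ W ⊔ E, ∀ v ∈ W ⊔ E, B (fX u) (fX v) = B u v := by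
      intro u hu v hv
      obtain ⟨u₁, hu₁, u₂, hu₂, rfl⟩ := Submodule.mem_sup.1 hu
      obtain ⟨v₁, hv₁, v₂, hv₂, rfl⟩ := Submodule.mem_sup.1 hv
      simp only [map_add, LinearMap.add_apply, hfXW _ hu₁, hfXW _ hv₁, hfXE _ hu₂, hfXE _ hv₂]
      rw [hfB _ hu₁ _ hv₁, hf₂B _ hu₂ _ hv₂, horthWE' _ hu₁ _ hv₂, hsym (f₂ u₂) (f v₁),
        horthWE' _ hv₁ _ hu₂, horthWE _ hu₁ _ hv₂, hsym u₂ v₁, horthWE _ hv₁ _ hu₂]
    have hinjX : ∀ v ∈ W ⊔ E, fX v = 0 → v = 0 := by
      intro v hv h0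
      obtain ⟨w, hw, u, hu, rfl⟩ := Submodule.mem_sup.1 hv
      have hw0 : w = 0 := by
        have h := hBX (w + u) hv
        apply hB.1
        intro y
        obtain ⟨y₁, hy₁, y₂, hy₂, rfl⟩ := Submodule.mem_sup.1 (hc.sup_eq_top ▸ Submodule.mem_top : y ∈ _)
        have h' := h y₁ (Submodule.mem_sup_left hy₁)
        rw [h0, map_zero, LinearMap.zero_apply, map_add, LinearMap.add_apply, hsym u y₁,
          horthWE y₁ hy₁ u hu, mul_zero, add_zero] at h'
        rw [map_add, ← h', zero_add, orth_range_ker B a ha w hw y₂ hy₂]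
      rw [hw0, zero_add] at h0 ⊢
      apply hndE a ha hN u hu
      intro y hy
      rw [← hf₂B u hu y hy, ← hfXE u hu, h0]
      simp
    obtain ⟨G, hG, hGX⟩ := Cfsg.Agent.Forms.witt_alternating' B hB hA (W ⊔ E) fX hinjX hBX
    refine ⟨G, hG, commute_of_extend B a b G hG (W ⊔ E) (LinearMap.ker (a - 1)) ?_ ?_ ?_ (fun y hy => ?_) ?_ ?_⟩
    · rw [eq_top_iff, ← hc.sup_eq_top, sup_le_iff]
      refine ⟨le_sup_of_le_left le_sup_left, fun k hk => ?_⟩
      obtain ⟨p, q, hp, hq, rfl⟩ := hsplitK a k (sub_eq_zero.1 (by simpa using LinearMap.mem_ker.1 hk))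
      exact Submodule.add_mem _ (Submodule.mem_sup_right (by simp [hp]))
        (Submodule.mem_sup_left (Submodule.mem_sup_right (hmemE.2 hq)))
    · intro x hx y hy
      obtain ⟨w, hw, u, hu, rfl⟩ := Submodule.mem_sup.1 hx
      have hy' : a y = y := sub_eq_zero.1 (by simpa using LinearMap.mem_ker.1 hy)
      rw [map_add, LinearMap.add_apply, orth_range_ker B a ha w hw y (hFK hy'), hsym u y,
        horth a ha y hy' u (hmemE.1 hu), mul_zero, add_zero]
    · intro x hx
      obtain ⟨w, hw, u, hu, rfl⟩ := Submodule.mem_sup.1 hx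
      rw [map_add, hmemE.1 hu]
      exact Submodule.add_mem _ (Submodule.mem_sup_left (haW w hw)) (Submodule.mem_sup_right (E.neg_mem hu))
    · exact sub_eq_zero.1 (by simpa using LinearMap.mem_ker.1 hy)
    · intro x hx
      obtain ⟨w, hw, u, hu, rfl⟩ := Submodule.mem_sup.1 hx
      simp only [map_add, hmemE.1 hu, map_neg, hGX _ (Submodule.mem_sup_left (haW w hw)),
        hGX _ (Submodule.mem_sup_left hw), hGX _ (Submodule.mem_sup_right hu), hfXW _ (haW w hw),
        hfXW _ hw, hfXE _ hu]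
      rw [hfab w hw, hmemE.1 (hf₂im u hu)]
    · intro v hv
      have hk := mem_ker_of_orth_range B hB (-1) hsym b hb hbN hNF (v := v) (fun w hw => by
        rw [← hfim] at hw
        obtain ⟨x, hx, rfl⟩ := hw
        rw [← hfXW x hx, ← hGX x (Submodule.mem_sup_left hx)]
        exact hv x (Submodule.mem_sup_left hx))
      obtain ⟨p, q, hp, hq, rfl⟩ := hsplitK b v (sub_eq_zero.1 (by simpa using LinearMap.mem_ker.1 hk))
      have hq0 : q = 0 := by
        apply hndE b hb hbN q (hmemE.2 hq)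
        intro y hy
        obtain ⟨u, hu, rfl⟩ := hE'im y hy
        have h1 := hv u (Submodule.mem_sup_right hu)
        rw [hGX u (Submodule.mem_sup_right hu), hfXE u hu, map_add, hsym _ p,
          horth b hb p hp _ (hmemE.1 (hf₂im u hu)), mul_zero, zero_add] at h1
        rw [hsym, h1, mul_zero]
      rw [hq0, add_zero, hp]

end Cfsg.Agent.Forms59
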