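import Mathlib

set_option autoImplicit false

namespace Cfsg.Agent.Forms59

/-- Hilbert 90 for a finite commutative ring with an involution moving a scalar by a unit. -/
theorem hilbert90_finite {S : Type*} [CommRing S] [Finite S] (τ : S →+* S) (hτ : ∀ x, τ (τ x) = x)
    (θ : S) (hθ : IsUnit (θ - τ θ)) (z : S) (hz : z * τ z = 1) :
    ∃ c : S, IsUnit c ∧ z * τ c = c := by
  classical
  haveI : Finite (MaximalSpectrum S) :=
    Finite.of_injective (fun P => (P.asIdeal : Set S)) (fun P Q h => MaximalSpectrum.ext (SetLike.coe_injective h))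
  letI : Fintype (MaximalSpectrum S) := Fintype.ofFinite _
  let σ : MaximalSpectrum S → MaximalSpectrum S := fun P =>
    haveI := P.isMaximal
    ⟨P.asIdeal.comap τ, Ideal.comap_isMaximal_of_surjective τ (fun x => ⟨τ x, hτ x⟩)⟩
  have hσ : ∀ P x, x ∈ (σ P).asIdeal ↔ τ x ∈ P.asIdeal := fun P x => Iff.rfl
  have hσσ : ∀ P, σ (σ P) = P := fun P => MaximalSpectrum.ext (Ideal.ext fun x => by
    rw [hσ, hσ, hτ])
  obtain ⟨e⟩ : Nonempty (MaximalSpectrum S ≃ Fin (Fintype.card (MaximalSpectrum S))) :=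
    ⟨Fintype.equivFin _⟩
  let val : MaximalSpectrum S → S := fun P =>
    if σ P = P then (if 1 + z ∈ P.asIdeal then θ else 1) else (if e P < e (σ P) then 1 else 0)
  have hcop : Pairwise fun P Q : MaximalSpectrum S => IsCoprime P.asIdeal Q.asIdeal := by
    intro P Q hPQ
    haveI := P.isMaximal
    haveI := Q.isMaximal
    exact Ideal.isCoprime_of_isMaximal fun h => hPQ (MaximalSpectrum.ext h)
  obtain ⟨w, hw⟩ : ∃ w : S, ∀ P, w - val P ∈ (P : MaximalSpectrum S).asIdeal := by
    obtain ⟨y, hy⟩ := Ideal.quotientInfRingEquivPiQuotient (fun P : MaximalSpectrum S => P.asIdeal) hcop |>.surjective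
      (fun P => Ideal.Quotient.mk _ (val P))
    obtain ⟨w, rfl⟩ := Ideal.Quotient.mk_surjective y
    exact ⟨w, fun P => Ideal.Quotient.eq.1 (congr_fun hy P)⟩
  refine ⟨w + z * τ w, ?_, by rw [map_add, map_mul, hτ]; linear_combination w * hz⟩
  by_contra hc
  obtain ⟨P', hP', hcP⟩ := exists_max_ideal_of_mem_nonunits hc
  let P : MaximalSpectrum S := ⟨P', hP'⟩
  have h1 := hw P
  have h2 : τ w - τ (val (σ P)) ∈ P' := by
    have := hw (σ P)
    rw [hσ, map_sub] at this
    exact this
  have key : val P + z * τ (val (σ P)) ∈ P' := by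
    have : val P + z * τ (val (σ P)) = (w + z * τ w) - (w - val P) - z * (τ w - τ (val (σ P))) := by ring
    rw [this]
    exact Ideal.sub_mem _ (Ideal.sub_mem _ hcP h1) (Ideal.mul_mem_left _ _ h2)
  have hzu : z ∉ P' := fun h => hP'.ne_top ((Ideal.eq_top_iff_one P').2 (hz ▸ Ideal.mul_mem_right _ _ h))
  have h1P : (1 : S) ∉ P' := fun h => hP'.ne_top ((Ideal.eq_top_iff_one P').2 h)
  by_cases hfix : σ P = P
  · simp only [val, hfix, if_true] at key
    split_ifs at key with h
    · have hmem : θ - τ θ ∈ P' := by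
        have : θ - τ θ = (θ + z * τ θ) - (1 + z) * τ θ := by ring
        rw [this]
        exact Ideal.sub_mem _ key (Ideal.mul_mem_right _ _ h)
      exact hP'.ne_top (Ideal.eq_top_of_isUnit_mem _ hmem hθ)
    · rw [map_one, mul_one] at key
      exact h key
  · have hfix' : σ (σ P) ≠ σ P := by rw [hσσ]; exact fun h => hfix h.symm
    have hfix2 : ¬ P = σ P := fun h => hfix h.symm
    simp only [val, hfix, hfix', hfix2, hσσ, if_false] at key
    have hne : e P ≠ e (σ P) := fun h => hfix (e.injective h).symm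
    rcases lt_or_gt_of_ne hne with h | h
    · rw [if_pos h, if_neg h.not_gt, map_zero, mul_zero, add_zero] at key
      exact h1P key
    · rw [if_neg h.not_gt, if_pos h, map_one, mul_one, zero_add] at key
      exact hzu key

/-- A fixed unit is a norm. -/
theorem exists_norm_eq_finite {S : Type*} [CommRing S] [Finite S] (τ : S →+* S) (hτ : ∀ x, τ (τ x) = x)
    (θ : S) (hθ : IsUnit (θ - τ θ)) (h : S) (hu : IsUnit h) (hfix : τ h = h) :
    ∃ c : S, IsUnit c ∧ c * τ c = h := by
  let τu : Sˣ →* Sˣ := Units.map τ.toMonoidHom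
  have hτu : ∀ x, τu (τu x) = x := fun x => Units.ext (hτ _)
  let N : Sˣ →* Sˣ := MonoidHom.id _ * τu
  let ψ : Sˣ →* Sˣ := MonoidHom.id _ / τu
  let R : Subgroup Sˣ :=
    { carrier := {x | τu x = x}
      mul_mem' := fun {a b} ha hb => by
        show τu (a * b) = a * b
        rw [map_mul, ha, hb]
      one_mem' := map_one τu
      inv_mem' := fun {a} ha => by
        show τu a⁻¹ = a⁻¹
        rw [map_inv, ha] }
  have hN : N.range ≤ R := by
    rintro _ ⟨x, rfl⟩
    show τu (x * τu x) = x * τu x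
    rw [map_mul, hτu, mul_comm]
  have hψR : ψ.ker = R := by
    ext x
    show x / τu x = 1 ↔ τu x = x
    rw [div_eq_one, eq_comm]
  have hψ : ψ.range = N.ker := by
    refine le_antisymm ?_ ?_
    · rintro _ ⟨x, rfl⟩
      show x / τu x * τu (x / τu x) = 1
      rw [map_div, hτu, div_mul_div_cancel, div_self']
    · intro x hx
      have hx' : x * τu x = 1 := hx
      obtain ⟨c, hc, hxc⟩ := hilbert90_finite τ hτ θ hθ (x : S) (congr_arg Units.val hx')
      refine ⟨hc.unit, ?_⟩
      show hc.unit / τu hc.unit = x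
      rw [div_eq_iff_eq_mul]
      exact Units.ext hxc.symm
  have hRN : R ≤ N.range := by
    have e1 := N.ker.card_mul_index
    have e2 := ψ.ker.card_mul_index
    rw [Subgroup.index_ker] at e1 e2
    rw [hψR, hψ] at e2
    have hpos : 0 < Nat.card N.ker := Nat.card_pos
    have : Nat.card N.range = Nat.card R := Nat.eq_of_mul_eq_mul_left hpos (by rw [e1, mul_comm, e2])
    exact (Subgroup.eq_of_le_of_card_ge hN this.ge).ge
  obtain ⟨c, hc⟩ := hRN (show τu hu.unit = hu.unit from Units.ext hfix)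
  exact ⟨c, c.isUnit, congr_arg Units.val hc⟩

end Cfsg.Agent.Forms59
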