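import Cfsg.Agent.Forms59.Hilbert90
import Cfsg.Prelude.Def_LieClassical

set_option autoImplicit false

namespace Cfsg.Agent.Forms59

open Matrix

variable {K : Type*} [Field K] [Fintype K] {q : ℕ}

theorem card_sq_facts (hK : Fintype.card K = q ^ 2) :
    (∀ x y : K, (x + y) ^ q = x ^ q + y ^ q) ∧ (∀ x : K, (x ^ q) ^ q = x) ∧ 1 < q ∧
      ∃ θ : K, θ ^ q ≠ θ := by
  classical
  obtain ⟨p, hp⟩ := CharP.exists K
  haveI : Fact p.Prime := ⟨CharP.char_is_prime K p⟩
  obtain ⟨f, -, hf⟩ := FiniteField.card K p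
  have hdvd : q ∣ p ^ (f : ℕ) := by rw [← hf, hK]; exact dvd_pow_self q two_ne_zero
  obtain ⟨j, -, rfl⟩ := (Nat.dvd_prime_pow Fact.out).1 hdvd
  have h1 : 1 < p ^ j := by
    have := Fintype.one_lt_card (α := K)
    rw [hK] at this
    by_contra hle
    have := Nat.pow_le_pow_left (not_lt.1 hle) 2
    omega
  refine ⟨fun x y => add_pow_char_pow x y p j, fun x => by rw [← pow_mul, ← pow_two, ← hK, FiniteField.pow_card], h1, ?_⟩
  by_contra hall
  push Not at hall
  open Polynomial in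
  have hcard : Fintype.card K ≤ p ^ j := by
    have hne : (X ^ (p ^ j) - X : K[X]) ≠ 0 := FiniteField.X_pow_card_sub_X_ne_zero K h1
    have hsub : (Finset.univ : Finset K).val ≤ (X ^ (p ^ j) - X : K[X]).roots :=
      (Multiset.le_iff_subset Finset.univ.nodup).2 fun x _ => by
        rw [Polynomial.mem_roots hne]; simp [Polynomial.IsRoot, hall x]
    calc Fintype.card K ≤ Multiset.card (X ^ (p ^ j) - X : K[X]).roots := Multiset.card_le_card hsub
      _ ≤ (X ^ (p ^ j) - X : K[X]).natDegree := Polynomial.card_roots' _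
      _ = p ^ j := FiniteField.X_pow_card_sub_X_natDegree_eq K h1
  rw [hK] at hcard
  nlinarith

/-- The star operation `x ↦ x^q` on a field with `q²` elements. -/
@[reducible] def starRingOfCard (hK : Fintype.card K = q ^ 2) : StarRing K where
  star x := x ^ q
  star_involutive x := (card_sq_facts hK).2.1 x
  star_mul x y := by simp [mul_pow, mul_comm]
  star_add x y := (card_sq_facts hK).1 x y

theorem mem_GU_iff_conjTranspose [StarRing K] (hs : ∀ x : K, star x = x ^ q)
    {n : ℕ} (g : GL (Fin n) K) :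
    g ∈ Cfsg.GU n K q ↔ (g : Matrix (Fin n) (Fin n) K)ᴴ * (g : Matrix (Fin n) (Fin n) K) = 1 := by
  have hform : ∀ u v : Fin n → K, Cfsg.hermForm n K q u v = star v ⬝ᵥ u := by
    intro u v
    simp [Cfsg.hermForm, dotProduct, hs, mul_comm]
  constructor
  · intro hg
    refine Matrix.ext fun i j => ?_
    have h := hg (Pi.single j 1) (Pi.single i 1)
    simp only [Units.coeHom_apply, hform, star_mulVec, dotProduct_mulVec, vecMul_vecMul] at h
    have hs1 : star (Pi.single i (1 : K) : Fin n → K) = Pi.single i 1 := by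
      funext k; by_cases hk : k = i <;> simp [hk]
    simpa [hs1, Matrix.one_apply, Pi.single_apply, eq_comm] using h
  · intro hg u v
    simp only [Units.coeHom_apply, hform, star_mulVec, dotProduct_mulVec, vecMul_vecMul, hg, vecMul_one]

/-- An invertible Hermitian matrix is `cᴴ c` with `c` in the algebra it generates. -/
theorem exists_conjTranspose_mul_eq [StarRing K] (θ : K) (hθ : star θ ≠ θ) {ι : Type*} [Fintype ι] [DecidableEq ι]
    (H : Matrix ι ι K) (hH : Hᴴ = H) (hu : IsUnit H) :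
    ∃ c : Matrix ι ι K, IsUnit c ∧ cᴴ * c = H ∧ ∀ A, Commute A H → Commute A c := by
  classical
  let S : Subalgebra K (Matrix ι ι K) := Algebra.adjoin K {H}
  letI : CommRing S := Algebra.adjoinCommRingOfComm K (fun a ha b hb => by
    rw [Set.mem_singleton_iff.1 ha, Set.mem_singleton_iff.1 hb])
  have hstab : ∀ x ∈ S, xᴴ ∈ S := by
    intro x hx
    induction hx using Algebra.adjoin_induction with
    | mem x hx => rw [Set.mem_singleton_iff.1 hx, hH]; exact Algebra.subset_adjoin rfl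
    | algebraMap r => rw [Algebra.algebraMap_eq_smul_one, conjTranspose_smul, conjTranspose_one]; exact S.smul_mem S.one_mem _
    | add x y _ _ hx hy => rw [conjTranspose_add]; exact S.add_mem hx hy
    | mul x y _ _ hx hy => rw [conjTranspose_mul]; exact S.mul_mem hy hx
  let τ : S →+* S :=
    { toFun := fun x => ⟨(x : Matrix ι ι K)ᴴ, hstab _ x.2⟩
      map_one' := Subtype.ext conjTranspose_one
      map_zero' := Subtype.ext conjTranspose_zero
      map_add' := fun x y => Subtype.ext (conjTranspose_add _ _)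
      map_mul' := fun x y => Subtype.ext (by
        show ((x * y : S) : Matrix ι ι K)ᴴ = _
        rw [mul_comm x y, Subalgebra.coe_mul, conjTranspose_mul]; rfl) }
  let h0 : S := ⟨H, Algebra.subset_adjoin rfl⟩
  have hh0 : IsUnit h0 := by
    have hinj : Function.Injective (fun x : S => x * h0) := fun x y hxy => by
      apply Subtype.ext
      have hx' := congr_arg S.val hxy
      simp only [map_mul] at hx'
      exact hu.mul_right_cancel hx'
    obtain ⟨x, hx⟩ := (Finite.injective_iff_surjective.1 hinj) 1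
    have hx1 : x * h0 = 1 := hx
    exact IsUnit.of_mul_eq_one x (by rw [mul_comm]; exact hx1)
  obtain ⟨c, hc, hcc⟩ := exists_norm_eq_finite τ (fun x => Subtype.ext (conjTranspose_conjTranspose _))
    (algebraMap K S θ) (by
      have : algebraMap K S θ - τ (algebraMap K S θ) = algebraMap K S (θ - star θ) := by
        apply Subtype.ext
        show (algebraMap K (Matrix ι ι K) θ) - (algebraMap K (Matrix ι ι K) θ)ᴴ = algebraMap K (Matrix ι ι K) (θ - star θ)
        rw [Algebra.algebraMap_eq_smul_one, Algebra.algebraMap_eq_smul_one, conjTranspose_smul, conjTranspose_one, sub_smul]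
      rw [this]
      exact (isUnit_iff_ne_zero.2 (sub_ne_zero.2 (Ne.symm hθ))).map _)
    h0 hh0 (Subtype.ext hH)
  refine ⟨c, hc.map S.val, ?_, fun A hA => ?_⟩
  · have : (c * τ c : S) = τ c * c := mul_comm _ _
    rw [this] at hcc
    exact congr_arg Subtype.val hcc
  · exact Algebra.commute_of_mem_adjoin_singleton_of_commute c.2 hA

/-- A non-degenerate invariant sesquilinear matrix yields a Hermitian one. -/
theorem exists_hermitian_invariant [StarRing K] (θ : K) (hθ : star θ ≠ θ) {ι : Type*} [Fintype ι] [DecidableEq ι]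
    (A M : Matrix ι ι K) (hA : IsUnit A) (hM : IsUnit M) (hinv : Aᴴ * M * A = M) :
    ∃ H : Matrix ι ι K, IsUnit H ∧ Hᴴ = H ∧ Aᴴ * H * A = H := by
  classical
  obtain ⟨m, rfl⟩ := hM
  set M : Matrix ι ι K := (m : Matrix ι ι K) with hMdef
  set Mi : Matrix ι ι K := ((m⁻¹ : (Matrix ι ι K)ˣ) : Matrix ι ι K) with hMi
  have hMM : M * Mi = 1 := m.mul_inv
  have hMiM : Mi * M = 1 := m.inv_mul
  let Y := Mi * Mᴴ
  let Yi := (Mi)ᴴ * M
  have hYYi : Y * Yi = 1 := by
    show Mi * Mᴴ * (Miᴴ * M) = 1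
    rw [mul_assoc, ← mul_assoc Mᴴ, ← conjTranspose_mul, hMiM, conjTranspose_one, one_mul, hMiM]
  have hYiY : Yi * Y = 1 := by
    show Miᴴ * M * (Mi * Mᴴ) = 1
    rw [mul_assoc, ← mul_assoc M, hMM, one_mul, ← conjTranspose_mul, hMM, conjTranspose_one]
  let S : Subalgebra K (Matrix ι ι K) := Algebra.adjoin K {Y, Yi}
  have hcomm : ∀ a ∈ ({Y, Yi} : Set (Matrix ι ι K)), ∀ b ∈ ({Y, Yi} : Set (Matrix ι ι K)), a * b = b * a := by
    simp only [Set.mem_insert_iff, Set.mem_singleton_iff]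
    rintro a (rfl | rfl) b (rfl | rfl) <;> simp [hYYi, hYiY]
  letI : CommRing S := Algebra.adjoinCommRingOfComm K hcomm
  have hY : Mi * Yᴴ * M = Yi := by
    show Mi * (Mi * Mᴴ)ᴴ * M = Miᴴ * M
    rw [conjTranspose_mul, conjTranspose_conjTranspose, ← mul_assoc, hMiM, one_mul]
  have hYi : Mi * Yiᴴ * M = Y := by
    show Mi * (Miᴴ * M)ᴴ * M = Mi * Mᴴ
    rw [conjTranspose_mul, conjTranspose_conjTranspose, mul_assoc, mul_assoc, hMiM, mul_one]
  let τ0 : Matrix ι ι K → Matrix ι ι K := fun x => Mi * xᴴ * M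
  have hτ0mul : ∀ x y, τ0 (x * y) = τ0 y * τ0 x := by
    intro x y
    show Mi * (x * y)ᴴ * M = Mi * yᴴ * M * (Mi * xᴴ * M)
    rw [conjTranspose_mul, mul_assoc (Mi * yᴴ) M, ← mul_assoc M, ← mul_assoc M, hMM, one_mul]
    simp only [mul_assoc]
  have hτ0alg : ∀ r : K, τ0 (algebraMap K (Matrix ι ι K) r) = algebraMap K (Matrix ι ι K) (star r) := by
    intro r
    show Mi * (algebraMap K (Matrix ι ι K) r)ᴴ * M = _
    rw [Algebra.algebraMap_eq_smul_one, conjTranspose_smul, conjTranspose_one, Algebra.algebraMap_eq_smul_one]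
    simp [hMiM]
  have hτ0add : ∀ x y, τ0 (x + y) = τ0 x + τ0 y := by
    intro x y
    simp [τ0, conjTranspose_add, mul_add, add_mul]
  have hstab : ∀ x ∈ S, τ0 x ∈ S := by
    intro x hx
    induction hx using Algebra.adjoin_induction with
    | mem x hx =>
      rcases hx with rfl | rfl
      · show Mi * Yᴴ * M ∈ S; rw [hY]; exact Algebra.subset_adjoin (Or.inr rfl)
      · show Mi * Yiᴴ * M ∈ S; rw [hYi]; exact Algebra.subset_adjoin (Or.inl rfl)
    | algebraMap r => rw [hτ0alg]; exact S.algebraMap_mem _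
    | add x y _ _ hx hy => rw [hτ0add]; exact S.add_mem hx hy
    | mul x y _ _ hx hy => rw [hτ0mul]; exact S.mul_mem hy hx
  let τ : S →+* S :=
    { toFun := fun x => ⟨τ0 x, hstab _ x.2⟩
      map_one' := Subtype.ext (by simp [τ0, hMiM])
      map_zero' := Subtype.ext (by simp [τ0])
      map_add' := fun x y => Subtype.ext (hτ0add _ _)
      map_mul' := fun x y => Subtype.ext (by
        show τ0 ((x * y : S) : Matrix ι ι K) = _
        rw [mul_comm x y, Subalgebra.coe_mul, hτ0mul]; rfl) }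
  have hττ : ∀ x : S, τ (τ x) = x := by
    intro x
    obtain ⟨x, hx⟩ := x
    apply Subtype.ext
    show τ0 (τ0 x) = x
    induction hx using Algebra.adjoin_induction with
    | mem x hx =>
      rcases hx with rfl | rfl
      · show τ0 (Mi * Yᴴ * M) = Y; rw [hY]; exact hYi
      · show τ0 (Mi * Yiᴴ * M) = Yi; rw [hYi]; exact hY
    | algebraMap r => rw [hτ0alg, hτ0alg, star_star]
    | add x y _ _ hx hy => rw [hτ0add, hτ0add, hx, hy]
    | mul x y _ _ hx hy =>
      show τ0 (τ0 (x * y)) = x * y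
      rw [hτ0mul x y, hτ0mul (τ0 y) (τ0 x), hx, hy]
  obtain ⟨c, hc, hcY⟩ := hilbert90_finite τ hττ (algebraMap K S θ) (by
      have : algebraMap K S θ - τ (algebraMap K S θ) = algebraMap K S (θ - star θ) := by
        apply Subtype.ext
        show algebraMap K (Matrix ι ι K) θ - τ0 (algebraMap K (Matrix ι ι K) θ) = algebraMap K (Matrix ι ι K) (θ - star θ)
        rw [hτ0alg, map_sub]
      rw [this]
      exact (isUnit_iff_ne_zero.2 (sub_ne_zero.2 (Ne.symm hθ))).map _)
    (⟨Y, Algebra.subset_adjoin (Or.inl rfl)⟩ : S) (Subtype.ext (by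
      show Y * (Mi * Yᴴ * M) = 1
      rw [hY, hYYi]))
  have hcY' : Y * (Mi * (c : Matrix ι ι K)ᴴ * M) = c := congr_arg Subtype.val hcY
  have hAY : Commute A Y := by
    have hA' : Aᴴ * Mᴴ * A = Mᴴ := by
      have := congr_arg Matrix.conjTranspose hinv
      simpa [conjTranspose_mul, mul_assoc] using this
    obtain ⟨a, ha⟩ := hA
    show A * Y = Y * A
    calc A * Y = (Mi * M) * A * (Mi * Mᴴ) := by rw [hMiM, one_mul]
      _ = (Mi * M) * A * Mi * (Aᴴ * Mᴴ * A) := by rw [hA']; simp only [mul_assoc]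
      _ = Mi * ((M * A * Mi) * Aᴴ) * Mᴴ * A := by simp only [mul_assoc]
      _ = Mi * 1 * Mᴴ * A := by
        have hone : Aᴴ * (M * A * Mi) = 1 := by
          rw [← mul_assoc, ← mul_assoc, hinv, hMM]
        rw [mul_eq_one_comm.1 hone]
      _ = Y * A := by rw [mul_one]
  have hAYi : Commute A Yi := by
    show A * Yi = Yi * A
    calc A * Yi = (Yi * Y) * (A * Yi) := by rw [hYiY, one_mul]
      _ = Yi * ((A * Y) * Yi) := by rw [hAY.eq]; simp only [mul_assoc]
      _ = Yi * A := by rw [mul_assoc A, hYYi, mul_one]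
  have hAc : Commute A (c : Matrix ι ι K) := by
    refine Subalgebra.mem_centralizer_iff K |>.1 (Algebra.adjoin_le (S := Subalgebra.centralizer K {A}) ?_ c.2) A rfl
    intro x hx
    rw [SetLike.mem_coe, Subalgebra.mem_centralizer_iff]
    intro g hg
    rw [Set.mem_singleton_iff.1 hg]
    rcases hx with rfl | rfl
    · exact hAY.eq
    · exact hAYi.eq
  refine ⟨M * c, m.isUnit.mul (hc.map S.val), ?_, ?_⟩
  · have hcomm' : ((τ c : S) : Matrix ι ι K) * Y = Y * (τ c : S) := by
      have := congr_arg Subtype.val (mul_comm (τ c) (⟨Y, Algebra.subset_adjoin (Or.inl rfl)⟩ : S))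
      exact this
    calc (M * (c : Matrix ι ι K))ᴴ = M * ((Mi * (c : Matrix ι ι K)ᴴ * M) * (Mi * Mᴴ)) := by
          rw [conjTranspose_mul, mul_assoc (Mi * (c : Matrix ι ι K)ᴴ) M, ← mul_assoc M Mi, hMM, one_mul,
            mul_assoc, ← mul_assoc M, hMM, one_mul]
      _ = M * c := by
          rw [show (Mi * (c : Matrix ι ι K)ᴴ * M) * (Mi * Mᴴ) = Y * (Mi * (c : Matrix ι ι K)ᴴ * M) from hcomm', hcY']
  · calc Aᴴ * (M * c) * A = Aᴴ * M * ((c : Matrix ι ι K) * A) := by simp only [mul_assoc]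
      _ = Aᴴ * M * A * c := by rw [← hAc.eq]; simp only [mul_assoc]
      _ = M * c := by rw [hinv]

theorem gu_isConj_iff {n : ℕ} (hK : Fintype.card K = q ^ 2) (A B : ↥(Cfsg.GU n K q)) :
    IsConj A B ↔ IsConj (A : GL (Fin n) K) (B : GL (Fin n) K) := by
  constructor
  · exact fun h => (Cfsg.GU n K q).subtype.map_isConj h
  intro h
  obtain ⟨g, hg⟩ := isConj_iff.1 h
  letI : StarRing K := starRingOfCard hK
  have hs : ∀ x : K, star x = x ^ q := fun x => rfl
  obtain ⟨θ, hθ⟩ := (card_sq_facts hK).2.2.2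
  set a : Matrix (Fin n) (Fin n) K := ((A : GL (Fin n) K) : Matrix (Fin n) (Fin n) K)
  set b : Matrix (Fin n) (Fin n) K := ((B : GL (Fin n) K) : Matrix (Fin n) (Fin n) K)
  set G : Matrix (Fin n) (Fin n) K := (g : Matrix (Fin n) (Fin n) K)
  have ha : aᴴ * a = 1 := (mem_GU_iff_conjTranspose hs _).1 A.2
  have hb : bᴴ * b = 1 := (mem_GU_iff_conjTranspose hs _).1 B.2
  have hga : G * a = b * G := by
    have := congr_arg Units.val (mul_inv_eq_iff_eq_mul.1 hg)
    simpa using this
  have hcomm : Commute a (Gᴴ * G) := by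
    have : aᴴ * (Gᴴ * G) * a = Gᴴ * G := by
      calc aᴴ * (Gᴴ * G) * a = (G * a)ᴴ * (G * a) := by rw [conjTranspose_mul]; simp only [mul_assoc]
        _ = Gᴴ * (bᴴ * b) * G := by rw [hga, conjTranspose_mul]; simp only [mul_assoc]
        _ = Gᴴ * G := by rw [hb, mul_one]
    show a * (Gᴴ * G) = (Gᴴ * G) * a
    conv_lhs => rw [← this, ← mul_assoc, ← mul_assoc, mul_eq_one_comm.1 ha, one_mul]
  have hG : IsUnit G := g.isUnit
  obtain ⟨c, hc, hcc, hcom⟩ := exists_conjTranspose_mul_eq θ hθ (Gᴴ * G)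
    (by rw [conjTranspose_mul, conjTranspose_conjTranspose]) (hG.star.mul hG)
  let u : GL (Fin n) K := g * hc.unit⁻¹
  have hu : u ∈ Cfsg.GU n K q := by
    rw [mem_GU_iff_conjTranspose hs]
    set C : Matrix (Fin n) (Fin n) K := ((hc.unit⁻¹ : GL (Fin n) K) : Matrix (Fin n) (Fin n) K) with hC
    have h1 : c * C = 1 := by rw [hC]; exact hc.mul_val_inv
    show (G * C)ᴴ * (G * C) = 1
    calc (G * C)ᴴ * (G * C) = Cᴴ * (Gᴴ * G) * C := by rw [conjTranspose_mul]; simp only [mul_assoc]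
      _ = Cᴴ * (cᴴ * c) * C := by rw [hcc]
      _ = (c * C)ᴴ * (c * C) := by rw [conjTranspose_mul]; simp only [mul_assoc]
      _ = 1 := by rw [h1, conjTranspose_one, one_mul]
  refine isConj_iff.2 ⟨⟨u, hu⟩, Subtype.ext ?_⟩
  have hcA : Commute (A : GL (Fin n) K) hc.unit := Units.ext (by exact hcom a hcomm)
  show u * (A : GL (Fin n) K) * u⁻¹ = B
  calc u * (A : GL (Fin n) K) * u⁻¹ = g * (hc.unit⁻¹ * (A : GL (Fin n) K) * hc.unit) * g⁻¹ := by
        simp only [u, _root_.mul_inv_rev, inv_inv, mul_assoc]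
    _ = B := by rw [mul_assoc hc.unit⁻¹, hcA.eq, inv_mul_cancel_left, hg]

theorem similar_to_unitary_iff {n : ℕ} (hK : Fintype.card K = q ^ 2) (A : GL (Fin n) K) :
    (∃ B : ↥(Cfsg.GU n K q), IsConj A (B : GL (Fin n) K)) ↔
      IsConj (A : Matrix (Fin n) (Fin n) K)
        (((A : Matrix (Fin n) (Fin n) K).map (fun x : K => x ^ q)).transpose)⁻¹ := by
  letI : StarRing K := starRingOfCard hK
  have hs : ∀ x : K, star x = x ^ q := fun x => rfl
  obtain ⟨θ, hθ⟩ := (card_sq_facts hK).2.2.2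
  set a : Matrix (Fin n) (Fin n) K := (A : Matrix (Fin n) (Fin n) K)
  have hconj : (a.map (fun x : K => x ^ q)).transpose = aᴴ := rfl
  rw [hconj]
  have hua : IsUnit aᴴ := A.isUnit.star
  have hdet : IsUnit (aᴴ).det := (Matrix.isUnit_iff_isUnit_det _).1 hua
  constructor
  · rintro ⟨B, hB⟩
    obtain ⟨g, hg⟩ := isConj_iff.1 hB
    set G : Matrix (Fin n) (Fin n) K := (g : Matrix (Fin n) (Fin n) K)
    set b : Matrix (Fin n) (Fin n) K := ((B : GL (Fin n) K) : Matrix (Fin n) (Fin n) K)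
    have hb : bᴴ * b = 1 := (mem_GU_iff_conjTranspose hs _).1 B.2
    have hga : G * a = b * G := by
      have := congr_arg Units.val (mul_inv_eq_iff_eq_mul.1 hg)
      simpa using this
    have hH : aᴴ * (Gᴴ * G) * a = Gᴴ * G := by
      calc aᴴ * (Gᴴ * G) * a = (G * a)ᴴ * (G * a) := by rw [conjTranspose_mul]; simp only [mul_assoc]
        _ = Gᴴ * (bᴴ * b) * G := by rw [hga, conjTranspose_mul]; simp only [mul_assoc]
        _ = Gᴴ * G := by rw [hb, mul_one]
    obtain ⟨P, hP⟩ : IsUnit (Gᴴ * G) := g.isUnit.star.mul g.isUnit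
    refine ⟨P, ?_⟩
    show (P : Matrix (Fin n) (Fin n) K) * a = aᴴ⁻¹ * (P : Matrix (Fin n) (Fin n) K)
    rw [hP]
    conv_rhs => rw [← hH]
    rw [← mul_assoc, ← mul_assoc, Matrix.nonsing_inv_mul _ hdet, one_mul]
  · rintro ⟨P, hP⟩
    have hP' : (P : Matrix (Fin n) (Fin n) K) * a = aᴴ⁻¹ * (P : Matrix (Fin n) (Fin n) K) := hP
    have hinv : aᴴ * (P : Matrix (Fin n) (Fin n) K) * a = P := by
      rw [mul_assoc, hP', ← mul_assoc, Matrix.mul_nonsing_inv _ hdet, one_mul]
    obtain ⟨H, hHu, hH, hHA⟩ := exists_hermitian_invariant θ hθ a P A.isUnit P.isUnit hinv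
    obtain ⟨c, hc, hcc, -⟩ := exists_conjTranspose_mul_eq θ hθ H hH hHu
    have hu : hc.unit * A * hc.unit⁻¹ ∈ Cfsg.GU n K q := by
      rw [mem_GU_iff_conjTranspose hs]
      set C : Matrix (Fin n) (Fin n) K := ((hc.unit⁻¹ : GL (Fin n) K) : Matrix (Fin n) (Fin n) K) with hC
      have h1 : c * C = 1 := by rw [hC]; exact hc.mul_val_inv
      show (c * a * C)ᴴ * (c * a * C) = 1
      calc (c * a * C)ᴴ * (c * a * C) = Cᴴ * (aᴴ * (cᴴ * c) * a) * C := by
            simp only [conjTranspose_mul, mul_assoc]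
        _ = Cᴴ * (cᴴ * c) * C := by rw [hcc, hHA]
        _ = (c * C)ᴴ * (c * C) := by rw [conjTranspose_mul]; simp only [mul_assoc]
        _ = 1 := by rw [h1, conjTranspose_one, one_mul]
    exact ⟨⟨_, hu⟩, isConj_iff.2 ⟨hc.unit, rfl⟩⟩

end Cfsg.Agent.Forms59
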