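import Mathlib
import Cfsg.Prelude.Def_Classical

set_option autoImplicit false

namespace Cfsg.Agent.Forms59

open Matrix

variable {F : Type*} [Field F]

theorem anisotropic_of_no_root (ζ : F) (hζ : ∀ t : F, t ^ 2 + t + ζ ≠ 0) :
    ∀ z₁ z₂ : F, z₁ ^ 2 + 1 * z₁ * z₂ + ζ * z₂ ^ 2 = 0 → z₁ = 0 ∧ z₂ = 0 := by
  intro z₁ z₂ h
  rcases eq_or_ne z₂ 0 with rfl | hz
  · simp at h; exact ⟨h, rfl⟩
  · exact absurd (by field_simp; linear_combination h) (hζ (z₁ / z₂))

/-- An elliptic form has no totally singular subspace of dimension more than `k`. -/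
theorem finrank_le_of_totally_singular_minus (k : ℕ) (a b : F)
    (hab : ∀ z₁ z₂ : F, z₁ ^ 2 + a * z₁ * z₂ + b * z₂ ^ 2 = 0 → z₁ = 0 ∧ z₂ = 0)
    (U : Submodule F ((Fin k ⊕ Fin k) ⊕ Fin 2 → F))
    (hU : ∀ u ∈ U, Cfsg.quadFormMinus k F a b u = 0) : Module.finrank F U ≤ k := by
  classical
  let Y : U →ₗ[F] (Fin k → F) :=
    (LinearMap.funLeft F F (fun i : Fin k => (Sum.inl (Sum.inr i) : (Fin k ⊕ Fin k) ⊕ Fin 2))).comp U.subtype
  let X : ↥(LinearMap.ker Y) →ₗ[F] (Fin k → F) :=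
    (LinearMap.funLeft F F (fun i : Fin k => (Sum.inl (Sum.inl i) : (Fin k ⊕ Fin k) ⊕ Fin 2))).comp
      (U.subtype.comp (LinearMap.ker Y).subtype)
  have hY : ∀ (u : ↥(LinearMap.ker Y)) (i : Fin k), ((u : U) : (Fin k ⊕ Fin k) ⊕ Fin 2 → F) (Sum.inl (Sum.inr i)) = 0 :=
    fun u i => congr_fun (LinearMap.mem_ker.1 u.2) i
  have hz : ∀ (u : ↥(LinearMap.ker Y)) (j : Fin 2), ((u : U) : (Fin k ⊕ Fin k) ⊕ Fin 2 → F) (Sum.inr j) = 0 := by
    intro u j
    have h := hU _ (u : U).2
    simp only [Cfsg.quadFormMinus, hY, mul_zero, Finset.sum_const_zero, zero_add] at h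
    obtain ⟨h1, h2⟩ := hab _ _ h
    fin_cases j
    · exact h1
    · exact h2
  have hXinj : Function.Injective X := by
    rw [injective_iff_map_eq_zero]
    intro u hu
    apply Subtype.ext; apply Subtype.ext
    funext c
    rcases c with (i | i) | j
    · exact congr_fun hu i
    · exact hY u i
    · exact hz u j
  -- X-part of the kernel annihilates the image of Y
  let D : (Fin k → F) ≃ₗ[F] Module.Dual F (Fin k → F) := dotProductEquiv F (Fin k)
  have hann : (LinearMap.range X).map D.toLinearMap ≤ (LinearMap.range Y).dualAnnihilator := by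
    rintro _ ⟨_, ⟨u, rfl⟩, rfl⟩
    rw [Submodule.mem_dualAnnihilator]
    rintro _ ⟨w, rfl⟩
    show (X u) ⬝ᵥ (Y w) = 0
    have h1 := hU _ ((u : U) + w).2
    have h2 := hU _ w.2
    simp only [Cfsg.quadFormMinus, Submodule.coe_add, Pi.add_apply, hY, hz, zero_add] at h1 h2
    simp only [add_mul, Finset.sum_add_distrib] at h1
    simp only [dotProduct, X, Y, LinearMap.comp_apply, LinearMap.funLeft_apply, Submodule.coe_subtype]
    linear_combination h1 - h2
  have h1 : Module.finrank F ↥(LinearMap.ker Y) ≤ Module.finrank F ↥((LinearMap.range Y).dualAnnihilator) := by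
    rw [← LinearMap.finrank_range_of_inj hXinj, ← LinearEquiv.finrank_map_eq D (LinearMap.range X)]
    exact Submodule.finrank_mono hann
  have h2 := Subspace.finrank_add_finrank_dualAnnihilator_eq (LinearMap.range Y)
  have h3 := LinearMap.finrank_range_add_finrank_ker Y
  rw [Module.finrank_fintype_fun_eq_card, Fintype.card_fin] at h2
  omega

end Cfsg.Agent.Forms59
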