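import Cfsg.Agent.Forms59.Similar
import Cfsg.Agent.Forms59.Elliptic

set_option autoImplicit false

namespace Cfsg.Agent.Forms59

variable {F : Type*} [Field F]

/-- An isometry of the binary parts gives an isometry of the elliptic forms. -/
theorem exists_isometry_minus_of_binary (k : ℕ) (a b a' b' : F)
    (M : (Fin 2 → F) ≃ₗ[F] (Fin 2 → F))
    (hM : ∀ z, (M z) 0 ^ 2 + a' * (M z) 0 * (M z) 1 + b' * (M z) 1 ^ 2 =
      z 0 ^ 2 + a * z 0 * z 1 + b * z 1 ^ 2) :
    ∃ T : ((Fin k ⊕ Fin k) ⊕ Fin 2 → F) ≃ₗ[F] ((Fin k ⊕ Fin k) ⊕ Fin 2 → F),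
      ∀ v, Cfsg.quadFormMinus k F a' b' (T v) = Cfsg.quadFormMinus k F a b v := by
  refine ⟨(LinearEquiv.sumArrowLequivProdArrow (Fin k ⊕ Fin k) (Fin 2) F F).trans
    (((LinearEquiv.refl F _).prodCongr M).trans
      (LinearEquiv.sumArrowLequivProdArrow (Fin k ⊕ Fin k) (Fin 2) F F).symm), fun v => ?_⟩
  exact congr_arg ((∑ i : Fin k, v (Sum.inl (Sum.inl i)) * v (Sum.inl (Sum.inr i))) + ·)
    (hM (v ∘ Sum.inr))

theorem exists_binary_isometry [Finite F] (ζ ζ' : F) (h : ∀ t : F, t ^ 2 + t + ζ ≠ 0)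
    (h' : ∀ t : F, t ^ 2 + t + ζ' ≠ 0) :
    ∃ M : (Fin 2 → F) ≃ₗ[F] (Fin 2 → F), ∀ z,
      (M z) 0 ^ 2 + 1 * (M z) 0 * (M z) 1 + ζ' * (M z) 1 ^ 2 =
        z 0 ^ 2 + 1 * z 0 * z 1 + ζ * z 1 ^ 2 := by
  classical
  have : Fintype F := Fintype.ofFinite F
  suffices H : ∃ r s : F, s ≠ 0 ∧ 2 * r + s = 1 ∧ r ^ 2 + r * s + ζ' * s ^ 2 = ζ by
    obtain ⟨r, s, hs, h1, h2⟩ := H
    let M : (Fin 2 → F) →ₗ[F] (Fin 2 → F) := Matrix.mulVecLin !![1, r; 0, s]
    have hinj : Function.Injective M := by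
      rw [injective_iff_map_eq_zero]
      intro z hz
      have e1 := congr_fun hz 1
      have e0 := congr_fun hz 0
      simp [M, dotProduct, Fin.sum_univ_two, hs] at e1
      simp [M, dotProduct, Fin.sum_univ_two, e1] at e0
      funext i; fin_cases i
      · exact e0
      · exact e1
    refine ⟨LinearEquiv.ofInjectiveEndo M hinj, fun z => ?_⟩
    rw [LinearEquiv.coe_ofInjectiveEndo]
    simp [M, dotProduct, Fin.sum_univ_two]
    linear_combination (z 0 * z 1) * h1 + (z 1) ^ 2 * h2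
  by_cases hch : ringChar F = 2
  · have : CharP F 2 := ringChar.of_eq hch
    let φ : F →+ F :=
      { toFun := fun t => t ^ 2 + t
        map_zero' := by simp
        map_add' := fun x y => by rw [CharTwo.add_sq]; ring }
    have hker : Nat.card φ.ker = 2 := by
      rw [Nat.card_eq_two_iff]
      have h1 : (1 : F) ^ 2 + 1 = 0 := by rw [one_pow]; exact CharTwo.add_self_eq_zero 1
      refine ⟨⟨0, φ.ker.zero_mem⟩, ⟨1, h1⟩, ?_, Set.eq_univ_of_forall fun x => ?_⟩
      · simp [Subtype.ext_iff]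
      · obtain ⟨x, hx⟩ := x
        have hx' : x * (x + 1) = 0 := by
          have : x ^ 2 + x = 0 := hx
          linear_combination this
        rcases mul_eq_zero.1 hx' with h0 | h0
        · left; exact Subtype.ext h0
        · right
          exact Subtype.ext ((eq_neg_of_add_eq_zero_left h0).trans (CharTwo.neg_eq 1))
    have hidx : φ.range.index = 2 := by
      have h1 := φ.range.card_mul_index
      have h2 := φ.ker.card_mul_index
      rw [AddSubgroup.index_ker, hker] at h2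
      have hpos : 0 < Nat.card φ.range := Nat.card_pos
      nlinarith
    have hn : ∀ z : F, (∀ t : F, t ^ 2 + t + z ≠ 0) → z ∉ φ.range := by
      rintro z hz ⟨t, rfl⟩
      exact hz t (CharTwo.add_self_eq_zero _)
    have hsum : ζ + ζ' ∈ φ.range :=
      (AddSubgroup.add_mem_iff_of_index_two hidx).2 ⟨fun hm => absurd hm (hn _ h), fun hm => absurd hm (hn _ h')⟩
    obtain ⟨t, ht⟩ := hsum
    refine ⟨t, 1, one_ne_zero, by rw [CharTwo.two_eq_zero]; ring, ?_⟩
    have ht' : t ^ 2 + t = ζ + ζ' := ht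
    linear_combination ht' + CharTwo.add_self_eq_zero ζ'
  · have h2 : (2 : F) ≠ 0 := Ring.two_ne_zero hch
    have hns : ∀ z : F, (∀ t : F, t ^ 2 + t + z ≠ 0) → ¬ IsSquare (1 - 4 * z) := by
      rintro z hz ⟨r, hr⟩
      exact hz ((r - 1) / 2) (by field_simp; linear_combination (-1 : F) * hr)
    have ha := quadraticChar_neg_one_iff_not_isSquare.2 (hns ζ h)
    have ha' := quadraticChar_neg_one_iff_not_isSquare.2 (hns ζ' h')
    have hne' : 1 - 4 * ζ' ≠ 0 := fun h0 => hns ζ' h' ⟨0, by rw [h0]; simp⟩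
    have hsq : quadraticChar F ((1 - 4 * ζ) * (1 - 4 * ζ')) = 1 := by rw [map_mul, ha, ha']; norm_num
    obtain ⟨u, hu⟩ := (quadraticChar_one_iff_isSquare (by
      intro h0; rw [h0, MulChar.map_zero] at hsq; exact zero_ne_one hsq)).1 hsq
    refine ⟨(1 - u / (1 - 4 * ζ')) / 2, u / (1 - 4 * ζ'), ?_, by field_simp; ring, ?_⟩
    · intro h0
      rcases div_eq_zero_iff.1 h0 with h0 | h0
      · subst h0
        rw [mul_zero] at hu
        exact hns ζ h ⟨0, by simpa using (mul_eq_zero.1 hu).resolve_right hne'⟩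
      · exact hne' h0
    · have hs : u ^ 2 / (1 - 4 * ζ') = 1 - 4 * ζ := by
        rw [pow_two, ← hu, mul_div_cancel_right₀ _ hne']
      have h4 : (4 : F) ≠ 0 := by rw [show (4 : F) = 2 * 2 by norm_num]; exact mul_ne_zero h2 h2
      apply mul_left_cancel₀ h4
      have : (1 - u / (1 - 4 * ζ')) / 2 * 2 = 1 - u / (1 - 4 * ζ') := div_mul_cancel₀ _ h2
      have hu2 : (u / (1 - 4 * ζ')) ^ 2 * (1 - 4 * ζ') = 1 - 4 * ζ := by
        rw [div_pow, ← hs]; field_simp
      generalize u / (1 - 4 * ζ') = s at this hu2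
      linear_combination ((1 - s) / 2 * 2 + 1 + s) * this + (-1 : F) * hu2

theorem minusQF_nondegenerate [Finite F] (k : ℕ) (a b : F)
    (hab : ∀ z₁ z₂ : F, z₁ ^ 2 + a * z₁ * z₂ + b * z₂ ^ 2 = 0 → z₁ = 0 ∧ z₂ = 0) :
    (QuadraticMap.polarBilin (minusQF F k a b)).Nondegenerate := by
  classical
  refine (LinearMap.BilinForm.nondegenerate_iff_det_ne_zero (Pi.basisFun F _)).2 ?_
  rw [← gram_eq_toMatrix, gram_minusQF_det]
  refine mul_ne_zero (pow_ne_zero _ (neg_ne_zero.2 one_ne_zero)) (fun h0 => ?_)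
  by_cases hch : ringChar F = 2
  · have : CharP F 2 := ringChar.of_eq hch
    have ha : a = 0 := by
      have h4 : (4 : F) = 0 := by rw [show (4 : F) = 2 * 2 by norm_num, CharTwo.two_eq_zero]; ring
      rw [h4] at h0
      simpa using h0
    obtain ⟨t, ht⟩ := FiniteField.isSquare_of_char_two hch b
    exact one_ne_zero (hab t 1 (by rw [ha, ht]; linear_combination CharTwo.add_self_eq_zero (t * t))).2
  · have h2 : (2 : F) ≠ 0 := Ring.two_ne_zero hch
    refine one_ne_zero (hab (-a / 2) 1 ?_).2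
    field_simp
    linear_combination h0

theorem plusQF_nondegenerate (m : ℕ) : (QuadraticMap.polarBilin (plusQF F m)).Nondegenerate := by
  classical
  refine (LinearMap.BilinForm.nondegenerate_iff_det_ne_zero (Pi.basisFun F _)).2 ?_
  rw [← gram_eq_toMatrix, gram_plusQF_det]
  exact pow_ne_zero _ (neg_ne_zero.2 one_ne_zero)

theorem exists_totally_singular_plus (k : ℕ) :
    ∃ U : Submodule F (Fin k ⊕ Fin k → F), Module.finrank F U = k ∧
      ∀ u ∈ U, Cfsg.quadFormPlus k F u = 0 := by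
  let f : (Fin k → F) →ₗ[F] (Fin k ⊕ Fin k → F) :=
    { toFun := fun x => Sum.elim x 0
      map_add' := fun x y => by ext (i | i) <;> simp
      map_smul' := fun c x => by ext (i | i) <;> simp }
  have hf : Function.Injective f := fun x y h => funext fun i => congr_fun h (Sum.inl i)
  refine ⟨LinearMap.range f, by rw [LinearMap.finrank_range_of_inj hf]; simp, ?_⟩
  rintro _ ⟨x, rfl⟩
  simp [f, Cfsg.quadFormPlus]

theorem elliptic_isometric [Finite F] (k : ℕ) (a b : F)
    (hab : ∀ z₁ z₂ : F, z₁ ^ 2 + a * z₁ * z₂ + b * z₂ ^ 2 = 0 → z₁ = 0 ∧ z₂ = 0)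
    (ζ : F) (hζ : ∀ t : F, t ^ 2 + t + ζ ≠ 0) :
    ∃ T : ((Fin k ⊕ Fin k) ⊕ Fin 2 → F) ≃ₗ[F] ((Fin k ⊕ Fin k) ⊕ Fin 2 → F),
      ∀ v, Cfsg.quadFormMinus k F a b (T v) = Cfsg.quadFormMinus k F 1 ζ v := by
  rcases exists_normal_form (minusQF F k a b) (minusQF_nondegenerate k a b hab) with
    ⟨j, hj, e, he⟩ | ⟨j, hj, -⟩ | ⟨j, hj, ζ', e, hζ', he⟩
  · exfalso
    simp only [Module.finrank_fintype_fun_eq_card, Fintype.card_sum, Fintype.card_fin] at hj
    obtain ⟨U, hU, hU0⟩ := exists_totally_singular_plus (F := F) j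
    have := finrank_le_of_totally_singular_minus k a b hab (U.map e.symm.toLinearMap) (by
      rintro _ ⟨u, hu, rfl⟩
      rw [← coe_minusQF, he, LinearEquiv.coe_coe, LinearEquiv.apply_symm_apply]
      exact hU0 u hu)
    rw [LinearEquiv.finrank_map_eq, hU] at this
    omega
  · simp only [Module.finrank_fintype_fun_eq_card, Fintype.card_sum, Fintype.card_fin] at hj
    omega
  · obtain rfl : j = k := by
      simp only [Module.finrank_fintype_fun_eq_card, Fintype.card_sum, Fintype.card_fin] at hj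
      omega
    obtain ⟨M, hM⟩ := exists_binary_isometry ζ ζ' hζ hζ'
    obtain ⟨T, hT⟩ := exists_isometry_minus_of_binary j 1 ζ 1 ζ' M hM
    refine ⟨T.trans e.symm, fun v => ?_⟩
    rw [← coe_minusQF, he, LinearEquiv.trans_apply, LinearEquiv.apply_symm_apply, hT]

end Cfsg.Agent.Forms59
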