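import Cfsg.Agent.Forms59.OmegaTools

/-!
Transitivity of Omega on subspaces.
-/

set_option autoImplicit false
set_option linter.unusedSectionVars false

namespace Cfsg.Agent.Forms59

open Matrix QuadraticMap Cfsg.Agent.Reflections
open scoped Matrix

variable {ι : Type} [Fintype ι] [DecidableEq ι] {F : Type*} [Field F] [Fintype F]
variable {Q : QuadraticForm F (ι → F)}

/-- Adjusting an isometry inside the stabiliser of `U` to land in Omega. -/
theorem exists_omega_map (hQ : (QuadraticMap.polarBilin Q).Nondegenerate)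
    (h : Fintype.card F ≠ 2 ∨ Fintype.card ι ≠ 4) (hn : 2 ≤ Fintype.card ι)
    {U W : Submodule F (ι → F)} (g : ↥(Cfsg.isometryGroup F ⇑Q))
    (hg : U.map (Matrix.mulVecLin (mat g)) = W)
    (adj : ∀ vs : List (ι → F), (∀ v ∈ vs, Q v ≠ 0) → g = reflProd Q vs →
      ∃ ws : List (ι → F), (∀ v ∈ ws, Q v ≠ 0) ∧ (∀ x ∈ U, act (reflProd Q ws) x ∈ U) ∧
        Even (vs.length + ws.length) ∧
        IsSquare ((vs.map fun v => Q v).prod * (ws.map fun v => Q v).prod)) :
    ∃ g' : ↥(Cfsg.isometryGroup F ⇑Q), g' ∈ Cfsg.Omega F ⇑Q ∧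
      U.map (Matrix.mulVecLin (mat g')) = W := by
  obtain ⟨vs, hvs, rfl⟩ := exists_reflProd hQ h g
  obtain ⟨ws, hws, hstab, he, hs⟩ := adj vs hvs rfl
  refine ⟨reflProd Q (vs ++ ws), mem_omega_of_even_square hQ h hn _
    (fun v hv => (List.mem_append.1 hv).elim (hvs v) (hws v)) (by simpa using he)
    (by simpa using hs), ?_⟩
  have hfix : U.map (Matrix.mulVecLin (mat (reflProd Q ws))) = U := by
    refine Submodule.eq_of_le_of_finrank_le ?_ (le_of_eq
      (Submodule.equivMapOfInjective _ (fun x y e => act_injective (reflProd Q ws) e) U).finrank_eq)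
    rintro _ ⟨x, hx, rfl⟩
    exact hstab x hx
  rw [reflProd_append, mat_mul', Matrix.mulVecLin_mul, Submodule.map_comp, hfix, hg]

/-- A reflection in a vector of `U` or perpendicular to `U` stabilises `U`. -/
theorem refl_stab {U : Submodule F (ι → F)} {v : ι → F} (hv : Q v ≠ 0)
    (hvU : v ∈ U ∨ ∀ x ∈ U, polar ⇑Q v x = 0) {x : ι → F} (hx : x ∈ U) :
    act (refl Q v) x ∈ U := by
  rcases hvU with h | h
  · rw [act_refl hv]
    exact U.sub_mem hx (U.smul_mem _ h)
  · rwa [refl_fix hv (h x hx)]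

theorem reflProd_stab {U : Submodule F (ι → F)} :
    ∀ ws : List (ι → F), (∀ v ∈ ws, Q v ≠ 0) →
      (∀ v ∈ ws, v ∈ U ∨ ∀ x ∈ U, polar ⇑Q v x = 0) → ∀ x ∈ U, act (reflProd Q ws) x ∈ U
  | [], _, _, x, hx => by simpa [reflProd] using hx
  | v :: ws, h0, h1, x, hx => by
    rw [reflProd_cons, act_mul]
    exact refl_stab (h0 v (by simp)) (h1 v (by simp))
      (reflProd_stab ws (fun w hw => h0 w (by simp [hw])) (fun w hw => h1 w (by simp [hw])) x hx)

/-- A singular vector extends to a hyperbolic pair. -/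
theorem exists_partner (hQ : (QuadraticMap.polarBilin Q).Nondegenerate) {u : ι → F} (hu0 : u ≠ 0)
    (hu : Q u = 0) : ∃ w, Q w = 0 ∧ polar ⇑Q u w = 1 := by
  obtain ⟨y, hy⟩ := exists_polar_eq_one hQ hu0
  refine ⟨y - Q y • u, ?_, ?_⟩
  · rw [Reflections.map_sub', Reflections.map_smul', QuadraticMap.polar_smul_right, polar_comm ⇑Q y,
      hy, hu, smul_eq_mul]
    ring
  · rw [QuadraticMap.polar_sub_right, QuadraticMap.polar_smul_right, hy, polar_self', hu,
      smul_eq_mul]
    ring

/-- The pair `u + w`, `u + a w` stabilises a totally singular subspace through `u`. -/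
theorem exists_pair_stab (hQ : (QuadraticMap.polarBilin Q).Nondegenerate)
    {U : Submodule F (ι → F)} (hU : ∀ x ∈ U, Q x = 0) {u : ι → F} (hu : u ∈ U) (hu0 : u ≠ 0)
    {a : F} (ha : a ≠ 0) :
    ∃ p q : ι → F, Q p = 1 ∧ Q q = a ∧ ∀ x ∈ U, act (refl Q p * refl Q q) x ∈ U := by
  obtain ⟨w, hw, huw⟩ := exists_partner hQ hu0 (hU u hu)
  have hp : Q (u + w) = 1 := by rw [Reflections.map_add', hU u hu, hw, huw]; ring
  have hq : Q (u + a • w) = a := by
    rw [Reflections.map_add', Reflections.map_smul', hU u hu, hw, QuadraticMap.polar_smul_right,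
      huw, smul_eq_mul]
    ring
  refine ⟨u + w, u + a • w, hp, hq, fun x hx => ?_⟩
  have hux : polar ⇑Q u x = 0 := by
    have := Reflections.map_add' Q u x
    rw [hU _ (U.add_mem hu hx), hU u hu, hU x hx] at this
    linear_combination -this
  have e : act (refl Q (u + w) * refl Q (u + a • w)) x = x + ((a - 1) * polar ⇑Q w x) • u := by
    rw [act_mul, act_refl (v := u + a • w) (by rw [hq]; exact ha),
      act_refl (v := u + w) (by rw [hp]; exact one_ne_zero), hp, hq]
    simp only [QuadraticMap.polar_add_left, QuadraticMap.polar_smul_left,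
      QuadraticMap.polar_sub_right, QuadraticMap.polar_add_right, QuadraticMap.polar_smul_right,
      polar_self', hU u hu, hw, hux, huw, polar_comm ⇑Q w u, smul_eq_mul, inv_one, one_mul]
    match_scalars <;> field_simp <;> ring
  rw [e]
  exact U.add_mem hx (U.smul_mem _ hu)

/-- Totally singular subspaces: the adjustment, with the parity given or supplied by a vector. -/
theorem omega_map_singular (hQ : (QuadraticMap.polarBilin Q).Nondegenerate)
    (h : Fintype.card F ≠ 2 ∨ Fintype.card ι ≠ 4) (hn : 2 ≤ Fintype.card ι)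
    {U W : Submodule F (ι → F)} (hU : ∀ x ∈ U, Q x = 0) {u : ι → F} (hu : u ∈ U) (hu0 : u ≠ 0)
    (g : ↥(Cfsg.isometryGroup F ⇑Q)) (hg : U.map (Matrix.mulVecLin (mat g)) = W)
    (hpar : (∀ vs : List (ι → F), (∀ v ∈ vs, Q v ≠ 0) → g = reflProd Q vs → Even vs.length) ∨
      ∃ v, Q v ≠ 0 ∧ ∀ x ∈ U, polar ⇑Q v x = 0) :
    ∃ g' : ↥(Cfsg.isometryGroup F ⇑Q), g' ∈ Cfsg.Omega F ⇑Q ∧
      U.map (Matrix.mulVecLin (mat g')) = W := by
  refine exists_omega_map hQ h hn g hg fun vs hvs hvg => ?_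
  have hP : (vs.map fun v => Q v).prod ≠ 0 := by
    refine List.prod_ne_zero fun h0 => ?_
    obtain ⟨v, hv, hv0⟩ := List.mem_map.1 h0
    exact hvs v hv hv0
  set P := (vs.map fun v => Q v).prod
  by_cases hev : Even vs.length
  · obtain ⟨p, q, hp, hq, hpq⟩ := exists_pair_stab hQ hU hu hu0 hP
    refine ⟨[p, q], by simp [hp, hq, hP], fun x hx => ?_, by simpa [parity_simps] using hev,
      P, by simp [hp, hq]⟩
    simpa [reflProd] using hpq x hx
  · rcases hpar with hall | ⟨v, hv, hvU⟩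
    · exact absurd (hall vs hvs hvg) hev
    obtain ⟨p, q, hp, hq, hpq⟩ := exists_pair_stab hQ hU hu hu0 (mul_ne_zero hv hP)
    refine ⟨[v, p, q], by simp [hv, hp, hq, hP], fun x hx => ?_, by simpa [parity_simps] using hev,
      Q v * P, by simp [hp, hq]; ring⟩
    rw [reflProd_cons, act_mul]
    exact refl_stab hv (Or.inr hvU) (by simpa [reflProd] using hpq x hx)

/-- Nondegenerate subspaces of dimension at least two represent everything. -/
theorem exists_value_sub {S : Submodule F (ι → F)}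
    (hS : S ⊓ LinearMap.BilinForm.orthogonal (QuadraticMap.polarBilin Q) S = ⊥)
    (hd : 2 ≤ Module.finrank F S) (c : F) (hc : c ≠ 0) : ∃ v ∈ S, Q v = c := by
  have hrad : ∀ x ∈ S, (∀ y ∈ S, polar ⇑Q y x = 0) → x = 0 := fun x hx hxy =>
    (Submodule.mem_bot F).1 (hS ▸ Submodule.mem_inf.2 ⟨hx, fun y hy => hxy y hy⟩)
  have hne : S ≠ ⊥ := fun e => by rw [e, finrank_bot] at hd; omega
  obtain ⟨a, haS, ha⟩ : ∃ a ∈ S, Q a ≠ 0 := by
    by_contra hh
    push Not at hh
    refine hne (eq_bot_iff.2 fun x hx => (Submodule.mem_bot F).2 (hrad x hx fun y hy => ?_))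
    have := Reflections.map_add' Q y x
    rw [hh _ (S.add_mem hy hx), hh y hy, hh x hx] at this
    linear_combination -this
  by_cases h2 : (2 : F) = 0
  · obtain ⟨r, hr⟩ := isSquare_of_two_eq_zero h2 (c / Q a)
    refine ⟨r • a, S.smul_mem _ haS, ?_⟩
    rw [Reflections.map_smul', ← hr, div_mul_cancel₀ _ ha]
  · set φ : S →ₗ[F] F := (QuadraticMap.polarBilin Q a).domRestrict S
    obtain ⟨b, hbS, hab, hb⟩ : ∃ b ∈ S, polar ⇑Q a b = 0 ∧ Q b ≠ 0 := by
      by_contra hh
      push Not at hh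
      have hr := LinearMap.finrank_range_add_finrank_ker φ
      have h1 := Submodule.finrank_le (LinearMap.range φ)
      rw [Module.finrank_self] at h1
      haveI : Nontrivial (LinearMap.ker φ) := Module.finrank_pos_iff.1 (by omega :
        0 < Module.finrank F (LinearMap.ker φ))
      obtain ⟨⟨⟨b, hbS⟩, hbk⟩, hb0⟩ := exists_ne (0 : LinearMap.ker φ)
      have hab : polar ⇑Q a b = 0 := hbk
      refine hb0 (Subtype.ext (Subtype.ext (hrad b hbS fun y hy => ?_)))
      have hpa : polar ⇑Q a a ≠ 0 := by rw [polar_self']; exact mul_ne_zero h2 ha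
      set t := (polar ⇑Q a a)⁻¹ * polar ⇑Q a y
      have hy' : polar ⇑Q a (y - t • a) = 0 := by
        rw [QuadraticMap.polar_sub_right, QuadraticMap.polar_smul_right, smul_eq_mul]
        simp only [t]; field_simp; ring
      have hyS : y - t • a ∈ S := S.sub_mem hy (S.smul_mem _ haS)
      have e := Reflections.map_add' Q (y - t • a) b
      rw [hh _ (S.add_mem hyS hbS) (by rw [QuadraticMap.polar_add_right, hy', hab, add_zero]),
        hh _ hyS hy', hh b hbS hab, QuadraticMap.polar_sub_left, QuadraticMap.polar_smul_left, hab,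
        smul_zero, sub_zero] at e
      linear_combination -e
    obtain ⟨s, t, hst⟩ := Reflections.exists_sum_sq h2 ha hb c
    refine ⟨s • a + t • b, S.add_mem (S.smul_mem _ haS) (S.smul_mem _ hbS), ?_⟩
    rw [Reflections.map_add', Reflections.map_smul', Reflections.map_smul',
      QuadraticMap.polar_smul_left, QuadraticMap.polar_smul_right, hab]
    simp only [smul_eq_mul, mul_zero, add_zero]
    linear_combination hst

theorem polarBilin_isRefl (Q : QuadraticForm F (ι → F)) :
    LinearMap.BilinForm.IsRefl (QuadraticMap.polarBilin Q) :=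
  fun x y e => by simpa [polar_comm] using e

/-- Omega is transitive on isometric nondegenerate subspaces. -/
theorem omega_map_nondeg (hQ : (QuadraticMap.polarBilin Q).Nondegenerate)
    (h : Fintype.card F ≠ 2 ∨ Fintype.card ι ≠ 4) (hn : 3 ≤ Fintype.card ι)
    {U W : Submodule F (ι → F)}
    (hU : U ⊓ LinearMap.BilinForm.orthogonal (QuadraticMap.polarBilin Q) U = ⊥)
    (g : ↥(Cfsg.isometryGroup F ⇑Q)) (hg : U.map (Matrix.mulVecLin (mat g)) = W) :
    ∃ g' : ↥(Cfsg.isometryGroup F ⇑Q), g' ∈ Cfsg.Omega F ⇑Q ∧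
      U.map (Matrix.mulVecLin (mat g')) = W := by
  refine exists_omega_map hQ h (by omega) g hg fun vs hvs _ => ?_
  have hoo := LinearMap.BilinForm.orthogonal_orthogonal hQ (polarBilin_isRefl Q) U
  have hdim := LinearMap.BilinForm.finrank_orthogonal hQ U
  rw [Module.finrank_fintype_fun_eq_card] at hdim
  have hrep : ∀ c : F, c ≠ 0 → ∃ v, Q v = c ∧ (v ∈ U ∨ ∀ x ∈ U, polar ⇑Q v x = 0) := by
    intro c hc
    by_cases hd : 2 ≤ Module.finrank F U
    · obtain ⟨v, hv, e⟩ := exists_value_sub hU hd c hc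
      exact ⟨v, e, Or.inl hv⟩
    · obtain ⟨v, hv, e⟩ := exists_value_sub
        (S := LinearMap.BilinForm.orthogonal (QuadraticMap.polarBilin Q) U)
        (by rw [hoo, inf_comm]; exact hU) (by omega) c hc
      exact ⟨v, e, Or.inr fun x hx => by rw [polar_comm]; exact hv x hx⟩
  choose! f hf1 hf2 using hrep
  refine ⟨vs.map fun v => f (Q v), ?_, reflProd_stab _ ?_ ?_, by simp, ?_⟩
  · intro v hv
    obtain ⟨w, hw, rfl⟩ := List.mem_map.1 hv
    rw [hf1 _ (hvs w hw)]; exact hvs w hw
  · intro v hv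
    obtain ⟨w, hw, rfl⟩ := List.mem_map.1 hv
    rw [hf1 _ (hvs w hw)]; exact hvs w hw
  · intro v hv
    obtain ⟨w, hw, rfl⟩ := List.mem_map.1 hv
    exact hf2 _ (hvs w hw)
  · refine ⟨(vs.map fun v => Q v).prod, ?_⟩
    rw [List.map_map]
    congr 2
    exact List.map_congr_left fun v hv => hf1 _ (hvs v hv)

/-- An isometry carrying `U` onto `W`, by Witt's extension theorem. -/
theorem exists_isometry_map (hQ : (QuadraticMap.polarBilin Q).Nondegenerate)
    (U W : Submodule F (ι → F)) (e : U ≃ₗ[F] W)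
    (he : ∀ x : U, Q (e x : ι → F) = Q (x : ι → F)) :
    ∃ g : ↥(Cfsg.isometryGroup F ⇑Q), U.map (Matrix.mulVecLin (mat g)) = W := by
  obtain ⟨g, hg, hgU⟩ := Forms.witt_quadratic Q hQ U W e he
  obtain ⟨k, hk⟩ := exists_of_linearEquiv g hg
  refine ⟨k, Submodule.ext fun y => ⟨?_, fun hy => ?_⟩⟩
  · rintro ⟨x, hx, rfl⟩
    show act k x ∈ W
    rw [hk, hgU ⟨x, hx⟩]
    exact Subtype.coe_prop _
  · refine ⟨(e.symm ⟨y, hy⟩ : ι → F), Subtype.coe_prop _, ?_⟩
    show act k _ = y
    rw [hk, hgU, LinearEquiv.apply_symm_apply]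

theorem exists_isometry_map_singular (hQ : (QuadraticMap.polarBilin Q).Nondegenerate)
    (U W : Submodule F (ι → F)) (hd : Module.finrank F U = Module.finrank F W)
    (hU : ∀ x ∈ U, Q x = 0) (hW : ∀ x ∈ W, Q x = 0) :
    ∃ g : ↥(Cfsg.isometryGroup F ⇑Q), U.map (Matrix.mulVecLin (mat g)) = W :=
  exists_isometry_map hQ U W (LinearEquiv.ofFinrankEq U W hd)
    fun x => by rw [hU x x.2, hW _ (Subtype.coe_prop _)]

theorem exists_perp_nonsingular (hQ : (QuadraticMap.polarBilin Q).Nondegenerate)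
    {U : Submodule F (ι → F)} (hk : 2 * Module.finrank F U < Fintype.card ι) :
    ∃ v, Q v ≠ 0 ∧ ∀ x ∈ U, polar ⇑Q v x = 0 := by
  by_contra hh
  push Not at hh
  have hP : ∀ v ∈ LinearMap.BilinForm.orthogonal (QuadraticMap.polarBilin Q) U, Q v = 0 := by
    intro v hv
    by_contra h0
    obtain ⟨x, hx, hne⟩ := hh v h0
    exact hne (by rw [polar_comm]; exact hv x hx)
  have hle : LinearMap.BilinForm.orthogonal (QuadraticMap.polarBilin Q) U ≤
      LinearMap.BilinForm.orthogonal (QuadraticMap.polarBilin Q)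
        (LinearMap.BilinForm.orthogonal (QuadraticMap.polarBilin Q) U) := fun v hv y hy => by
    show polar ⇑Q y v = 0
    have := Reflections.map_add' Q y v
    rw [hP _ (Submodule.add_mem _ hy hv), hP y hy, hP v hv] at this
    linear_combination -this
  rw [LinearMap.BilinForm.orthogonal_orthogonal hQ (polarBilin_isRefl Q) U] at hle
  have := Submodule.finrank_mono hle
  rw [LinearMap.BilinForm.finrank_orthogonal hQ U, Module.finrank_fintype_fun_eq_card] at this
  omega

end Cfsg.Agent.Forms59
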