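import Cfsg.Agent.Forms59.JordanForms

/-!
Quadratic forms preserved by a unipotent matrix of given Jordan type.
-/

set_option autoImplicit false
set_option linter.unusedSectionVars false

namespace Cfsg.Agent.Forms59.Jordan

open Matrix
open scoped Matrix

variable {F : Type*} [Field F] {t : ℕ} {d : Fin t → ℕ}

/-- Transport an invariant form along a change of coordinates. -/
theorem push {κ : Type*} [Fintype κ] [DecidableEq κ] (e : Ix d ≃ κ) {P c : Matrix (Ix d) (Ix d) F}
    {J : Matrix κ κ F} (hc : IsUnit c) (hP : (Umat F d)ᵀ * P * Umat F d = P)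
    (hJ : cᵀ * P * c = J.submatrix e e) (hJu : IsUnit J) :
    ∃ A : Matrix κ κ F, IsUnit A ∧ Aᵀ * J * A = J ∧ IsConj (Matrix.reindex e e (Umat F d)) A := by
  obtain ⟨c, rfl⟩ := hc
  set ci : Matrix (Ix d) (Ix d) F := ((c⁻¹ : (Matrix (Ix d) (Ix d) F)ˣ) : Matrix (Ix d) (Ix d) F)
  obtain ⟨B, hB⟩ : ∃ B, B = ci * Umat F d * (c : Matrix (Ix d) (Ix d) F) := ⟨_, rfl⟩
  have hBP : Bᵀ * J.submatrix e e * B = J.submatrix e e := by
    rw [← hJ, hB]
    simp only [ci, transpose_mul, mul_assoc, Units.mul_inv_cancel_left]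
    have h2 : ((c⁻¹ : (Matrix (Ix d) (Ix d) F)ˣ) : Matrix (Ix d) (Ix d) F)ᵀ * (c : Matrix (Ix d) (Ix d) F)ᵀ = 1 := by
      rw [← transpose_mul, Units.mul_inv, transpose_one]
    rw [← mul_assoc _ (c : Matrix (Ix d) (Ix d) F)ᵀ, h2, one_mul]
    conv_rhs => rw [← hP]
    simp only [mul_assoc]
  have hA : (B.submatrix e.symm e.symm)ᵀ * J * B.submatrix e.symm e.symm = J := by
    have h := congrArg (fun M : Matrix (Ix d) (Ix d) F => M.submatrix e.symm e.symm) hBP
    simp only [← submatrix_mul_equiv _ _ e.symm e.symm e.symm, submatrix_submatrix, Equiv.self_comp_symm,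
      submatrix_id_id, ← transpose_submatrix] at h
    exact h
  refine ⟨B.submatrix e.symm e.symm, ?_, hA, ?_⟩
  · rw [Matrix.isUnit_iff_isUnit_det]
    have h := congrArg Matrix.det hA
    rw [det_mul] at h
    exact isUnit_of_mul_isUnit_right (h ▸ (Matrix.isUnit_iff_isUnit_det J).1 hJu)
  · obtain ⟨u, hu⟩ := (Matrix.isUnit_submatrix_equiv e.symm e.symm).2 (c⁻¹).isUnit
    refine ⟨u, ?_⟩
    show (u : Matrix κ κ F) * _ = _ * (u : Matrix κ κ F)
    rw [hu, Matrix.reindex_apply, submatrix_mul_equiv, submatrix_mul_equiv, hB]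
    congr 1
    simp only [ci, mul_assoc, Units.mul_inv, mul_one]

/-- The Gram matrix of the polar form. -/
theorem exists_polar_matrix {κ : Type*} [Fintype κ] [DecidableEq κ] (Q : QuadraticForm F (κ → F))
    (hQ : (QuadraticMap.polarBilin Q).Nondegenerate) :
    ∃ J : Matrix κ κ F, IsUnit J ∧ Jᵀ = J ∧ (∀ x, x ⬝ᵥ J *ᵥ x = 2 * Q x) ∧
      ∀ A : Matrix κ κ F, (∀ v, Q (A *ᵥ v) = Q v) → Aᵀ * J * A = J := by
  classical
  have hB : ∀ x y, x ⬝ᵥ (LinearMap.BilinForm.toMatrix' (QuadraticMap.polarBilin Q)) *ᵥ y =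
      QuadraticMap.polar Q x y := fun x y => by
    rw [← Matrix.toBilin'_apply', Matrix.toBilin'_toMatrix']
    rfl
  refine ⟨LinearMap.BilinForm.toMatrix' (QuadraticMap.polarBilin Q), ?_, ?_, fun x => ?_, fun A hA => ?_⟩
  · rw [Matrix.isUnit_iff_isUnit_det, isUnit_iff_ne_zero, ← Matrix.nondegenerate_iff_det_ne_zero,
      ← nondegenerate_toBilin'_iff, Matrix.toBilin'_toMatrix']
    exact hQ
  · ext i j
    simp [LinearMap.BilinForm.toMatrix'_apply, QuadraticMap.polarBilin_apply_apply, QuadraticMap.polar_comm]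
  · rw [hB, QuadraticMap.polar_self]; simp
  · refine Matrix.ext_of_mulVec_single fun j => funext fun i => ?_
    have h := hB (A *ᵥ Pi.single i 1) (A *ᵥ Pi.single j 1)
    simp only [QuadraticMap.polar, ← mulVec_add, hA] at h
    rw [← QuadraticMap.polar, ← hB] at h
    rw [dotProduct_comm, ← dotProduct_transpose_mulVec, dotProduct_comm, mulVec_mulVec, mulVec_mulVec] at h
    simpa [single_dotProduct] using h

/-- A quadratic form from a matrix, with its isometries. -/
theorem exists_quad {κ : Type*} [Fintype κ] [DecidableEq κ] (R : Matrix κ κ F) (hR : IsUnit (R + Rᵀ)) :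
    ∃ Q : QuadraticForm F (κ → F), (QuadraticMap.polarBilin Q).Nondegenerate ∧
      ∀ v, Q v = v ⬝ᵥ R *ᵥ v := by
  refine ⟨LinearMap.BilinMap.toQuadraticMap (Matrix.toBilin' R), ?_, fun v => Matrix.toBilin'_apply' R v v⟩
  rw [LinearMap.BilinMap.polarBilin_toQuadraticMap]
  have : Matrix.toBilin' R + LinearMap.flip (Matrix.toBilin' R) = Matrix.toBilin' (R + Rᵀ) := by
    rw [map_add]
    congr 1
    refine LinearMap.ext₂ fun x y => ?_
    show Matrix.toBilin' R y x = _
    rw [Matrix.toBilin'_apply', Matrix.toBilin'_apply', dotProduct_comm, ← dotProduct_transpose_mulVec, dotProduct_comm, transpose_transpose]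
  rw [this]
  exact nondegenerate_toBilin'_iff.2 (Matrix.nondegenerate_of_det_ne_zero ((Matrix.isUnit_iff_isUnit_det _).1 hR).ne_zero)

/-- In characteristic two a unipotent symplectic matrix preserves a quadratic form with that polar form. -/
theorem exists_quad_matrix [Fintype F] [CharP F 2] {P : Matrix (Ix d) (Ix d) F}
    (hP : (Umat F d)ᵀ * P * Umat F d = P) (halt : ∀ x, x ⬝ᵥ P *ᵥ x = 0) :
    ∃ R : Matrix (Ix d) (Ix d) F, R + Rᵀ = P ∧
      ∀ x, (Umat F d *ᵥ x) ⬝ᵥ R *ᵥ (Umat F d *ᵥ x) = x ⬝ᵥ R *ᵥ x := by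
  classical
  have hneg : (-1 : F) = 1 := CharTwo.neg_eq 1
  have hdiag : ∀ p, P p p = 0 := fun p => by simpa using halt (Pi.single p 1)
  have hsym : ∀ p q, P q p = P p q := fun p q => by
    have h := halt (Pi.single p 1 + Pi.single q 1)
    simp [mulVec_add, hdiag] at h
    exact CharTwo.add_eq_zero.1 (by rw [add_comm]; exact h) |>.symm
  let τ := Fintype.equivFin (Ix d)
  let R0 : Matrix (Ix d) (Ix d) F := Matrix.of fun p q => if τ p < τ q then P p q else 0
  have hR0 : R0 + R0ᵀ = P := by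
    ext p q
    simp only [Matrix.add_apply, transpose_apply, R0, Matrix.of_apply]
    rcases lt_trichotomy (τ p) (τ q) with h | h | h
    · rw [if_pos h, if_neg h.not_gt, add_zero]
    · obtain rfl := τ.injective h
      simp [hdiag]
    · rw [if_neg h.not_gt, if_pos h, zero_add, hsym]
  obtain ⟨D, hD⟩ : ∃ D, D = (Umat F d)ᵀ * R0 * Umat F d + R0 := ⟨_, rfl⟩
  have hDT : Dᵀ = D := by
    have h1 : D + Dᵀ = 0 := by
      have : D + Dᵀ = (Umat F d)ᵀ * (R0 + R0ᵀ) * Umat F d + (R0 + R0ᵀ) := by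
        rw [hD, transpose_add, transpose_mul, transpose_mul, transpose_transpose]
        noncomm_ring
      rw [this, hR0, hP]
      ext p q
      exact CharTwo.add_self_eq_zero _
    ext p q
    exact (CharTwo.add_eq_zero.1 (congrFun (congrFun h1 p) q)).symm
  have h2 : ringChar F = 2 := ringChar.eq F 2
  choose l hl using fun p => FiniteField.isSquare_of_char_two h2 (D p p)
  have hquad : ∀ x, x ⬝ᵥ D *ᵥ x = (l ⬝ᵥ x) ^ 2 := by
    intro x
    have h0 := alt_of_skew (P := D - Matrix.diagonal (fun p => D p p))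
      (by rw [transpose_sub, diagonal_transpose, hDT, hneg, one_smul]) (fun p => by simp) x
    rw [sub_mulVec, dotProduct_sub, sub_eq_zero] at h0
    rw [h0, dotProduct, dotProduct, CharTwo.sum_sq]
    refine Finset.sum_congr rfl fun p _ => ?_
    rw [mulVec_diagonal, hl p]
    ring
  have hker : ∀ x, Nmat F d *ᵥ x = 0 → l ⬝ᵥ x = 0 := by
    intro x hx
    have hx' : Umat F d *ᵥ x = x := by rwa [sub_mulVec, one_mulVec, sub_eq_zero] at hx
    have h := hquad x
    rw [hD, add_mulVec, dotProduct_add, ← mulVec_mulVec, ← mulVec_mulVec, hx', dotProduct_mulVec,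
      vecMul_transpose, hx', CharTwo.add_self_eq_zero] at h
    exact pow_eq_zero_iff (two_ne_zero) |>.1 h.symm
  let μ : Ix d → F := fun p => if 1 ≤ (p.2 : ℕ) then ext0 l p.1 ((p.2 : ℕ) - 1) else 0
  have hμ : (Nmat F d)ᵀ *ᵥ μ = l := by
    funext ⟨k, a⟩
    rw [Nmat_transpose_mulVec]
    by_cases h : (a : ℕ) + 1 < d k
    · rw [ext0, dif_pos h]
      simp [μ, ext0_coe]
    · rw [ext0, dif_neg h]
      have h' := hker (Pi.single ⟨k, a⟩ 1) (funext fun ⟨k', b⟩ => by
        have := b.2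
        rw [Nmat_mulVec, Pi.zero_apply]
        split
        · rw [ext0, dif_pos (by omega)]
          refine Pi.single_eq_of_ne (fun e => ?_) _
          obtain ⟨h1, h2⟩ := Sigma.mk.inj_iff.1 e
          subst h1
          have h3 := congrArg Fin.val (eq_of_heq h2)
          simp only at h3
          omega
        · rfl)
      rw [dotProduct_single, mul_one] at h'
      exact h'.symm
  refine ⟨R0 + Matrix.vecMulVec μ μ, ?_, fun x => ?_⟩
  · rw [transpose_add, transpose_vecMulVec, add_add_add_comm, hR0]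
    ext p q
    simp [CharTwo.add_self_eq_zero]
  have hv : ∀ z, z ⬝ᵥ Matrix.vecMulVec μ μ *ᵥ z = (μ ⬝ᵥ z) ^ 2 := fun z => by
    rw [vecMulVec_mulVec, dotProduct_smul, op_smul_eq_mul, dotProduct_comm z μ]; ring
  have hmu : μ ⬝ᵥ (Umat F d *ᵥ x) = l ⬝ᵥ x + μ ⬝ᵥ x := by
    rw [← hμ, mulVec_transpose, ← dotProduct_mulVec, ← dotProduct_add, sub_mulVec, one_mulVec, sub_add_cancel]
  have hD' : (Umat F d *ᵥ x) ⬝ᵥ R0 *ᵥ (Umat F d *ᵥ x) + x ⬝ᵥ R0 *ᵥ x = (l ⬝ᵥ x) ^ 2 := by
    rw [← hquad, hD, add_mulVec, dotProduct_add, ← mulVec_mulVec, ← mulVec_mulVec, dotProduct_mulVec x (Umat F d)ᵀ,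
      vecMul_transpose]
  simp only [add_mulVec, dotProduct_add, hv, hmu, CharTwo.add_sq]
  have h' := CharTwo.add_eq_iff_eq_add.1 hD'
  rw [h']
  linear_combination CharTwo.add_self_eq_zero ((l ⬝ᵥ x) ^ 2)

end Cfsg.Agent.Forms59.Jordan
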