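import Cfsg.Agent.Forms59.CharTwo
import Cfsg.Agent.Forms59.Spinor
import Cfsg.Agent.CG26.PlusParity
import Cfsg.Agent.Lib.LinearGroup.Generation

/-!
The hyperbolic form: the class character, the swap, and the Levi factor.
-/

set_option autoImplicit false
set_option linter.unusedSectionVars false

namespace Cfsg.Agent.Forms59

open Matrix QuadraticMap Cfsg.Agent.Reflections
open scoped Matrix commutatorElement

variable {F : Type*} [Field F] {m : ℕ}

/-- Isometry groups of the hyperbolic space. -/
abbrev PlusIso (m : ℕ) (F : Type*) [Field F] := ↥(Cfsg.isometryGroup F ⇑(Reflections.qPlus m F))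

theorem polar_qPlus' (x y : Fin m ⊕ Fin m → F) :
    polar ⇑(Reflections.qPlus m F) x y =
      ∑ i, (x (.inl i) * y (.inr i) + y (.inl i) * x (.inr i)) := by
  simp only [Reflections.coe_qPlus, QuadraticMap.polar, Cfsg.quadFormPlus, Pi.add_apply,
    ← Finset.sum_sub_distrib]
  exact Finset.sum_congr rfl fun i _ => by ring

theorem qPlus_nondegenerate : (QuadraticMap.polarBilin (Reflections.qPlus m F)).Nondegenerate := by
  have main : ∀ x, (∀ y, polar ⇑(Reflections.qPlus m F) x y = 0) → x = 0 := by
    intro x hx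
    funext k
    rcases k with i | i
    · have h := hx (Pi.single (Sum.inr i) 1)
      rw [polar_qPlus'] at h
      simpa [Pi.single_apply] using h
    · have h := hx (Pi.single (Sum.inl i) 1)
      rw [polar_qPlus'] at h
      simpa [Pi.single_apply] using h
  exact ⟨main, fun x hx => main x fun y => by rw [polar_comm]; exact hx y⟩

theorem std_eq_ker : CG26.Plus.std m F =
    LinearMap.ker (LinearMap.funLeft F F (Sum.inr : Fin m → Fin m ⊕ Fin m)) := by
  ext v
  rw [LinearMap.mem_ker]
  exact ⟨fun h => funext h, fun h i => congrFun h i⟩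

/-- The image of a subspace under an isometry. -/
def imgSub (g : PlusIso m F) (U : Submodule F (Fin m ⊕ Fin m → F)) :
    Submodule F (Fin m ⊕ Fin m → F) := U.map (Matrix.mulVecLin (mat g))

theorem mem_imgSub {g : PlusIso m F} {U : Submodule F (Fin m ⊕ Fin m → F)}
    {x : Fin m ⊕ Fin m → F} : x ∈ imgSub g U ↔ ∃ y ∈ U, act g y = x := Iff.rfl

theorem imgSub_mul (g h : PlusIso m F) (U : Submodule F (Fin m ⊕ Fin m → F)) :
    imgSub (g * h) U = imgSub g (imgSub h U) := by
  rw [imgSub, mat_mul', Matrix.mulVecLin_mul, Submodule.map_comp]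
  rfl

theorem imgSub_inf (g : PlusIso m F) (U W : Submodule F (Fin m ⊕ Fin m → F)) :
    imgSub g (U ⊓ W) = imgSub g U ⊓ imgSub g W :=
  Submodule.map_inf _ fun x y h => act_injective g h

theorem finrank_imgSub (g : PlusIso m F) (U : Submodule F (Fin m ⊕ Fin m → F)) :
    Module.finrank F ↥(imgSub g U) = Module.finrank F ↥U :=
  (Submodule.equivMapOfInjective _ (fun x y h => act_injective g h) U).finrank_eq.symm

theorem isTS_imgSub (g : PlusIso m F) {U : Submodule F (Fin m ⊕ Fin m → F)}
    (hU : CG26.Plus.IsTS U) : CG26.Plus.IsTS (imgSub g U) := by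
  intro x hx
  obtain ⟨y, hy, rfl⟩ := mem_imgSub.1 hx
  have h := act_Q g y
  rw [Reflections.coe_qPlus] at h
  rw [h]
  exact hU y hy

/-- `dim (U₀ ∩ g U₀)`. -/
noncomputable def fixDim (g : PlusIso m F) : ℕ :=
  Module.finrank F ↥(CG26.Plus.std m F ⊓ imgSub g (CG26.Plus.std m F))

theorem fixDim_le (g : PlusIso m F) : fixDim g ≤ m := by
  have := Submodule.finrank_mono (inf_le_left :
    CG26.Plus.std m F ⊓ imgSub g (CG26.Plus.std m F) ≤ CG26.Plus.std m F)
  rw [CG26.Plus.std_finrank] at this
  exact this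

theorem fixDim_one : fixDim (1 : PlusIso m F) = m := by
  have : imgSub (1 : PlusIso m F) (CG26.Plus.std m F) = CG26.Plus.std m F := by
    rw [imgSub, mat_one', Matrix.mulVecLin_one, Submodule.map_id]
  rw [fixDim, this, inf_idem, CG26.Plus.std_finrank]

theorem two_eq_zero_zmod : (2 : ZMod 2) = 0 := rfl

/-- The class character: parity of `m - dim (U₀ ∩ g U₀)`. -/
noncomputable def classHom (m : ℕ) (F : Type*) [Field F] :
    PlusIso m F →* Multiplicative (ZMod 2) where
  toFun g := Multiplicative.ofAdd ((m : ZMod 2) + (fixDim g : ZMod 2))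
  map_one' := by
    rw [fixDim_one, ← two_mul, two_eq_zero_zmod, zero_mul]
    rfl
  map_mul' g h := by
    set S := CG26.Plus.std m F
    have hS : CG26.Plus.IsTS S := CG26.Plus.std_ts
    have hSd : Module.finrank F ↥S = m := CG26.Plus.std_finrank
    have hinter : Module.finrank F ↥(imgSub g S ⊓ imgSub (g * h) S) = fixDim h := by
      rw [imgSub_mul, ← imgSub_inf, finrank_imgSub]
      rfl
    obtain ⟨r, hr⟩ := CG26.Plus.parity hS hSd (m - fixDim h) (imgSub g S) (imgSub (g * h) S)
      (isTS_imgSub g hS) (by rw [finrank_imgSub, hSd]) (isTS_imgSub _ hS)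
      (by rw [finrank_imgSub, hSd]) (by rw [hinter]; have := fixDim_le h; omega)
    rw [inf_comm, inf_comm (imgSub (g * h) S)] at hr
    change fixDim g + fixDim (g * h) + (m - fixDim h) = r + r at hr
    have hle := fixDim_le h
    have e : ((fixDim g + fixDim (g * h) + m : ℕ) : ZMod 2) = ((r + r + fixDim h : ℕ) : ZMod 2) :=
      congrArg _ (by omega)
    push_cast at e
    rw [← ofAdd_add]
    congr 1
    linear_combination e + ((r : ZMod 2) - (fixDim g : ZMod 2) - (m : ZMod 2)) * two_eq_zero_zmod

theorem classHom_eq_one_iff (g : PlusIso m F) :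
    classHom m F g = 1 ↔ Even (m - fixDim g) := by
  show Multiplicative.ofAdd _ = 1 ↔ _
  rw [ofAdd_eq_one, ← Nat.cast_add, ZMod.natCast_eq_zero_iff_even, Nat.even_add,
    Nat.even_sub (fixDim_le g)]

theorem classHom_refl {v : Fin m ⊕ Fin m → F} (hv : Reflections.qPlus m F v ≠ 0) :
    classHom m F (refl (Reflections.qPlus m F) v) = Multiplicative.ofAdd 1 := by
  set S := CG26.Plus.std m F
  set r := refl (Reflections.qPlus m F) v
  have hvS : v ∉ S := fun h => hv (by rw [Reflections.coe_qPlus]; exact CG26.Plus.std_ts v h)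
  let φ : (Fin m ⊕ Fin m → F) →ₗ[F] F := (QuadraticMap.polarBilin (Reflections.qPlus m F)) v
  have hkey : S ⊓ imgSub r S = S ⊓ LinearMap.ker φ := by
    ext x
    simp only [Submodule.mem_inf, LinearMap.mem_ker]
    refine and_congr_right fun hx => ?_
    constructor
    · intro hr
      obtain ⟨y, hy, hyx⟩ := mem_imgSub.1 hr
      have hy' : y = act r x := by
        rw [← hyx, ← act_mul, refl_mul_self hv, act_one]
      rw [act_refl hv] at hy'
      have hc : ((Reflections.qPlus m F v)⁻¹ * polar ⇑(Reflections.qPlus m F) v x) • v ∈ S := by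
        have := S.sub_mem hx hy
        rwa [hy', sub_sub_cancel] at this
      by_contra hne
      exact hvS ((Submodule.smul_mem_iff _ (mul_ne_zero (inv_ne_zero hv) hne)).1 hc)
    · intro h0
      exact mem_imgSub.2 ⟨x, hx, refl_fix hv h0⟩
  have hne : φ.domRestrict S ≠ 0 := by
    intro h0
    have hperp : ∀ i, v (Sum.inr i) = 0 := by
      intro i
      have := LinearMap.congr_fun h0 ⟨Pi.single (Sum.inl i) 1, fun j => by simp⟩
      simp only [LinearMap.domRestrict_apply, LinearMap.zero_apply] at this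
      change polar ⇑(Reflections.qPlus m F) v (Pi.single (Sum.inl i) 1) = 0 at this
      rw [polar_qPlus'] at this
      simpa [Pi.single_apply] using this
    exact hvS hperp
  have hrank := LinearMap.finrank_range_add_finrank_ker (φ.domRestrict S)
  have hrange : LinearMap.range (φ.domRestrict S) = ⊤ := LinearMap.range_eq_top.2
    (LinearMap.surjective hne)
  have hker : Module.finrank F ↥(LinearMap.ker (φ.domRestrict S)) =
      Module.finrank F ↥(S ⊓ LinearMap.ker φ) := by
    rw [LinearMap.ker_domRestrict, inf_comm]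
    exact (Submodule.equivMapOfInjective S.subtype S.injective_subtype _).finrank_eq.trans
      (by rw [Submodule.map_comap_subtype, inf_comm])
  rw [hrange, finrank_top, Module.finrank_self, hker, ← hkey, CG26.Plus.std_finrank] at hrank
  show Multiplicative.ofAdd ((m : ZMod 2) + (fixDim r : ZMod 2)) = Multiplicative.ofAdd 1
  have e : ((1 + fixDim r : ℕ) : ZMod 2) = (m : ZMod 2) := congrArg _ hrank
  push_cast at e
  congr 1
  linear_combination -e + (fixDim r : ZMod 2) * two_eq_zero_zmod

theorem omega_le_classHom_ker :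
    Cfsg.Omega F ⇑(Reflections.qPlus m F) ≤ (classHom m F).ker :=
  Abelianization.commutator_subset_ker _

/-! ### Coordinate permutations and the swap -/

/-- A permutation of coordinates preserving the pairs, as an isometry. -/
theorem exists_perm_iso (p : Equiv.Perm (Fin m ⊕ Fin m))
    (hp : ∀ x : Fin m ⊕ Fin m → F, Cfsg.quadFormPlus m F (fun k => x (p k)) =
      Cfsg.quadFormPlus m F x) :
    ∃ g : PlusIso m F, ∀ (x : Fin m ⊕ Fin m → F) k, act g x k = x (p k) := by
  obtain ⟨g, hg⟩ := exists_of_linearEquiv (Q := Reflections.qPlus m F)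
    (LinearEquiv.funCongrLeft F F p) fun v => by
      rw [Reflections.coe_qPlus]; exact hp v
  exact ⟨g, fun x k => by rw [hg]; rfl⟩

theorem exists_swap_mem_omega (hm : Even m) :
    ∃ g : PlusIso m F, g ∈ Cfsg.Omega F ⇑(Reflections.qPlus m F) ∧
      ∀ (x : Fin m ⊕ Fin m → F) k, act g x k = x k.swap := by
  obtain ⟨n, rfl⟩ := hm
  let sg : Fin (n + n) → Fin (n + n) := fun j =>
    if h : (j : ℕ) < n then ⟨j + n, by omega⟩ else ⟨j - n, by omega⟩
  have hsg : Function.Involutive sg := fun j => by
    by_cases h : (j : ℕ) < n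
    · simp [sg, h]
    · have h' : (j : ℕ) - n < n := by omega
      apply Fin.ext
      simp [sg, h, h']
      omega
  let half : Fin (n + n) ⊕ Fin (n + n) → Fin (n + n) ⊕ Fin (n + n) :=
    fun k => if (Sum.elim (fun j : Fin (n + n) => (j : ℕ)) (fun j : Fin (n + n) => (j : ℕ)) k) < n
      then k.swap else k
  have hhalf : Function.Involutive half := fun k => by
    rcases k with j | j <;> by_cases h : (j : ℕ) < n <;> simp [half, h]
  obtain ⟨s, hs⟩ := exists_perm_iso (F := F) hhalf.toPerm fun x => by
    refine Finset.sum_congr rfl fun j _ => ?_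
    by_cases h : (j : ℕ) < n <;> simp [half, h, mul_comm]
  obtain ⟨t, ht⟩ := exists_perm_iso (F := F) (Equiv.sumCongr hsg.toPerm hsg.toPerm) fun x => by
    exact Equiv.sum_comp hsg.toPerm (fun j => x (Sum.inl j) * x (Sum.inr j))
  have hs2 : s⁻¹ = s := inv_eq_of_mul_eq_one_right <| isom_ext fun x => by
    funext k
    rw [act_mul, hs, hs, act_one]
    show x (half (half k)) = x k
    rw [hhalf]
  have ht2 : t⁻¹ = t := inv_eq_of_mul_eq_one_right <| isom_ext fun x => by
    funext k
    rw [act_mul, ht, ht, act_one]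
    rcases k with j | j <;>
      simp only [Equiv.sumCongr_apply, Sum.map_inl, Sum.map_inr, Function.Involutive.coe_toPerm] <;>
      rw [hsg]
  refine ⟨⁅s, t⁆, Subgroup.commutator_mem_commutator (Subgroup.mem_top _) (Subgroup.mem_top _),
    fun x k => ?_⟩
  rw [commutatorElement_def, hs2, ht2, act_mul, act_mul, act_mul, hs, ht, hs, ht]
  congr 1
  rcases k with j | j <;> by_cases h : (j : ℕ) < n
  all_goals try have h' : (j : ℕ) - n < n := by omega
  all_goals try have h'' : ¬ (j : ℕ) + n < n := by omega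
  all_goals simp [half, sg, h, *]
  all_goals (apply Fin.ext; dsimp only; omega)

/-! ### The Levi factor -/

/-- `diag (A, A⁻ᵀ)`. -/
noncomputable def levi (m : ℕ) (F : Type*) [Field F] : GL (Fin m) F →* PlusIso m F :=
  MonoidHom.mk' (fun A => Reflections.mkIsom (Reflections.qPlus m F)
      (Matrix.fromBlocks (A : Matrix (Fin m) (Fin m) F) 0 0
        ((A⁻¹ : GL (Fin m) F) : Matrix (Fin m) (Fin m) F)ᵀ)
      (by
        rw [Matrix.det_fromBlocks_zero₂₁, Matrix.det_transpose, ← Matrix.det_mul, ← Units.val_mul,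
          mul_inv_cancel, Units.val_one, Matrix.det_one]
        exact one_ne_zero)
      (fun x => by
        rw [Reflections.coe_qPlus]
        show ∑ i, _ * _ = ∑ i, _ * _
        simp only [Matrix.fromBlocks_mulVec, Sum.elim_inl, Sum.elim_inr, Matrix.zero_mulVec,
          add_zero, zero_add]
        change (A : Matrix (Fin m) (Fin m) F) *ᵥ (x ∘ Sum.inl) ⬝ᵥ
          ((A⁻¹ : GL (Fin m) F) : Matrix (Fin m) (Fin m) F)ᵀ *ᵥ (x ∘ Sum.inr) =
            (x ∘ Sum.inl) ⬝ᵥ (x ∘ Sum.inr)
        rw [Matrix.dotProduct_mulVec, Matrix.vecMul_transpose, Matrix.mulVec_mulVec,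
          ← Units.val_mul, inv_mul_cancel, Units.val_one, Matrix.one_mulVec]))
    fun A B => eq_of_mat (by
      simp [mat_mul', Matrix.fromBlocks_multiply, Matrix.transpose_mul])

theorem mat_levi (A : GL (Fin m) F) : mat (levi m F A) =
    Matrix.fromBlocks (A : Matrix (Fin m) (Fin m) F) 0 0
      ((A⁻¹ : GL (Fin m) F) : Matrix (Fin m) (Fin m) F)ᵀ := rfl

end Cfsg.Agent.Forms59
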