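import Cfsg.Agent.Forms59.Binary

set_option autoImplicit false

namespace Cfsg.Agent.Forms59

variable {F : Type*} [Field F]

/-- The split form on `k` hyperbolic pairs plus a binary or smaller form in the last coordinates. -/
def sumForm (k : ℕ) {l : ℕ} (R : (Fin l → F) → F) (v : (Fin k ⊕ Fin k) ⊕ Fin l → F) : F :=
  (∑ i : Fin k, v (Sum.inl (Sum.inl i)) * v (Sum.inl (Sum.inr i))) + R (v ∘ Sum.inr)

theorem exists_decomposition_aux [Finite F] : ∀ (n : ℕ) {V : Type*} [AddCommGroup V] [Module F V]
    [FiniteDimensional F V] (Q : QuadraticForm F V), Module.finrank F V = n →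
    (QuadraticMap.polarBilin Q).Nondegenerate →
    ∃ (k l : ℕ) (R : QuadraticForm F (Fin l → F)) (e : V ≃ₗ[F] ((Fin k ⊕ Fin k) ⊕ Fin l → F)),
      l ≤ 2 ∧ 2 * k + l = n ∧ (∀ z, R z = 0 → z = 0) ∧ ∀ v, Q v = sumForm k (⇑R) (e v) := by
  intro n
  induction n using Nat.strong_induction_on with
  | _ n ih =>
    intro V _ _ _ Q hn hQ
    by_cases haniso : ∀ v, Q v = 0 → v = 0
    · let e0 : V ≃ₗ[F] (Fin n → F) := (Module.finBasisOfFinrankEq F V hn).equivFun
      let e : V ≃ₗ[F] ((Fin 0 ⊕ Fin 0) ⊕ Fin n → F) :=
        e0.trans (LinearEquiv.funCongrLeft F F (Equiv.emptySum (Fin 0 ⊕ Fin 0) (Fin n)))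
      refine ⟨0, n, Q.comp e0.symm.toLinearMap, e, ?_, by omega, ?_, ?_⟩
      · by_contra h
        obtain ⟨v, hv, hv0⟩ := exists_singular Q (by omega)
        exact hv (haniso v hv0)
      · intro z hz
        exact e0.symm.injective ((haniso _ hz).trans (map_zero _).symm)
      · intro v
        have h : (e v) ∘ Sum.inr = e0 v := rfl
        simp [sumForm, h]
    · push Not at haniso
      obtain ⟨v, hv, hv0⟩ := haniso
      obtain ⟨w₀, hw₀⟩ : ∃ w, QuadraticMap.polar ⇑Q v w ≠ 0 := by
        by_contra h; push Not at h; exact hv0 (hQ.1 v h)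
      obtain ⟨w₁, hw₁⟩ : ∃ w, QuadraticMap.polar ⇑Q v w = 1 :=
        ⟨(QuadraticMap.polar ⇑Q v w₀)⁻¹ • w₀, by
          rw [QuadraticMap.polar_smul_right, smul_eq_mul, inv_mul_cancel₀ hw₀]⟩
      have hvv : QuadraticMap.polar ⇑Q v v = 0 := by rw [QuadraticMap.polar_self, hv, smul_zero]
      obtain ⟨w, hvw, hw⟩ : ∃ w, QuadraticMap.polar ⇑Q v w = 1 ∧ Q w = 0 := by
        refine ⟨w₁ + (- Q w₁) • v, ?_, ?_⟩
        · rw [QuadraticMap.polar_add_right, QuadraticMap.polar_smul_right, hvv, smul_zero, add_zero, hw₁]
        · rw [QuadraticMap.map_add (⇑Q), QuadraticMap.map_smul, QuadraticMap.polar_smul_right,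
            QuadraticMap.polar_comm, hw₁, hv, smul_eq_mul, smul_eq_mul]
          ring
      have hwv : QuadraticMap.polar ⇑Q w v = 1 := by rw [QuadraticMap.polar_comm, hvw]
      have hww : QuadraticMap.polar ⇑Q w w = 0 := by rw [QuadraticMap.polar_self, hw, smul_zero]
      let B := QuadraticMap.polarBilin Q
      let W : Submodule F V := LinearMap.ker (B v) ⊓ LinearMap.ker (B w)
      let π₀ : V →ₗ[F] V := LinearMap.id - (B w).smulRight v - (B v).smulRight w
      have hπ : ∀ x, π₀ x ∈ W := by
        intro x
        constructor <;> rw [SetLike.mem_coe, LinearMap.mem_ker] <;>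
          simp [π₀, B, hvv, hvw, hwv, hww]
      let π : V →ₗ[F] W := π₀.codRestrict W hπ
      have hdec : ∀ x, x = B w x • v + B v x • w + (π x : V) := by
        intro x; simp [π, π₀]
      have hQdec : ∀ x, Q x = B w x * B v x + Q (π x : V) := by
        intro x
        have h1 : QuadraticMap.polar ⇑Q v (π x : V) = 0 := LinearMap.mem_ker.1 (π x).2.1
        have h2 : QuadraticMap.polar ⇑Q w (π x : V) = 0 := LinearMap.mem_ker.1 (π x).2.2
        conv_lhs => rw [hdec x]
        rw [QuadraticMap.map_add (⇑Q), QuadraticMap.map_add (⇑Q), QuadraticMap.map_smul,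
          QuadraticMap.map_smul]
        simp only [QuadraticMap.polar_add_left, QuadraticMap.polar_smul_left,
          QuadraticMap.polar_smul_right, hv, hw, h1, h2, hvw, smul_eq_mul]
        ring
      have hπW : ∀ x : W, π x = x := by
        intro x
        have h1 : B v (x : V) = 0 := LinearMap.mem_ker.1 x.2.1
        have h2 : B w (x : V) = 0 := LinearMap.mem_ker.1 x.2.2
        apply Subtype.ext
        simp [π, π₀, h1, h2]
      let Φ : V →ₗ[F] F × F × W := (B w).prod ((B v).prod π)
      have hΦ : Function.Bijective Φ := by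
        constructor
        · intro x y hxy
          simp [Φ, Prod.ext_iff] at hxy
          rw [hdec x, hdec y, hxy.1, hxy.2.1, hxy.2.2]
        · rintro ⟨a, b, x⟩
          refine ⟨a • v + b • w + (x : V), ?_⟩
          have h1 : B v (x : V) = 0 := LinearMap.mem_ker.1 x.2.1
          have h2 : B w (x : V) = 0 := LinearMap.mem_ker.1 x.2.2
          have h1' := h1; have h2' := h2
          simp only [B, QuadraticMap.polarBilin_apply_apply] at h1' h2'
          refine Prod.ext ?_ (Prod.ext ?_ ?_) <;> simp only [Φ, LinearMap.prod_apply, Function.prod]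
          · simp [B, hwv, hww, h2']
          · simp [B, hvv, hvw, h1']
          · apply Subtype.ext
            simp [π, π₀, B, hvv, hvw, hwv, hww, h1', h2']
      have hWdim : Module.finrank F W + 2 = n := by
        rw [← hn, (LinearEquiv.ofBijective Φ hΦ).finrank_eq]
        simp [Module.finrank_prod]; ring
      have hWnd : (QuadraticMap.polarBilin (Q.comp W.subtype)).Nondegenerate := by
        have key : ∀ x : W, (∀ y : W, QuadraticMap.polar ⇑Q (x : V) (y : V) = 0) → x = 0 := by
          intro x hx
          apply Subtype.ext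
          apply hQ.1
          intro y
          have h1 : QuadraticMap.polar ⇑Q v (x : V) = 0 := LinearMap.mem_ker.1 x.2.1
          have h2 : QuadraticMap.polar ⇑Q w (x : V) = 0 := LinearMap.mem_ker.1 x.2.2
          rw [QuadraticMap.polarBilin_apply_apply, hdec y]
          simp only [QuadraticMap.polar_add_right, QuadraticMap.polar_smul_right,
            QuadraticMap.polar_comm _ (x : V) v, QuadraticMap.polar_comm _ (x : V) w, h1, h2, hx,
            smul_zero, add_zero]
        constructor
        · intro x hx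
          apply key x
          intro y
          have := hx y
          simpa [QuadraticMap.polar] using this
        · intro y hy
          apply key y
          intro x
          have := hy x
          rw [QuadraticMap.polar_comm]
          simpa [QuadraticMap.polar] using this
      obtain ⟨k, l, R, e', hl, hkl, hR, he'⟩ :=
        ih (Module.finrank F W) (by omega) (Q.comp W.subtype) rfl hWnd
      let Ψ : F × F × W →ₗ[F] ((Fin (k + 1) ⊕ Fin (k + 1)) ⊕ Fin l → F) :=
        { toFun := fun p => Sum.elim (Sum.elim (Fin.cons p.1 fun i => e' p.2.2 (Sum.inl (Sum.inl i)))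
              (Fin.cons p.2.1 fun i => e' p.2.2 (Sum.inl (Sum.inr i))))
              (fun j => e' p.2.2 (Sum.inr j))
          map_add' := fun p p' => by
            ext ((i | i) | i)
            · refine Fin.cases ?_ (fun j => ?_) i <;> simp
            · refine Fin.cases ?_ (fun j => ?_) i <;> simp
            · simp
          map_smul' := fun c p => by
            ext ((i | i) | i)
            · refine Fin.cases ?_ (fun j => ?_) i <;> simp
            · refine Fin.cases ?_ (fun j => ?_) i <;> simp
            · simp }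
      have hΨinj : Function.Injective Ψ := by
        rintro ⟨a, b, x⟩ ⟨a', b', x'⟩ h
        have ha := congr_fun h (Sum.inl (Sum.inl 0))
        have hb := congr_fun h (Sum.inl (Sum.inr 0))
        have hx : e' x = e' x' := by
          funext c
          rcases c with (i | i) | i
          · simpa [Ψ] using congr_fun h (Sum.inl (Sum.inl i.succ))
          · simpa [Ψ] using congr_fun h (Sum.inl (Sum.inr i.succ))
          · simpa [Ψ] using congr_fun h (Sum.inr i)
        simp [Ψ] at ha hb
        rw [ha, hb, e'.injective hx]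
      have hΨdim : Module.finrank F (F × F × W) =
          Module.finrank F ((Fin (k + 1) ⊕ Fin (k + 1)) ⊕ Fin l → F) := by
        simp [Module.finrank_prod, Module.finrank_fintype_fun_eq_card]
        omega
      let e : V ≃ₗ[F] ((Fin (k + 1) ⊕ Fin (k + 1)) ⊕ Fin l → F) :=
        (LinearEquiv.ofBijective Φ hΦ).trans (LinearEquiv.ofInjectiveOfFinrankEq Ψ hΨinj hΨdim)
      refine ⟨k + 1, l, R, e, hl, by omega, hR, fun x => ?_⟩
      have hex : e x = Ψ (Φ x) := rfl
      rw [hQdec x, hex]
      have := he' (π x)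
      simp only [QuadraticMap.comp_apply, Submodule.coe_subtype] at this
      rw [this]
      simp [sumForm, Ψ, Φ, Fin.sum_univ_succ, Function.comp_def]
      ring

/-- Classification of non-degenerate quadratic forms over a finite field. -/
theorem exists_normal_form [Finite F] {V : Type*} [AddCommGroup V] [Module F V]
    [FiniteDimensional F V] (Q : QuadraticForm F V) (hQ : (QuadraticMap.polarBilin Q).Nondegenerate) :
    (∃ k, Module.finrank F V = 2 * k ∧ ∃ e : V ≃ₗ[F] (Fin k ⊕ Fin k → F),
      ∀ v, Q v = Cfsg.quadFormPlus k F (e v)) ∨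
    (∃ k, Module.finrank F V = 2 * k + 1 ∧ ∃ (c : F) (e : V ≃ₗ[F] ((Fin k ⊕ Fin k) ⊕ Fin 1 → F)),
      c ≠ 0 ∧ ∀ v, Q v = sumForm k (fun z => c * (z 0 * z 0)) (e v)) ∨
    (∃ k, Module.finrank F V = 2 * k + 2 ∧ ∃ (ζ : F) (e : V ≃ₗ[F] ((Fin k ⊕ Fin k) ⊕ Fin 2 → F)),
      (∀ t : F, t ^ 2 + t + ζ ≠ 0) ∧ ∀ v, Q v = Cfsg.quadFormMinus k F 1 ζ (e v)) := by
  obtain ⟨k, l, R, e, hl, hkl, hR, he⟩ := exists_decomposition_aux _ Q rfl hQ
  interval_cases l
  · refine Or.inl ⟨k, by omega, e.trans (LinearEquiv.funCongrLeft F F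
      (Equiv.sumEmpty (Fin k ⊕ Fin k) (Fin 0)).symm), fun v => ?_⟩
    have h : (e v) ∘ (Sum.inr : Fin 0 → _) = 0 := Subsingleton.elim _ _
    rw [he, sumForm, h, map_zero, add_zero]
    rfl
  · refine Or.inr (Or.inl ⟨k, by omega, R (fun _ => 1), e, fun h => ?_, fun v => ?_⟩)
    · exact one_ne_zero (congr_fun (hR _ h) 0)
    · rw [he, sumForm, sumForm]
      congr 1
      have : (e v) ∘ Sum.inr = (e v (Sum.inr 0)) • (fun _ : Fin 1 => (1 : F)) := by
        funext i; fin_cases i; simp
      rw [this, QuadraticMap.map_smul, smul_eq_mul]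
      simp [mul_comm]
  · refine Or.inr (Or.inr ⟨k, by omega, ?_⟩)
    obtain ⟨x, hx⟩ := exists_eq_of_binary R (by simp) hR one_ne_zero
    have hx0 : x ≠ 0 := fun h => by simp [h] at hx
    -- the polar form of R is non-degenerate
    have hRpol : ∃ u, QuadraticMap.polar ⇑R x u ≠ 0 := by
      by_contra h
      push Not at h
      let x' : V := e.symm (Sum.elim 0 x)
      have hx' : x' ≠ 0 := by
        intro h'
        apply hx0
        funext j
        simpa [x'] using congr_fun (congr_arg e h') (Sum.inr j)
      apply hx'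
      apply hQ.1
      intro y
      simp only [QuadraticMap.polarBilin_apply_apply, QuadraticMap.polar, he, map_add, x',
        LinearEquiv.apply_symm_apply]
      have h' := h ((e y) ∘ Sum.inr)
      simp only [QuadraticMap.polar] at h'
      have hc : (Sum.elim (0 : Fin k ⊕ Fin k → F) x + e y) ∘ Sum.inr = x + (e y) ∘ Sum.inr := rfl
      have hc' : (Sum.elim (0 : Fin k ⊕ Fin k → F) x) ∘ Sum.inr = x := rfl
      simp only [sumForm, hc, hc']
      simp
      linear_combination h'
    obtain ⟨u, hu⟩ := hRpol
    let y₀ := (QuadraticMap.polar ⇑R x u)⁻¹ • u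
    have hy₀ : QuadraticMap.polar ⇑R x y₀ = 1 := by
      rw [QuadraticMap.polar_smul_right, smul_eq_mul, inv_mul_cancel₀ hu]
    obtain ⟨y, hy, hyli⟩ : ∃ y, QuadraticMap.polar ⇑R x y = 1 ∧ ∀ t : F, t • x ≠ y := by
      by_cases h : ∀ t : F, t • x ≠ y₀
      · exact ⟨y₀, hy₀, h⟩
      · push Not at h
        obtain ⟨t, ht⟩ := h
        let g : (Fin 2 → F) →ₗ[F] F := QuadraticMap.polarBilin R x
        have hd := LinearMap.finrank_range_add_finrank_ker g
        have hd' := Submodule.finrank_le (LinearMap.range g)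
        rw [Module.finrank_self] at hd'
        simp only [Module.finrank_fintype_fun_eq_card, Fintype.card_fin] at hd
        obtain ⟨z, hz, hz0⟩ := (LinearMap.ker g).exists_mem_ne_zero_of_ne_bot (fun hb => by
          rw [hb, finrank_bot] at hd; omega)
        have hz' : QuadraticMap.polar ⇑R x z = 0 := LinearMap.mem_ker.1 hz
        refine ⟨y₀ + z, by rw [QuadraticMap.polar_add_right, hy₀, hz', add_zero], fun s hs => ?_⟩
        have hzx : z = (s - t) • x := by
          rw [sub_smul, hs, ht]; simp
        have hxx : QuadraticMap.polar ⇑R x x = 0 := by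
          rw [hzx, QuadraticMap.polar_smul_right, smul_eq_mul] at hz'
          rcases mul_eq_zero.1 hz' with h' | h'
          · exact absurd (by rw [hzx, h', zero_smul]) hz0
          · exact h'
        rw [← ht, QuadraticMap.polar_smul_right, hxx, smul_zero] at hy₀
        exact zero_ne_one hy₀
    have hli : LinearIndependent F ![x, y] := (LinearIndependent.pair_iff' hx0).2 hyli
    let bR : Module.Basis (Fin 2) F (Fin 2 → F) :=
      basisOfLinearIndependentOfCardEqFinrank hli (by simp)
    let T : ((Fin k ⊕ Fin k) ⊕ Fin 2 → F) ≃ₗ[F] ((Fin k ⊕ Fin k) ⊕ Fin 2 → F) :=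
      (LinearEquiv.sumArrowLequivProdArrow (Fin k ⊕ Fin k) (Fin 2) F F).trans
        (((LinearEquiv.refl F _).prodCongr bR.equivFun).trans
          (LinearEquiv.sumArrowLequivProdArrow (Fin k ⊕ Fin k) (Fin 2) F F).symm)
    refine ⟨R y, e.trans T, fun t ht => ?_, fun v => ?_⟩
    · apply hyli (-t)
      have : t • x + y = 0 := hR _ (by
        rw [QuadraticMap.map_add (⇑R), QuadraticMap.map_smul, QuadraticMap.polar_smul_left, hx, hy,
          smul_eq_mul, smul_eq_mul]
        linear_combination ht)
      rw [eq_neg_of_add_eq_zero_right this, neg_smul]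
    · rw [he]
      set c := bR.equivFun ((e v) ∘ Sum.inr) with hc
      have hz : (e v) ∘ Sum.inr = c 0 • x + c 1 • y := by
        conv_lhs => rw [← bR.sum_repr ((e v) ∘ Sum.inr)]
        simp [Fin.sum_univ_two, bR, hc, coe_basisOfLinearIndependentOfCardEqFinrank]
      have h1 : ∀ i, (e.trans T) v (Sum.inl i) = e v (Sum.inl i) := fun i => rfl
      have h2 : ∀ j, (e.trans T) v (Sum.inr j) = c j := fun j => rfl
      simp only [sumForm, Cfsg.quadFormMinus, h1, h2]
      congr 1
      rw [hz, QuadraticMap.map_add (⇑R), QuadraticMap.map_smul, QuadraticMap.map_smul,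
        QuadraticMap.polar_smul_left, QuadraticMap.polar_smul_right, hx, hy]
      simp only [smul_eq_mul]
      ring

end Cfsg.Agent.Forms59
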