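import Mathlib
import Cfsg.Prelude.Def_Classical

set_option autoImplicit false

namespace Cfsg.Agent.Forms59

open Matrix

variable {F V : Type*} [Field F] [AddCommGroup V] [Module F V]
variable {ι : Type*} [Fintype ι] [DecidableEq ι]

/-- Gram matrix of the polar form of a quadratic form in a basis. -/
noncomputable def gram (Q : QuadraticForm F V) (b : Module.Basis ι F V) : Matrix ι ι F :=
  Matrix.of fun i j => QuadraticMap.polar ⇑Q (b i) (b j)

theorem gram_eq_toMatrix (Q : QuadraticForm F V) (b : Module.Basis ι F V) :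
    gram Q b = LinearMap.BilinForm.toMatrix b (QuadraticMap.polarBilin Q) := by
  ext i j
  simp [gram, LinearMap.BilinForm.toMatrix_apply]

theorem gram_det_ne_zero {Q : QuadraticForm F V} (hQ : (QuadraticMap.polarBilin Q).Nondegenerate)
    (b : Module.Basis ι F V) : (gram Q b).det ≠ 0 := by
  rw [gram_eq_toMatrix]
  exact LinearMap.BilinForm.nondegenerate_iff_det_ne_zero b |>.1 hQ

theorem gram_map {W : Type*} [AddCommGroup W] [Module F W] (Q : QuadraticForm F W)
    (P : QuadraticForm F V) (g : V ≃ₗ[F] W) (c : F) (hg : ∀ v, Q (g v) = c * P v)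
    (b : Module.Basis ι F V) : gram Q (b.map g) = c • gram P b := by
  ext i j
  simp [gram, QuadraticMap.polar, ← map_add, hg, mul_sub]

/-- Change of basis multiplies the discriminant by a non-zero square. -/
theorem exists_gram_det_eq_sq_mul {κ : Type*} [Fintype κ] [DecidableEq κ] (Q : QuadraticForm F V)
    (b : Module.Basis ι F V) (b' : Module.Basis κ F V) :
    ∃ u : F, u ≠ 0 ∧ (gram Q b).det = u ^ 2 * (gram Q b').det := by
  have e : ι ≃ κ := Module.Basis.indexEquiv b b'
  have h : gram Q (b'.reindex e.symm) = (gram Q b').submatrix e e := by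
    ext i j; simp [gram]
  refine ⟨((b'.reindex e.symm).toMatrix b).det, ?_, ?_⟩
  · exact fun h0 => by
      have hinv := congr_arg Matrix.det (Module.Basis.toMatrix_mul_toMatrix_flip (b'.reindex e.symm) b)
      rw [Matrix.det_mul, h0] at hinv
      simp at hinv
  · rw [gram_eq_toMatrix Q b,
      ← LinearMap.BilinForm.toMatrix_mul_basis_toMatrix (b'.reindex e.symm) b,
      ← gram_eq_toMatrix, h, Matrix.det_mul, Matrix.det_mul, Matrix.det_transpose,
      Matrix.det_submatrix_equiv_self]
    ring

theorem isSquare_sq_mul_iff {u x : F} (hu : u ≠ 0) : IsSquare (u ^ 2 * x) ↔ IsSquare x := by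
  constructor
  · rintro ⟨r, hr⟩
    exact ⟨r / u, by field_simp; linear_combination hr⟩
  · rintro ⟨r, rfl⟩
    exact ⟨u * r, by ring⟩

theorem isSquare_gram_det_iff {κ : Type*} [Fintype κ] [DecidableEq κ] (Q : QuadraticForm F V)
    (b : Module.Basis ι F V) (b' : Module.Basis κ F V) :
    IsSquare (gram Q b).det ↔ IsSquare (gram Q b').det := by
  obtain ⟨u, hu, h⟩ := exists_gram_det_eq_sq_mul Q b b'
  rw [h, isSquare_sq_mul_iff hu]

end Cfsg.Agent.Forms59
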