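import Cfsg.Agent.Forms59.PlusClass

/-!
Statements about Omega of the hyperbolic form.
-/

set_option autoImplicit false
set_option linter.unusedSectionVars false

namespace Cfsg.Agent.Forms59

open Matrix QuadraticMap Cfsg.Agent.Reflections
open scoped Matrix commutatorElement

variable {F : Type*} [Field F] {m : ℕ}

theorem exists_value_one (hm : 1 ≤ m) :
    ∃ a : Fin m ⊕ Fin m → F, Reflections.qPlus m F a ≠ 0 :=
  ⟨Pi.single (Sum.inl ⟨0, hm⟩) 1 + Pi.single (Sum.inr ⟨0, hm⟩) 1, by
    simp [Reflections.coe_qPlus, Cfsg.quadFormPlus, Pi.single_apply, Finset.sum_ite_eq']⟩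

theorem ofAdd_one_ne_one : (Multiplicative.ofAdd (1 : ZMod 2)) ≠ 1 := fun h => by
  have := congrArg Multiplicative.toAdd h
  rw [toAdd_ofAdd, toAdd_one] at this
  exact one_ne_zero this

/-- `classHom` against the determinant, odd characteristic. -/
theorem classHom_eq_one_iff_det (h2 : (2 : F) ≠ 0) (g : PlusIso m F) :
    classHom m F g = 1 ↔ (mat g).det = 1 := by
  have key : (classHom m F g = 1 ∧ (mat g).det = 1) ∨
      (classHom m F g = Multiplicative.ofAdd 1 ∧ (mat g).det = -1) := by
    refine reflGroup_induction (p := fun g => (classHom m F g = 1 ∧ (mat g).det = 1) ∨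
      (classHom m F g = Multiplicative.ofAdd 1 ∧ (mat g).det = -1))
      (Or.inl ⟨map_one _, by rw [mat_one', Matrix.det_one]⟩) ?_
      (reflGroup_eq_top_of_two_ne_zero h2 qPlus_nondegenerate ▸ Subgroup.mem_top g)
    rintro v g hv (⟨e1, e2⟩ | ⟨e1, e2⟩)
    · right
      rw [map_mul, classHom_refl hv, e1, mul_one, mat_mul', Matrix.det_mul, mat_refl hv,
        det_reflection _ hv, e2, mul_one]
      exact ⟨rfl, rfl⟩
    · left
      rw [map_mul, classHom_refl hv, e1, mat_mul', Matrix.det_mul, mat_refl hv,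
        det_reflection _ hv, e2, neg_mul_neg, one_mul]
      exact ⟨rfl, rfl⟩
  rcases key with ⟨e1, e2⟩ | ⟨e1, e2⟩
  · exact iff_of_true e1 e2
  · refine iff_of_false (fun h => ofAdd_one_ne_one (e1.symm.trans h)) fun h => h2 ?_
    rw [e2] at h
    linear_combination -h

/-- The class stabiliser is Omega in characteristic two. -/
theorem classHom_eq_one_iff_mem_omega [Fintype F] [CharP F 2] (hm : 1 ≤ m)
    (h : Fintype.card F ≠ 2 ∨ m ≠ 2) (g : PlusIso m F) :
    classHom m F g = 1 ↔ g ∈ Cfsg.Omega F ⇑(Reflections.qPlus m F) := by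
  have h' : Nat.card F ≠ 2 ∨ Fintype.card (Fin m ⊕ Fin m) ≠ 4 := by
    rw [Nat.card_eq_fintype_card, Fintype.card_sum, Fintype.card_fin]
    omega
  refine ⟨fun hg => ?_, fun hg => omega_le_classHom_ker hg⟩
  obtain ⟨a, ha⟩ := exists_value_one (F := F) hm
  rw [omega_eq_closure_pairs qPlus_nondegenerate h']
  refine (mem_pairs_or qPlus_nondegenerate h' ha g).resolve_right fun hr => ?_
  rw [← omega_eq_closure_pairs qPlus_nondegenerate h'] at hr
  have := omega_le_classHom_ker hr
  rw [MonoidHom.mem_ker, map_mul, hg, mul_one, classHom_refl ha] at this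
  exact ofAdd_one_ne_one this

theorem fixDim_eq (g : PlusIso m F) : fixDim g = Module.finrank F
    ↥(LinearMap.ker (LinearMap.funLeft F F (Sum.inr : Fin m → Fin m ⊕ Fin m)) ⊓
      (LinearMap.ker (LinearMap.funLeft F F (Sum.inr : Fin m → Fin m ⊕ Fin m))).map
        (Matrix.mulVecLin (mat g))) := by
  rw [← std_eq_ker]
  rfl

/-- A transvection of `GL m` maps into Omega. -/
theorem levi_transvection_mem (h : (∃ d : F, d ≠ 0 ∧ d ≠ 1) ∨ 3 ≤ m) {i j : Fin m} (hij : i ≠ j)
    (c : F) :
    levi m F (Matrix.SpecialLinearGroup.toGL (Matrix.SpecialLinearGroup.transvection hij c)) ∈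
      Cfsg.Omega F ⇑(Reflections.qPlus m F) := by
  rcases h with ⟨d, hd0, hd1⟩ | h
  · have hd : (Matrix.diagonal (Function.update (fun _ : Fin m => (1 : F)) i d)).det ≠ 0 := by
      rw [Matrix.det_diagonal, Finset.prod_update_of_mem (Finset.mem_univ i)]
      simpa using hd0
    set D := Matrix.GeneralLinearGroup.mkOfDetNeZero _ hd
    have hx : d * (c / (d - 1)) = c + c / (d - 1) := by
      have := sub_ne_zero.2 hd1
      field_simp
      ring
    have key : ⁅D, Matrix.SpecialLinearGroup.toGL
        (Matrix.SpecialLinearGroup.transvection hij (c / (d - 1)))⁆ =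
        Matrix.SpecialLinearGroup.toGL (Matrix.SpecialLinearGroup.transvection hij c) := by
      rw [commutatorElement_def, mul_inv_eq_iff_eq_mul, mul_inv_eq_iff_eq_mul, ← map_mul,
        ← Matrix.SpecialLinearGroup.transvection_add, ← hx]
      apply Units.ext
      show Matrix.diagonal (Function.update (fun _ : Fin m => (1 : F)) i d) *
          ((Matrix.SpecialLinearGroup.transvection hij (c / (d - 1)) :
            Matrix.SpecialLinearGroup (Fin m) F) : Matrix (Fin m) (Fin m) F) =
        ((Matrix.SpecialLinearGroup.transvection hij (d * (c / (d - 1))) :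
            Matrix.SpecialLinearGroup (Fin m) F) : Matrix (Fin m) (Fin m) F) *
          Matrix.diagonal (Function.update (fun _ : Fin m => (1 : F)) i d)
      ext k l
      rw [Matrix.diagonal_mul, Matrix.mul_diagonal, Matrix.SpecialLinearGroup.transvection_coe,
        Matrix.SpecialLinearGroup.transvection_coe]
      simp only [Matrix.add_apply, Matrix.one_apply, Matrix.single_apply, Function.update_apply]
      by_cases hk : i = k
      · subst hk
        by_cases hl : j = l
        · subst hl; simp [hij, hij.symm]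
        · by_cases hil : i = l
          · subst hil; simp [hl]
          · simp [hl, hil, Ne.symm hil]
      · by_cases hkl : k = l
        · subst hkl; simp [hk, Ne.symm hk]
        · simp [hk, hkl]
    rw [← key, map_commutatorElement]
    exact Subgroup.commutator_mem_commutator (Subgroup.mem_top _) (Subgroup.mem_top _)
  · have hT : Matrix.SpecialLinearGroup.transvection hij c ∈
        commutator (Matrix.SpecialLinearGroup (Fin m) F) := by
      rw [LinearGroup.commutator_SL_eq_top (by simpa using h)]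
      exact Subgroup.mem_top _
    have hle := Subgroup.map_commutator (⊤ : Subgroup (Matrix.SpecialLinearGroup (Fin m) F)) ⊤
      ((levi m F).comp Matrix.SpecialLinearGroup.toGL)
    rw [commutator_def] at hT
    have := Subgroup.mem_map_of_mem ((levi m F).comp Matrix.SpecialLinearGroup.toGL) hT
    rw [hle] at this
    exact Subgroup.commutator_mono le_top le_top this

theorem levi_sl_mem (h : (∃ d : F, d ≠ 0 ∧ d ≠ 1) ∨ m ≠ 2) (A : Matrix.SpecialLinearGroup (Fin m) F) :
    levi m F (Matrix.SpecialLinearGroup.toGL A) ∈ Cfsg.Omega F ⇑(Reflections.qPlus m F) := by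
  have htop := LinearGroup.eq_top_of_transvection_mem
    (H := (Cfsg.Omega F ⇑(Reflections.qPlus m F)).comap
      ((levi m F).comp Matrix.SpecialLinearGroup.toGL)) fun i j hij c => ?_
  · exact (Subgroup.eq_top_iff' _).1 htop A
  · refine levi_transvection_mem (h.imp_right fun hm => ?_) hij c
    have hij' := Fin.val_ne_of_ne hij
    omega

/-- `diag(a, 1, …, 1)` as an element of `GL m`. -/
theorem exists_diag_first (hm : 1 ≤ m) {a : F} (ha : a ≠ 0) :
    ∃ D : GL (Fin m) F, (D : Matrix (Fin m) (Fin m) F) =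
        Matrix.diagonal (Function.update (fun _ : Fin m => (1 : F)) ⟨0, hm⟩ a) ∧
      ((D⁻¹ : GL (Fin m) F) : Matrix (Fin m) (Fin m) F) =
        Matrix.diagonal (Function.update (fun _ : Fin m => (1 : F)) ⟨0, hm⟩ a⁻¹) := by
  refine ⟨⟨Matrix.diagonal (Function.update (fun _ : Fin m => (1 : F)) ⟨0, hm⟩ a),
    Matrix.diagonal (Function.update (fun _ : Fin m => (1 : F)) ⟨0, hm⟩ a⁻¹), ?_, ?_⟩, rfl, rfl⟩ <;>
  · rw [Matrix.diagonal_mul_diagonal, ← Matrix.diagonal_one]
    congr 1
    funext k
    by_cases hk : k = ⟨0, hm⟩ <;> simp [Function.update_apply, hk, ha]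

theorem act_levi_diag {D : GL (Fin m) F} {d d' : Fin m → F}
    (h1 : (D : Matrix (Fin m) (Fin m) F) = Matrix.diagonal d)
    (h2 : ((D⁻¹ : GL (Fin m) F) : Matrix (Fin m) (Fin m) F) = Matrix.diagonal d')
    (x : Fin m ⊕ Fin m → F) (k : Fin m ⊕ Fin m) :
    act (levi m F D) x k = Sum.elim d d' k * x k := by
  rw [act, mat_levi, h1, h2, Matrix.diagonal_transpose, Matrix.fromBlocks_diagonal,
    Matrix.mulVec_diagonal]

/-- A diagonal element with square entry maps into Omega. -/
theorem levi_diag_sq_mem (hm : 1 ≤ m) {b : F} (hb : b ≠ 0)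
    {D : GL (Fin m) F} (hD : (D : Matrix (Fin m) (Fin m) F) =
        Matrix.diagonal (Function.update (fun _ : Fin m => (1 : F)) ⟨0, hm⟩ (b * b))) :
    levi m F D ∈ Cfsg.Omega F ⇑(Reflections.qPlus m F) := by
  classical
  obtain ⟨B, hB, hB'⟩ := exists_diag_first hm hb
  obtain ⟨B2, hB2, hB2'⟩ := exists_diag_first hm (mul_ne_zero hb hb)
  have hDB : D = B2 := Units.ext (hD.trans hB2.symm)
  subst hDB
  obtain ⟨s, hs⟩ := exists_perm_iso (F := F)
    (Equiv.swap (Sum.inl ⟨0, hm⟩ : Fin m ⊕ Fin m) (Sum.inr ⟨0, hm⟩)) fun x => by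
      refine Finset.sum_congr rfl fun j _ => ?_
      by_cases hj : j = ⟨0, hm⟩
      · subst hj; simp [mul_comm]
      · simp [Equiv.swap_apply_of_ne_of_ne, hj]
  have hs2 : s⁻¹ = s := inv_eq_of_mul_eq_one_right <| isom_ext fun x => by
    funext k
    rw [act_mul, hs, hs, act_one, Equiv.swap_apply_self]
  have key : levi m F D = ⁅levi m F B, s⁆ := by
    rw [commutatorElement_def, hs2, ← map_inv]
    refine isom_ext fun x => ?_
    funext k
    rw [act_mul, act_mul, act_mul, act_levi_diag hD hB2', act_levi_diag hB hB', hs,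
      act_levi_diag hB' (by rw [inv_inv, hB]), hs]
    rcases k with j | j <;> by_cases hj : j = ⟨0, hm⟩
    all_goals simp [Equiv.swap_apply_def, Function.update_apply, hj]
    all_goals ring
  rw [key]
  exact Subgroup.commutator_mem_commutator (Subgroup.mem_top _) (Subgroup.mem_top _)

/-- The Levi element `diag(a,1,…)` is a product of two reflections. -/
theorem levi_diag_mem_iff [Fintype F] (h2 : (2 : F) ≠ 0) (hm : 1 ≤ m) {a : F} (ha : a ≠ 0)
    {D : GL (Fin m) F} (hD : (D : Matrix (Fin m) (Fin m) F) =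
        Matrix.diagonal (Function.update (fun _ : Fin m => (1 : F)) ⟨0, hm⟩ a)) :
    levi m F D ∈ Cfsg.Omega F ⇑(Reflections.qPlus m F) ↔ IsSquare a := by
  classical
  obtain ⟨B, hB, hB'⟩ := exists_diag_first hm ha
  have hDB : D = B := Units.ext (hD.trans hB.symm)
  subst hDB
  set e : Fin m ⊕ Fin m → F := Pi.single (Sum.inl ⟨0, hm⟩) 1
  set f : Fin m ⊕ Fin m → F := Pi.single (Sum.inr ⟨0, hm⟩) 1
  have hu : Reflections.qPlus m F (e + f) = 1 := by
    simp [e, f, Reflections.coe_qPlus, Cfsg.quadFormPlus, Pi.single_apply, Finset.sum_ite_eq']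
  have hw : Reflections.qPlus m F (e + a • f) = a := by
    simp [e, f, Reflections.coe_qPlus, Cfsg.quadFormPlus, Pi.single_apply, Finset.sum_ite_eq']
  have hu0 : Reflections.qPlus m F (e + f) ≠ 0 := by rw [hu]; exact one_ne_zero
  have hw0 : Reflections.qPlus m F (e + a • f) ≠ 0 := by rw [hw]; exact ha
  have hpe : ∀ y : Fin m ⊕ Fin m → F,
      polar ⇑(Reflections.qPlus m F) e y = y (Sum.inr ⟨0, hm⟩) := fun y => by
    simp [polar_qPlus', e, Pi.single_apply]
  have hpf : ∀ y : Fin m ⊕ Fin m → F,
      polar ⇑(Reflections.qPlus m F) f y = y (Sum.inl ⟨0, hm⟩) := fun y => by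
    simp [polar_qPlus', f, Pi.single_apply]
  have key : levi m F D = reflProd (Reflections.qPlus m F) [e + f, e + a • f] := by
    refine isom_ext fun x => ?_
    funext k
    rw [act_levi_diag hD hB', reflProd_cons, reflProd_cons, show reflProd
        (Reflections.qPlus m F) [] = 1 from rfl, mul_one, act_mul, act_refl hw0, act_refl hu0,
      hu, hw]
    simp only [QuadraticMap.polar_add_left, QuadraticMap.polar_smul_left, hpe, hpf, Pi.sub_apply,
      Pi.smul_apply, Pi.add_apply, smul_eq_mul, inv_one, one_mul]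
    rcases k with j | j <;> by_cases hj : j = ⟨0, hm⟩
    all_goals simp [e, f, Function.update_apply, Pi.single_apply, hj]
    all_goals field_simp
    all_goals ring
  rw [key, reflProd_mem_omega_iff h2 qPlus_nondegenerate (by simp; omega) _ (by simp [hu0, hw0])]
  simp [hu, hw]

/-- The Levi factor meets Omega in the elements of square determinant. -/
theorem levi_mem_omega_iff [Fintype F] (hm : 1 ≤ m) (h : Fintype.card F ≠ 2 ∨ m ≠ 2)
    (A : GL (Fin m) F) :
    levi m F A ∈ Cfsg.Omega F ⇑(Reflections.qPlus m F) ↔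
      IsSquare (A : Matrix (Fin m) (Fin m) F).det := by
  classical
  have h' : (∃ d : F, d ≠ 0 ∧ d ≠ 1) ∨ m ≠ 2 := by
    refine h.imp_left fun hc => ?_
    by_contra hh
    push Not at hh
    apply hc
    rw [← Finset.card_univ, show (Finset.univ : Finset F) = {0, 1} from ?_,
      Finset.card_pair zero_ne_one]
    ext x
    simp only [Finset.mem_univ, Finset.mem_insert, Finset.mem_singleton, true_iff]
    exact (em (x = 0)).imp_right (hh x)
  set a := (A : Matrix (Fin m) (Fin m) F).det
  have ha : a ≠ 0 := by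
    have := (Matrix.GeneralLinearGroup.det A).ne_zero
    rwa [Matrix.GeneralLinearGroup.val_det_apply] at this
  obtain ⟨D, hD, hD'⟩ := exists_diag_first hm ha
  have hdet : ((D⁻¹ * A : GL (Fin m) F) : Matrix (Fin m) (Fin m) F).det = 1 := by
    rw [Units.val_mul, Matrix.det_mul, hD', Matrix.det_diagonal,
      Finset.prod_update_of_mem (Finset.mem_univ _)]
    simp [a, ha]
  let S : Matrix.SpecialLinearGroup (Fin m) F :=
    ⟨((D⁻¹ * A : GL (Fin m) F) : Matrix (Fin m) (Fin m) F), hdet⟩
  have hA : A = D * Matrix.SpecialLinearGroup.toGL S := by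
    have : Matrix.SpecialLinearGroup.toGL S = D⁻¹ * A := Units.ext rfl
    rw [this, mul_inv_cancel_left]
  rw [hA, map_mul, Subgroup.mul_mem_cancel_right _ (levi_sl_mem h' S)]
  by_cases h2 : (2 : F) = 0
  · obtain ⟨b, hb⟩ := FiniteField.isSquare_of_char_two (F := F)
      (by
        haveI : CharP F 2 := (CharP.charP_iff_prime_eq_zero Nat.prime_two).2 (by exact_mod_cast h2)
        exact ringChar.eq F 2) a
    have hb0 : b ≠ 0 := by rintro rfl; exact ha (by simpa using hb)
    exact iff_of_true (levi_diag_sq_mem hm hb0 (by rw [hD, hb])) ⟨b, hb⟩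
  · exact levi_diag_mem_iff h2 hm ha hD

end Cfsg.Agent.Forms59
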