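import Cfsg.Agent.Forms59.Standard

set_option autoImplicit false

namespace Cfsg.Agent.Forms59

variable {F V : Type*} [Field F] [AddCommGroup V] [Module F V]

/-- In dimension at least three over a finite field there is a singular non-zero vector. -/
theorem exists_singular [Finite F] [FiniteDimensional F V] (Q : QuadraticForm F V)
    (h3 : 3 ≤ Module.finrank F V) : ∃ v : V, v ≠ 0 ∧ Q v = 0 := by
  classical
  have : Fintype F := Fintype.ofFinite F
  by_contra hcon
  push Not at hcon
  let B := QuadraticMap.polarBilin Q
  have : Nontrivial V := Module.nontrivial_of_finrank_pos (R := F) (by omega)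
  obtain ⟨v, hv⟩ := exists_ne (0 : V)
  have hv' : Q v ≠ 0 := hcon v hv
  by_cases h2 : ringChar F = 2
  · have : CharP F 2 := ringChar.of_eq h2
    have hr := LinearMap.finrank_range_add_finrank_ker (B v)
    have hr' := Submodule.finrank_le (LinearMap.range (B v))
    rw [Module.finrank_self] at hr'
    obtain ⟨w, hw, hwn⟩ : ∃ w ∈ LinearMap.ker (B v), w ∉ (F ∙ v) := by
      by_contra hall
      push Not at hall
      have h' := Submodule.finrank_mono (show LinearMap.ker (B v) ≤ F ∙ v from hall)
      rw [finrank_span_singleton hv] at h'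
      omega
    obtain ⟨t, ht⟩ := FiniteField.isSquare_of_char_two h2 (Q w / Q v)
    have hne : w + t • v ≠ 0 := by
      intro h0
      apply hwn
      rw [eq_neg_of_add_eq_zero_left h0]
      exact Submodule.neg_mem _ (Submodule.smul_mem _ _ (Submodule.mem_span_singleton_self _))
    apply hcon _ hne
    have hw0 : QuadraticMap.polar ⇑Q v w = 0 := LinearMap.mem_ker.1 hw
    rw [QuadraticMap.map_add (⇑Q), QuadraticMap.map_smul, smul_eq_mul, ← ht, div_mul_cancel₀ _ hv',
      QuadraticMap.polar_comm, QuadraticMap.polar_smul_left, hw0, smul_zero, add_zero,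
      CharTwo.add_self_eq_zero]
  · have two : (2 : F) ≠ 0 := Ring.two_ne_zero h2
    have hker : ∀ x : V, Module.finrank F V ≤ Module.finrank F ↥(LinearMap.ker (B x)) + 1 := by
      intro x
      have hr := LinearMap.finrank_range_add_finrank_ker (B x)
      have hr' := Submodule.finrank_le (LinearMap.range (B x))
      rw [Module.finrank_self] at hr'
      omega
    obtain ⟨w, hw, hw0⟩ := (LinearMap.ker (B v)).exists_mem_ne_zero_of_ne_bot (by
      intro h; have := hker v; rw [h, finrank_bot] at this; omega)
    obtain ⟨z, hz, hz0⟩ := (LinearMap.ker (B v) ⊓ LinearMap.ker (B w)).exists_mem_ne_zero_of_ne_bot (by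
      intro h
      have h' := Submodule.finrank_sup_add_finrank_inf_eq (LinearMap.ker (B v)) (LinearMap.ker (B w))
      have := Submodule.finrank_le (LinearMap.ker (B v) ⊔ LinearMap.ker (B w))
      rw [h, finrank_bot] at h'
      have := hker v
      have := hker w
      omega)
    open Polynomial in
    obtain ⟨a, b, hab⟩ := FiniteField.exists_root_sum_quadratic
      (f := C (Q v) * X ^ 2 + C 0 * X + C (Q z)) (g := C (Q w) * X ^ 2 + C 0 * X + C 0)
      (degree_quadratic hv') (degree_quadratic (hcon w hw0)) (FiniteField.odd_card_of_char_ne_two h2)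
    simp at hab
    have p1 : QuadraticMap.polar ⇑Q v w = 0 := LinearMap.mem_ker.1 hw
    have p2 : QuadraticMap.polar ⇑Q v z = 0 := LinearMap.mem_ker.1 hz.1
    have p3 : QuadraticMap.polar ⇑Q w z = 0 := LinearMap.mem_ker.1 hz.2
    have hne : a • v + b • w + z ≠ 0 := by
      intro h0
      have h1 : B (a • v + b • w + z) z = 0 := by rw [h0]; simp
      have h2' : B z z = 0 := by
        simpa [B, p2, p3] using h1
      rw [QuadraticMap.polarBilin_apply_apply, QuadraticMap.polar_self] at h2'
      simp [two, hcon z hz0] at h2'
    apply hcon _ hne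
    rw [QuadraticMap.map_add (⇑Q), QuadraticMap.map_add (⇑Q), QuadraticMap.map_smul,
      QuadraticMap.map_smul]
    simp only [smul_eq_mul, QuadraticMap.polar_add_left, QuadraticMap.polar_smul_left,
      QuadraticMap.polar_smul_right, p1, p2, p3, mul_zero, add_zero]
    linear_combination hab

/-- An anisotropic binary form over a finite field represents every non-zero scalar. -/
theorem exists_eq_of_binary [Finite F] [FiniteDimensional F V] (Q : QuadraticForm F V)
    (h2 : Module.finrank F V = 2) (haniso : ∀ v, Q v = 0 → v = 0) {c : F} (hc : c ≠ 0) :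
    ∃ v, Q v = c := by
  let Q' : QuadraticForm F (V × F) := Q.comp (LinearMap.fst F V F) +
    (-c) • QuadraticMap.linMulLin (LinearMap.snd F V F) (LinearMap.snd F V F)
  obtain ⟨⟨v, t⟩, hne, h0⟩ := exists_singular Q' (by simp [Module.finrank_prod, h2])
  simp [Q', QuadraticMap.linMulLin_apply] at h0
  have ht : t ≠ 0 := by
    rintro rfl
    simp at h0
    exact hne (by rw [haniso v h0]; rfl)
  refine ⟨t⁻¹ • v, ?_⟩
  rw [QuadraticMap.map_smul, smul_eq_mul]
  field_simp
  linear_combination h0

end Cfsg.Agent.Forms59
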