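import Cfsg.Agent.Lib.Reflections.OddIndex
import Cfsg.Agent.Lib.UnitaryOrthogonal.Standard
import Cfsg.Agent.Lib.UnitaryOrthogonal.Characters
import Cfsg.Agent.Lib.Forms.Witt
import Cfsg.Agent.Forms59.Normal

/-!
Orthogonal groups: generation by reflections in characteristic two, and Omega as the group of
products of evenly many reflections.
-/

set_option autoImplicit false
set_option linter.unusedSectionVars false

namespace Cfsg.Agent.Forms59

open QuadraticMap
open scoped commutatorElement

section eichler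

open UnitaryOrthogonal

variable {F V : Type*} [Field F] [AddCommGroup V] [Module F V] [FiniteDimensional F V]
variable {Q : QuadraticForm F V}

/-- Eichler transformations are products of reflections, outside dimension four over two elements. -/
theorem eich_mem_reflGroup (hQ : PolarND Q) (h : Nat.card F ≠ 2 ∨ Module.finrank F V ≠ 4)
    (u z : V) : eich Q u z ∈ UnitaryOrthogonal.reflGroup Q := by
  classical
  by_cases hc : Q u = 0 ∧ polar Q u z = 0
  swap
  · rw [eich, dif_neg hc]; exact one_mem _
  obtain ⟨hu, hz⟩ := hc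
  by_cases hu0 : u = 0
  · have : eich Q u z = 1 := by
      refine orth_ext fun x => ?_
      rw [eich_apply hu hz, hu0]
      simp
    rw [this]; exact one_mem _
  have hnz : ∀ w, Q w ≠ 0 → polar Q u w = 0 → eich Q u w ∈ UnitaryOrthogonal.reflGroup Q :=
    fun w hw huw => by
    rw [eich_eq_rf_mul_rf hu huw hw]
    exact mul_mem (rf_mem_reflGroup _) (rf_mem_reflGroup _)
  by_cases hspan : ∃ c : F, z = c • u
  · obtain ⟨c, rfl⟩ := hspan
    have := eich_add_smul (Q := Q) hu (polar_zero_right Q u) c
    rw [zero_add, eich_zero] at this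
    rw [this]; exact one_mem _
  by_cases hQz : Q z ≠ 0
  · exact hnz z hQz hz
  push Not at hQz
  by_cases hw : ∃ w, polar Q u w = 0 ∧ Q w ≠ 0 ∧ Q w ≠ polar Q z w
  · obtain ⟨w, huw, hw0, hw1⟩ := hw
    have hzw : polar Q u (z - w) = 0 := by rw [polar_sub_right, hz, huw, sub_zero]
    have hQzw : Q (z - w) ≠ 0 := by
      rw [sub_eq_add_neg, form_add, QuadraticMap.map_neg, polar_neg_right, hQz, zero_add]
      intro h0
      exact hw1 (by linear_combination h0)
    rw [show z = w + (z - w) by abel, ← eich_mul hu huw hzw]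
    exact mul_mem (hnz w hw0 huw) (hnz _ hQzw hzw)
  exfalso
  push Not at hw
  -- the perpendicular of `u` and `z` is totally singular
  have hK : ∀ w, polar Q u w = 0 → polar Q z w = 0 → Q w = 0 := fun w h1 h2 => by
    by_contra h0
    exact h0 ((hw w h1 h0).trans h2)
  obtain ⟨x₁, hx₁⟩ : ∃ x, polar Q u x ≠ 0 := by
    by_contra hh; push Not at hh; exact hu0 (hQ u hh)
  set x₀ : V := (polar Q u x₁)⁻¹ • x₁ with hx₀
  have hux₀ : polar Q u x₀ = 1 := by
    rw [hx₀, polar_smul_right, smul_eq_mul, inv_mul_cancel₀ hx₁]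
  obtain ⟨y₁, hy₁u, hy₁z⟩ : ∃ y, polar Q u y = 0 ∧ polar Q z y ≠ 0 := by
    by_contra hh
    push Not at hh
    refine hspan ⟨polar Q z x₀, sub_eq_zero.1 (hQ _ fun x => ?_)⟩
    have h1 := hh (x - polar Q u x • x₀)
      (by rw [polar_sub_right, polar_smul_right, hux₀, smul_eq_mul, mul_one, sub_self])
    rw [polar_sub_right, polar_smul_right, smul_eq_mul] at h1
    rw [polar_sub_left, polar_smul_left, smul_eq_mul]
    linear_combination h1
  by_cases hcard : Nat.card F = 2
  · -- the kernel of `x ↦ (f u x, f z x)` is spanned by `u` and `z`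
    set y₀ : V := (polar Q z y₁)⁻¹ • y₁ with hy₀
    have huy₀ : polar Q u y₀ = 0 := by rw [hy₀, polar_smul_right, hy₁u, smul_zero]
    have hzy₀ : polar Q z y₀ = 1 := by
      rw [hy₀, polar_smul_right, smul_eq_mul, inv_mul_cancel₀ hy₁z]
    let L : V →ₗ[F] F × F := (Q.polarBilin u).prod (Q.polarBilin z)
    have hL : ∀ x, L x = (polar Q u x, polar Q z x) := fun x => rfl
    have hmem : ∀ w, w ∈ LinearMap.ker L ↔ polar Q u w = 0 ∧ polar Q z w = 0 := fun w => by
      rw [LinearMap.mem_ker, hL, Prod.mk_eq_zero]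
    have hpol : ∀ w ∈ LinearMap.ker L, ∀ k ∈ LinearMap.ker L, polar Q w k = 0 := by
      intro w hw' k hk
      obtain ⟨a1, a2⟩ := (hmem w).1 hw'
      obtain ⟨b1, b2⟩ := (hmem k).1 hk
      have e := hK (w + k) (by rw [polar_add_right, a1, b1, add_zero])
        (by rw [polar_add_right, a2, b2, add_zero])
      rwa [form_add, hK w a1 a2, hK k b1 b2, zero_add, zero_add] at e
    have huK : u ∈ LinearMap.ker L :=
      (hmem u).2 ⟨by rw [polar_self_eq, hu, mul_zero], by rw [polar_comm, hz]⟩
    have hzK : z ∈ LinearMap.ker L :=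
      (hmem z).2 ⟨hz, by rw [polar_self_eq, hQz, mul_zero]⟩
    set z' : V := z - polar Q z x₀ • u with hz'
    have hker : LinearMap.ker L = Submodule.span F (Set.range ![u, z]) := by
      refine le_antisymm (fun w hw' => ?_) (Submodule.span_le.2 ?_)
      · set c : F := polar Q w y₀
        set d : F := polar Q w x₀ - c * polar Q z x₀
        have hwd : w = d • u + c • z := by
          refine sub_eq_zero.1 (hQ _ fun x => ?_)
          set a : F := polar Q u x
          set b : F := polar Q z x - a * polar Q z x₀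
          have hk : x - a • x₀ - b • y₀ ∈ LinearMap.ker L := by
            refine (hmem _).2 ⟨?_, ?_⟩
            · simp only [polar_sub_right, polar_smul_right, hux₀, huy₀, smul_eq_mul]; ring
            · simp only [polar_sub_right, polar_smul_right, hzy₀, smul_eq_mul, b]; ring
          have e := hpol w hw' _ hk
          simp only [polar_sub_right, polar_smul_right, smul_eq_mul] at e
          simp only [polar_sub_left, polar_add_left, polar_smul_left, smul_eq_mul, d, c, a, b] at e ⊢
          linear_combination e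
        rw [hwd]
        exact add_mem (Submodule.smul_mem _ _ (Submodule.subset_span ⟨0, rfl⟩))
          (Submodule.smul_mem _ _ (Submodule.subset_span ⟨1, rfl⟩))
      · rintro _ ⟨i, rfl⟩
        fin_cases i
        · exact huK
        · exact hzK
    have hli : LinearIndependent F ![u, z] := by
      rw [linearIndependent_fin2]
      refine ⟨fun e => hspan ⟨0, by simpa using e⟩, fun a ha => ?_⟩
      simp only [Matrix.cons_val_one, Matrix.cons_val_zero] at ha
      rcases eq_or_ne a 0 with rfl | ha0
      · exact hu0 (by rw [← ha, zero_smul])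
      · exact hspan ⟨a⁻¹, by rw [← ha, smul_smul, inv_mul_cancel₀ ha0, one_smul]⟩
    have hsurj : LinearMap.range L = ⊤ := by
      refine LinearMap.range_eq_top.2 fun p => ⟨p.1 • x₀ + (p.2 - p.1 * polar Q z x₀) • y₀, ?_⟩
      rw [hL]
      simp only [polar_add_right, polar_smul_right, hux₀, huy₀, hzy₀, smul_eq_mul]
      exact Prod.ext (by ring) (by ring)
    have hn := LinearMap.finrank_range_add_finrank_ker L
    rw [hsurj, finrank_top, hker, finrank_span_eq_card hli, Module.finrank_prod,
      Module.finrank_self, Fintype.card_fin] at hn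
    exact (h.resolve_left (not_not.2 hcard)) hn.symm
  · -- scaling shows that `Q` vanishes on the perpendicular of `u`
    obtain ⟨t, ht0, ht1⟩ : ∃ t : F, t ≠ 0 ∧ t ≠ 1 := by
      by_contra hh
      push Not at hh
      refine hcard (Nat.card_eq_two_iff.2 ⟨0, 1, zero_ne_one, ?_⟩)
      ext x
      simp only [Set.mem_insert_iff, Set.mem_singleton_iff, Set.mem_univ, iff_true]
      rcases eq_or_ne x 0 with hx | hx
      · exact Or.inl hx
      · exact Or.inr (hh x hx)
    have hP : ∀ w, polar Q u w = 0 → Q w = 0 := by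
      intro w huw
      by_contra h0
      have e1 := hw w huw h0
      have e2 := hw (t • w) (by rw [polar_smul_right, huw, smul_zero])
        (by rw [form_smul]; exact mul_ne_zero (mul_ne_zero ht0 ht0) h0)
      rw [form_smul, polar_smul_right, smul_eq_mul, ← e1] at e2
      have : (t - 1) * (t * Q w) = 0 := by linear_combination e2
      exact mul_ne_zero (sub_ne_zero.2 ht1) (mul_ne_zero ht0 h0) this
    have e := hP (z + y₁) (by rw [polar_add_right, hz, hy₁u, add_zero])
    rw [form_add, hQz, hP y₁ hy₁u, zero_add, zero_add] at e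
    exact hy₁z e

theorem reflGroup_eq_top_of_elemGroup (hQ : PolarND Q)
    (h : Nat.card F ≠ 2 ∨ Module.finrank F V ≠ 4) (he : elemGroup Q = ⊤) :
    UnitaryOrthogonal.reflGroup Q = ⊤ := by
  refine top_unique (he ▸ sup_le le_rfl ?_)
  rw [eichGroup, Subgroup.closure_le]
  rintro _ ⟨u, z, -, -, rfl⟩
  exact eich_mem_reflGroup hQ h u z

theorem reflGroup_eq_top_charTwo [Finite F] [CharP F 2]
    (hQ : (QuadraticMap.polarBilin Q).Nondegenerate)
    (h : Nat.card F ≠ 2 ∨ Module.finrank F V ≠ 4) : UnitaryOrthogonal.reflGroup Q = ⊤ := by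
  refine reflGroup_eq_top_of_elemGroup (Q := Q) hQ.1 h ?_
  rcases exists_normal_form Q hQ with ⟨k, -, e, he⟩ | ⟨k, -, c, e, -, he⟩ | ⟨k, -, ζ, e, hζ, he⟩
  · let i : Q.IsometryEquiv (qPlus k F) :=
      { e with
        map_app' := fun v => by
          show qPlus k F (e v) = Q v
          rw [qPlus_apply, he] }
    exact elemGroup_congr ((i.trans (qPlusIso k F)).symm)
      (elemGroup_hypSum nonsing_zeroForm (elemGroup_of_refl reflGroup_zeroForm) k)
  · exfalso
    have h2 : (2 : F) = 0 := CharTwo.two_eq_zero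
    set v0 : V := e.symm (Pi.single (Sum.inr 0) 1)
    have h0 : v0 ≠ 0 := fun hv => by
      have := congrArg (fun v => e v (Sum.inr 0)) hv
      simp [v0] at this
    refine h0 (hQ.1 v0 fun x => ?_)
    show polar Q v0 x = 0
    rw [polar, he, he, he, map_add]
    simp [sumForm, v0, Cfsg.quadFormPlus, add_mul, mul_add, Finset.sum_add_distrib]
    linear_combination c * e x (Sum.inr 0) * h2
  · have hab : BinAniso (1 : F) ζ := fun z₁ z₂ hz => by
      rcases eq_or_ne z₂ 0 with rfl | hz₂
      · exact ⟨by simpa using hz, rfl⟩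
      · refine absurd ?_ (hζ (z₁ / z₂))
        field_simp
        linear_combination hz
    let i : Q.IsometryEquiv (qMinus k F 1 ζ) :=
      { e with
        map_app' := fun v => by
          show qMinus k F 1 ζ (e v) = Q v
          rw [qMinus_apply, he] }
    exact elemGroup_congr ((i.trans (qMinusIso k F 1 ζ)).symm)
      (elemGroup_hypSum hab.nonsing (elemGroup_of_refl hab.reflGroup_eq_top) k)

end eichler

section matrix

open Reflections

variable {ι : Type} [Fintype ι] [DecidableEq ι] {F : Type*} [Field F]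
variable {Q : QuadraticForm F (ι → F)}

/-- The isometry group of matrices against the group of linear isometries. -/
noncomputable def toOrth (Q : QuadraticForm F (ι → F)) :
    ↥(Cfsg.isometryGroup F ⇑Q) ≃* UnitaryOrthogonal.orth Q :=
  UnitaryOrthogonal.isometryGroupEquiv Q fun _ => rfl

theorem toOrth_apply (g : ↥(Cfsg.isometryGroup F ⇑Q)) (x : ι → F) :
    (toOrth Q g).1 x = act g x := rfl

theorem toOrth_refl {v : ι → F} (hv : Q v ≠ 0) :
    toOrth Q (refl Q v) = UnitaryOrthogonal.rf Q v := by
  refine UnitaryOrthogonal.orth_ext fun x => ?_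
  rw [toOrth_apply, act_refl hv, UnitaryOrthogonal.rf_apply]

theorem matReflGroup_eq_top [Finite F] [CharP F 2] (hQ : (QuadraticMap.polarBilin Q).Nondegenerate)
    (h : Nat.card F ≠ 2 ∨ Fintype.card ι ≠ 4) : Reflections.reflGroup Q = ⊤ := by
  have hr := reflGroup_eq_top_charTwo (Q := Q) hQ
    (by rwa [Module.finrank_fintype_fun_eq_card])
  refine top_unique fun g _ => ?_
  have : toOrth Q g ∈ (Reflections.reflGroup Q).map (toOrth Q).toMonoidHom := by
    refine (le_of_eq_of_le hr.symm ?_) (Subgroup.mem_top _)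
    rw [UnitaryOrthogonal.reflGroup, Subgroup.closure_le]
    rintro _ ⟨a, rfl⟩
    by_cases ha : Q a = 0
    · have : UnitaryOrthogonal.rf Q a = 1 :=
        UnitaryOrthogonal.orth_ext fun x => by simp [UnitaryOrthogonal.rf_apply, ha]
      rw [this]; exact one_mem _
    · exact ⟨refl Q a, refl_mem ha, toOrth_refl ha⟩
  obtain ⟨g', hg', hgg⟩ := this
  rwa [← (toOrth Q).injective hgg]

/-- Isometries of matrices from isometric linear equivalences. -/
theorem exists_of_linearEquiv (g : (ι → F) ≃ₗ[F] (ι → F)) (hg : ∀ v, Q (g v) = Q v) :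
    ∃ h : ↥(Cfsg.isometryGroup F ⇑Q), ∀ x, act h x = g x :=
  ⟨(toOrth Q).symm ⟨g, hg⟩, fun x => by rw [← toOrth_apply, MulEquiv.apply_symm_apply]⟩

/-- In characteristic two a product of two reflections is a commutator. -/
theorem refl_mul_refl_mem_omega [Finite F] [CharP F 2]
    (hQ : (QuadraticMap.polarBilin Q).Nondegenerate) {u v : ι → F} (hu : Q u ≠ 0) (hv : Q v ≠ 0) :
    refl Q u * refl Q v ∈ Cfsg.Omega F ⇑Q := by
  classical
  haveI := Fintype.ofFinite F
  obtain ⟨s, hs⟩ := FiniteField.isSquare_of_char_two (F := F) (ringChar.eq F 2) (Q u)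
  obtain ⟨t, ht⟩ := FiniteField.isSquare_of_char_two (F := F) (ringChar.eq F 2) (Q v)
  have hs0 : s ≠ 0 := by rintro rfl; exact hu (by simpa using hs)
  have ht0 : t ≠ 0 := by rintro rfl; exact hv (by simpa using ht)
  obtain ⟨u', hu'⟩ : ∃ x, x = s⁻¹ • u := ⟨_, rfl⟩
  obtain ⟨v', hv'⟩ : ∃ x, x = t⁻¹ • v := ⟨_, rfl⟩
  have hu1 : Q u' = 1 := by rw [hu', map_smul', hs]; field_simp
  have hv1 : Q v' = 1 := by rw [hv', map_smul', ht]; field_simp
  have hu'0 : u' ≠ 0 := fun e => by rw [e, QuadraticMap.map_zero] at hu1; exact zero_ne_one hu1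
  obtain ⟨φ, hφ⟩ : ∃ φ : (ι → F) →ₗ[F] F, φ u' = 1 := by
    obtain ⟨y, hy⟩ := exists_polar_eq_one hQ hu'0
    exact ⟨(Q.polarBilin).flip y, hy⟩
  obtain ⟨g, hgQ, hg⟩ := Forms.witt_quadratic' Q hQ (F ∙ u') (φ.smulRight v') (fun w hw h0 => by
      obtain ⟨a, rfl⟩ := Submodule.mem_span_singleton.1 hw
      rw [LinearMap.smulRight_apply, LinearMap.map_smul, hφ, smul_eq_mul, mul_one] at h0
      have : a = 0 := by
        by_contra ha
        have h1 := congrArg Q h0
        rw [map_smul', hv1, QuadraticMap.map_zero, mul_one] at h1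
        exact mul_ne_zero ha ha h1
      rw [this, zero_smul])
    (fun w hw => by
      obtain ⟨a, rfl⟩ := Submodule.mem_span_singleton.1 hw
      rw [LinearMap.smulRight_apply, LinearMap.map_smul, hφ, smul_eq_mul, mul_one, map_smul', map_smul',
        hu1, hv1])
  obtain ⟨h, hh⟩ := exists_of_linearEquiv g hgQ
  have hmap : act h u' = v' := by
    rw [hh, hg u' (Submodule.mem_span_singleton_self u'), LinearMap.smulRight_apply, hφ, one_smul]
  have e : refl Q u * refl Q v = ⁅refl Q u', h⁆ := by
    rw [← refl_smul hu (inv_ne_zero hs0), ← refl_smul hv (inv_ne_zero ht0), ← hu', ← hv', ← hmap,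
      ← conj_refl h (by rw [hu1]; exact one_ne_zero), commutatorElement_def,
      refl_inv (by rw [hu1]; exact one_ne_zero)]
    group
  rw [e]
  exact Subgroup.commutator_mem_commutator (Subgroup.mem_top _) (Subgroup.mem_top _)

theorem mem_pairs_or [Fintype F] [CharP F 2] (hQ : (QuadraticMap.polarBilin Q).Nondegenerate)
    (h : Nat.card F ≠ 2 ∨ Fintype.card ι ≠ 4) {a : ι → F} (ha : Q a ≠ 0)
    (g : ↥(Cfsg.isometryGroup F ⇑Q)) :
    g ∈ Subgroup.closure (reflPairs Q) ∨ refl Q a * g ∈ Subgroup.closure (reflPairs Q) := by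
  refine reflGroup_induction (Q := Q) (p := fun g => g ∈ Subgroup.closure (reflPairs Q) ∨
      refl Q a * g ∈ Subgroup.closure (reflPairs Q)) (Or.inl (one_mem _)) ?_
    (matReflGroup_eq_top hQ h ▸ Subgroup.mem_top g)
  rintro v g hv (hg | hg)
  · right
    rw [← mul_assoc]
    exact mul_mem (Subgroup.subset_closure (reflPairs_mem ha hv)) hg
  · left
    have : refl Q v * g = refl Q v * refl Q a * (refl Q a * g) := by
      rw [mul_assoc, ← mul_assoc (refl Q a), refl_mul_self ha, one_mul]
    rw [this]
    exact mul_mem (Subgroup.subset_closure (reflPairs_mem hv ha)) hg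

/-- In characteristic two Omega consists of the products of evenly many reflections. -/
theorem omega_eq_closure_pairs [Fintype F] [CharP F 2]
    (hQ : (QuadraticMap.polarBilin Q).Nondegenerate)
    (h : Nat.card F ≠ 2 ∨ Fintype.card ι ≠ 4) :
    Cfsg.Omega F ⇑Q = Subgroup.closure (reflPairs Q) := by
  set H := Subgroup.closure (reflPairs Q)
  haveI : H.Normal := by
    refine ⟨fun n hn g => ?_⟩
    induction hn using Subgroup.closure_induction with
    | mem x hx =>
      obtain ⟨u, v, hu, hv, rfl⟩ := exists_of_mem_reflPairs hx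
      rw [show g * (refl Q u * refl Q v) * g⁻¹ = (g * refl Q u * g⁻¹) * (g * refl Q v * g⁻¹) by
        group, conj_refl g hu, conj_refl g hv]
      exact Subgroup.subset_closure (reflPairs_mem (by rwa [act_Q]) (by rwa [act_Q]))
    | one => simp [H.one_mem]
    | mul x y _ _ hx hy => rw [← conj_mul]; exact H.mul_mem hx hy
    | inv x _ hx => rw [← conj_inv]; exact H.inv_mem hx
  refine le_antisymm (Subgroup.commutator_le.2 fun x _ y _ => ?_) ((Subgroup.closure_le _).2 ?_)
  · rw [← QuotientGroup.eq_one_iff]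
    show QuotientGroup.mk' H ⁅x, y⁆ = 1
    rw [map_commutatorElement, commutatorElement_eq_one_iff_mul_comm]
    by_cases hex : ∃ a, Q a ≠ 0
    · obtain ⟨a, ha⟩ := hex
      have key : ∀ g, QuotientGroup.mk' H g = 1 ∨
          QuotientGroup.mk' H g = (QuotientGroup.mk' H (refl Q a))⁻¹ := fun g => by
        rcases mem_pairs_or hQ h ha g with hg | hg
        · exact Or.inl ((QuotientGroup.eq_one_iff g).2 hg)
        · refine Or.inr (eq_inv_of_mul_eq_one_right ?_)
          rw [← map_mul]
          exact (QuotientGroup.eq_one_iff _).2 hg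
      rcases key x with e | e <;> rcases key y with e' | e' <;> simp [e, e']
    · push Not at hex
      have hx1 : ∀ g : ↥(Cfsg.isometryGroup F ⇑Q), g = 1 := fun g =>
        reflGroup_induction (p := fun g => g = 1) rfl (fun v _ hv _ => absurd (hex v) hv)
          (matReflGroup_eq_top hQ h ▸ Subgroup.mem_top g)
      rw [hx1 x, hx1 y]
  · intro g hg
    obtain ⟨u, v, hu, hv, rfl⟩ := exists_of_mem_reflPairs hg
    exact refl_mul_refl_mem_omega hQ hu hv

/-- The Dickson invariant: parity of the number of reflections. -/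
theorem exists_parityHom [Fintype F] [CharP F 2] (hQ : (QuadraticMap.polarBilin Q).Nondegenerate)
    (h : Nat.card F ≠ 2 ∨ Fintype.card ι ≠ 4) :
    ∃ δ : ↥(Cfsg.isometryGroup F ⇑Q) →* Multiplicative (ZMod 2),
      ∀ v, Q v ≠ 0 → δ (refl Q v) = Multiplicative.ofAdd 1 := by
  have hr := reflGroup_eq_top_charTwo (Q := Q) hQ
    (by rwa [Module.finrank_fintype_fun_eq_card])
  exact ⟨(UnitaryOrthogonal.dickson (Q := Q) hQ.1 hr).comp (toOrth Q).toMonoidHom,
    fun v hv => by
      rw [MonoidHom.comp_apply, MulEquiv.coe_toMonoidHom, toOrth_refl hv,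
        UnitaryOrthogonal.dickson_rf (Q := Q) hQ.1 hr hv]⟩

end matrix

end Cfsg.Agent.Forms59
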