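import Cfsg.Prelude
import Cfsg.Agent.Lib.Golay.Perm

/-!
A code-loop cocycle on the binary Golay code and the extension of M23 by the cocode which it defines.
-/

set_option autoImplicit false

namespace Cfsg.Agent.Forms59.CodeLoop

open Cfsg.Agent.Golay Cfsg.Spor

/-- Words of length 24. -/
abbrev W : Type := GolayPt → ZMod 2

/-- The coefficient table of the cocycle. -/
def tabT : List (List ℕ) :=
  [[0, 1824, 840, 1408, 3392, 448, 256, 2304, 3584, 2048, 0, 0], [1824, 0, 2600, 1072, 352, 4032, 640, 3072, 2048, 0, 0, 0],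
   [840, 2600, 0, 1536, 1632, 768, 2560, 3840, 512, 3072, 0, 0], [1412, 1076, 1536, 0, 1216, 3328, 1792, 3072, 1024, 3072, 2048, 0],
   [3392, 360, 1632, 1216, 0, 2112, 3968, 2560, 512, 0, 0, 0], [450, 4062, 784, 3328, 2112, 0, 1024, 2560, 0, 1024, 0, 0],
   [308, 688, 2576, 1808, 4016, 1024, 0, 2304, 0, 0, 2048, 0], [2344, 3168, 3840, 3088, 2624, 2560, 2304, 0, 2048, 2048, 2048, 0],
   [3839, 2096, 672, 1120, 576, 0, 128, 2048, 0, 1024, 2048, 0], [2310, 100, 3580, 3136, 448, 1152, 0, 2048, 1024, 0, 0, 0],
   [282, 168, 664, 3064, 64, 576, 2048, 2048, 2560, 0, 0, 0], [912, 420, 704, 1696, 224, 128, 1152, 1920, 1024, 0, 0, 0]]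

/-- The coefficient `(k, i, j)`. -/
def coef (k i j : Fin 12) : ZMod 2 :=
  if ((tabT.getD k []).getD i 0).testBit j then 1 else 0

/-- The information coordinates. -/
def co (i : Fin 12) (x : W) : ZMod 2 := x (pt i)

theorem co_add (i : Fin 12) (x y : W) : co i (x + y) = co i x + co i y := rfl

/-- The cocycle. -/
def theta (x y : W) : ZMod 2 := ∑ k, co k y * ∑ i, co i x * ∑ j, coef k i j * co j x

/-- Its associator. -/
def gam' (x y z : W) : ZMod 2 :=
  ∑ k, co k z * ∑ i, ∑ j, coef k i j * (co i x * co j y + co i y * co j x)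

/-- The triple intersection form. -/
def gam (x y z : W) : ZMod 2 := ∑ p, x p * y p * z p

theorem theta_add_right (x y z : W) : theta x (y + z) = theta x y + theta x z := by
  simp only [theta, co_add, add_mul, Finset.sum_add_distrib]

theorem theta_add_left (x y z : W) : theta (x + y) z = theta x z + theta y z + gam' x y z := by
  simp only [theta, gam', co_add, ← Finset.sum_add_distrib, ← mul_add, Finset.mul_sum]
  refine Finset.sum_congr rfl fun k _ => Finset.sum_congr rfl fun i _ => Finset.sum_congr rfl fun j _ => ?_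
  ring

/-- The basis words. -/
def bas (i : Fin 12) : W := toWord (basisN.getD i 0)

theorem golayCode_le_span : golayCode ≤ Submodule.span (ZMod 2) (Set.range bas) := by
  rw [golayCode_eq]
  rintro _ ⟨m, -, rfl⟩
  refine toWord_combAux_mem _ _ _ fun b hb => ?_
  obtain ⟨i, hi, rfl⟩ := List.getElem_of_mem hb
  refine Submodule.subset_span ⟨⟨i, hi⟩, ?_⟩
  simp only [bas, List.getD_eq_getElem _ _ hi]

theorem bas_mem (i : Fin 12) : bas i ∈ golayCode := by
  refine basisN_mem _ ?_
  have h : basisN.length = 12 := rfl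
  rw [List.getD_eq_getElem _ _ (by rw [h]; exact i.2)]
  exact List.getElem_mem _

theorem co_bas : ∀ i j : Fin 12, co j (bas i) = if j = i then 1 else 0 := by decide +kernel

/-- Additive functions on the code agree if they agree on the basis. -/
theorem eq_zero_of_basis (f : W → ZMod 2) (hadd : ∀ x ∈ golayCode, ∀ y ∈ golayCode, f (x + y) = f x + f y)
    (h : ∀ i, f (bas i) = 0) : ∀ x ∈ golayCode, f x = 0 := by
  have h0 : f 0 = 0 := by
    have := hadd 0 golayCode.zero_mem 0 golayCode.zero_mem
    rwa [add_zero, right_eq_add] at this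
  intro x hx
  suffices x ∈ golayCode ∧ f x = 0 from this.2
  refine Submodule.span_induction (p := fun v _ => v ∈ golayCode ∧ f v = 0) ?_ ⟨golayCode.zero_mem, h0⟩ ?_ ?_
    (golayCode_le_span hx)
  · rintro _ ⟨i, rfl⟩; exact ⟨bas_mem i, h i⟩
  · rintro u v _ _ ⟨hu, hu'⟩ ⟨hv, hv'⟩
    exact ⟨add_mem hu hv, by rw [hadd u hu v hv, hu', hv', add_zero]⟩
  · rintro c v _ ⟨hv, hv'⟩
    have h01 : c = 0 ∨ c = 1 := (show ∀ u : ZMod 2, u = 0 ∨ u = 1 by decide) c
    refine ⟨Submodule.smul_mem _ _ hv, ?_⟩
    rcases h01 with rfl | rfl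
    · rw [zero_smul]; exact h0
    · rw [one_smul]; exact hv'

theorem toWord_mul (a b : ℕ) (p : GolayPt) : toWord a p * toWord b p = toWord (a &&& b) p := by
  simp only [toWord, Nat.testBit_land]
  by_cases h : a.testBit (idx p) <;> by_cases h' : b.testBit (idx p) <;> simp [h, h']

theorem sum_toWord (n : ℕ) : ∑ p, toWord n p = (popc n : ZMod 2) := by
  rw [← card_toSet, toSet, Finset.natCast_card_filter]
  rfl

theorem gam_bas_check : ∀ a b c : Fin 12,
    coef c a b + coef c b a = (popc ((basisN.getD a 0 &&& basisN.getD b 0) &&& basisN.getD c 0) : ZMod 2) := by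
  decide +kernel

theorem gam_bas (a b c : Fin 12) : gam' (bas a) (bas b) (bas c) = gam (bas a) (bas b) (bas c) := by
  have h : gam (bas a) (bas b) (bas c) = coef c a b + coef c b a := by
    rw [gam_bas_check, ← sum_toWord]
    simp only [gam, bas, toWord_mul]
  rw [h, gam']
  simp [co_bas, mul_add, Finset.sum_add_distrib]

/-- The associator is the triple intersection. -/
theorem gam'_eq {x y z : W} (hx : x ∈ golayCode) (hy : y ∈ golayCode) (hz : z ∈ golayCode) :
    gam' x y z = gam x y z := by
  rw [← sub_eq_zero]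
  refine eq_zero_of_basis (fun x => gam' x y z - gam x y z) (fun u _ v _ => ?_) (fun a => ?_) x hx
  · simp only [gam', gam, co_add, Pi.add_apply, add_mul, mul_add, Finset.sum_add_distrib]; ring
  refine eq_zero_of_basis (fun y => gam' (bas a) y z - gam (bas a) y z) (fun u _ v _ => ?_) (fun b => ?_) y hy
  · simp only [gam', gam, co_add, Pi.add_apply, add_mul, mul_add, Finset.sum_add_distrib]; ring
  refine eq_zero_of_basis (fun z => gam' (bas a) (bas b) z - gam (bas a) (bas b) z) (fun u _ v _ => ?_)
    (fun c => ?_) z hz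
  · simp only [gam', gam, co_add, Pi.add_apply, add_mul, mul_add, Finset.sum_add_distrib]; ring
  rw [gam_bas, sub_self]

theorem theta_assoc {x y z : W} (hx : x ∈ golayCode) (hy : y ∈ golayCode) (hz : z ∈ golayCode) :
    theta (x + y) z = theta x z + theta y z + gam x y z := by
  rw [theta_add_left, gam'_eq hx hy hz]

/-- A quarter of the weight. -/
def qq (x : W) : ZMod 2 := ((support₂ x).card / 4 : ℕ)

/-- Half the intersection. -/
def beta (x y : W) : ZMod 2 := ((support₂ x ∩ support₂ y).card / 2 : ℕ)

theorem cast_eq_of_mod {a b : ℕ} (h : a % 2 = b % 2) : (a : ZMod 2) = (b : ZMod 2) :=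
  (ZMod.natCast_eq_natCast_iff a b 2).2 h

theorem four_dvd {x : W} (hx : x ∈ golayCode) : 4 ∣ (support₂ x).card := by
  have := golayCode_weights x hx
  rw [hammingNorm_eq] at this
  omega

theorem qq_add {x y : W} (hx : x ∈ golayCode) (hy : y ∈ golayCode) :
    qq (x + y) = qq x + qq y + beta x y := by
  have h1 := four_dvd hx
  have h2 := four_dvd hy
  have h3 := four_dvd (add_mem hx hy)
  have h6 := support₂_add x y
  obtain ⟨r, hr⟩ : Even (support₂ x ∩ support₂ y).card := even_iff_two_dvd.2 (golayCode_inter_even hx hy)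
  simp only [qq, beta, ← Nat.cast_add]
  apply cast_eq_of_mod
  omega

theorem beta_add {x x' y : W} (hx : x ∈ golayCode) (hx' : x' ∈ golayCode) (hy : y ∈ golayCode) :
    beta (x + x') y = beta x y + beta x' y + gam x x' y := by
  have hcard : ∀ u : W, ∀ s : Finset GolayPt, ((support₂ u ∩ s).card : ℕ) = (s.filter fun p => u p ≠ 0).card := by
    intro u s
    congr 1
    ext p
    simp [support₂, and_comm]
  have hg : gam x x' y = ((support₂ x ∩ (support₂ x' ∩ support₂ y)).card : ZMod 2) := by
    rw [Finset.card_eq_sum_ones, Nat.cast_sum, gam]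
    rw [← Finset.sum_subset (Finset.subset_univ (support₂ x ∩ (support₂ x' ∩ support₂ y)))]
    · refine Finset.sum_congr rfl fun p hp => ?_
      simp [support₂] at hp
      have h1 : ∀ u : ZMod 2, u ≠ 0 → u = 1 := by decide
      simp [h1 _ hp.1, h1 _ hp.2.1, h1 _ hp.2.2]
    · intro p _ hp
      simp [support₂] at hp
      by_cases h1 : x p = 0
      · simp [h1]
      by_cases h2 : x' p = 0
      · simp [h2]
      simp [hp h1 h2]
  obtain ⟨a, ha⟩ : Even (support₂ x ∩ support₂ y).card := even_iff_two_dvd.2 (golayCode_inter_even hx hy)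
  obtain ⟨b, hb⟩ : Even (support₂ x' ∩ support₂ y).card := even_iff_two_dvd.2 (golayCode_inter_even hx' hy)
  have h : (support₂ (x + x') ∩ support₂ y).card + 2 * (support₂ x ∩ (support₂ x' ∩ support₂ y)).card =
      (support₂ x ∩ support₂ y).card + (support₂ x' ∩ support₂ y).card := by
    have h1 := Finset.card_sdiff_add_card_inter (support₂ x ∩ support₂ y) (support₂ x' ∩ support₂ y)
    have h2 := Finset.card_sdiff_add_card_inter (support₂ x' ∩ support₂ y) (support₂ x ∩ support₂ y)
    have h3 : support₂ (x + x') ∩ support₂ y =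
        ((support₂ x ∩ support₂ y) \ (support₂ x' ∩ support₂ y)) ∪
          ((support₂ x' ∩ support₂ y) \ (support₂ x ∩ support₂ y)) := by
      ext p
      simp only [support₂, Finset.mem_inter, Finset.mem_union, Finset.mem_sdiff, Finset.mem_filter,
        Finset.mem_univ, true_and, Pi.add_apply]
      generalize x p = u
      generalize x' p = v
      generalize y p = w
      revert u v w
      decide
    have h4 : (support₂ x ∩ support₂ y) ∩ (support₂ x' ∩ support₂ y) =
        support₂ x ∩ (support₂ x' ∩ support₂ y) := by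
      rw [Finset.inter_inter_inter_comm, Finset.inter_self, Finset.inter_assoc]
    have h5 : (support₂ x' ∩ support₂ y) ∩ (support₂ x ∩ support₂ y) =
        support₂ x ∩ (support₂ x' ∩ support₂ y) := by
      rw [Finset.inter_comm, Finset.inter_inter_inter_comm, Finset.inter_self, Finset.inter_assoc]
    rw [h3, Finset.card_union_of_disjoint disjoint_sdiff_sdiff]
    rw [h4] at h1; rw [h5] at h2
    omega
  rw [hg]
  simp only [beta, ← Nat.cast_add]
  apply cast_eq_of_mod
  omega

theorem beta_symm (x y : W) : beta x y = beta y x := by rw [beta, beta, Finset.inter_comm]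

theorem beta_bas_check : ∀ a b : Fin 12, theta (bas a) (bas b) + theta (bas b) (bas a) = beta (bas a) (bas b) := by
  intro a b
  have h : theta (bas a) (bas b) = coef b a a := by simp [theta, co_bas]
  have h' : theta (bas b) (bas a) = coef a b b := by simp [theta, co_bas]
  rw [h, h', beta, bas, bas, support₂_toWord, support₂_toWord, toSet_inter, card_toSet]
  revert a b
  decide +kernel

theorem comm_eq_beta {x y : W} (hx : x ∈ golayCode) (hy : y ∈ golayCode) :
    theta x y + theta y x = beta x y := by
  rw [← sub_eq_zero]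
  refine eq_zero_of_basis (fun x => theta x y + theta y x - beta x y) (fun u hu v hv => ?_) (fun a => ?_) x hx
  · simp only [theta_assoc hu hv hy, theta_add_right, beta_add hu hv hy]; ring
  refine eq_zero_of_basis (fun y => theta (bas a) y + theta y (bas a) - beta (bas a) y) (fun u hu v hv => ?_)
    (fun b => ?_) y hy
  · simp only [theta_assoc hu hv (bas_mem a), theta_add_right, beta_symm (bas a),
      beta_add hu hv (bas_mem a)]; ring
  rw [beta_bas_check, sub_self]

theorem gam_self_left {x y : W} (hx : x ∈ golayCode) (hy : y ∈ golayCode) : gam x y x = 0 := by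
  have h1 : ∀ u : ZMod 2, u * u = u := by decide
  rw [← golayCode_orth hx hy]
  exact Finset.sum_congr rfl fun p _ => by rw [mul_right_comm, h1]

theorem gam_self_right {x y : W} (hx : x ∈ golayCode) (hy : y ∈ golayCode) : gam x y y = 0 := by
  have h1 : ∀ u : ZMod 2, u * u = u := by decide
  rw [← golayCode_orth hx hy]
  exact Finset.sum_congr rfl fun p _ => by rw [mul_assoc, h1]

theorem theta_self {x : W} (hx : x ∈ golayCode) : theta x x = qq x := by
  rw [← sub_eq_zero]
  refine eq_zero_of_basis (fun x => theta x x - qq x) (fun u hu v hv => ?_) (fun a => ?_) x hx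
  · simp only [theta_assoc hu hv (add_mem hu hv), theta_add_right]
    have hg : gam u v (u + v) = gam u v u + gam u v v := by
      simp only [gam, Pi.add_apply, mul_add, Finset.sum_add_distrib]
    rw [hg, gam_self_left hu hv, gam_self_right hu hv, qq_add hu hv, ← comm_eq_beta hu hv]
    ring
  have h : theta (bas a) (bas a) = coef a a a := by simp [theta, co_bas]
  rw [h, qq, bas, support₂_toWord, card_toSet]
  revert a
  decide +kernel

theorem comm_eq_qq {x y : W} (hx : x ∈ golayCode) (hy : y ∈ golayCode) :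
    theta x y + theta y x = qq (x + y) + qq x + qq y := by
  have h2 : ∀ u : ZMod 2, u + u = 0 := by decide
  rw [comm_eq_beta hx hy, qq_add hx hy]
  linear_combination (-1 : ZMod 2) * h2 (qq x) + (-1 : ZMod 2) * h2 (qq y)

/-- The code as a type. -/
abbrev C : Type := ↥golayCode

theorem comp_mem (π : M23) (x : C) : (x : W) ∘ ((π : Equiv.Perm GolayPt)) ∈ golayCode := by
  have h := mem_M24_iff.1 (M24.inv_mem π.2.1) x x.2
  simpa [Equiv.Perm.inv_def] using h

/-- The action on code words. -/
def mv (π : M23) (x : C) : C := ⟨(x : W) ∘ ((π : Equiv.Perm GolayPt)), comp_mem π x⟩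

theorem mv_add (π : M23) (x y : C) : mv π (x + y) = mv π x + mv π y := rfl

theorem mv_mul (π σ : M23) (x : C) : mv (π * σ) x = mv σ (mv π x) := rfl

theorem mv_one (x : C) : mv 1 x = x := rfl

theorem qq_mv (π : M23) (x : C) : qq (mv π x : W) = qq (x : W) := by
  have h := smul_support₂ ((π : Equiv.Perm GolayPt)⁻¹) (x : W)
  have e : (x : W) ∘ ((π : Equiv.Perm GolayPt)⁻¹).symm = (mv π x : W) := rfl
  rw [e] at h
  rw [qq, qq, ← h, Finset.card_smul_finset]

theorem gam_mv (π : M23) (x y z : C) : gam (mv π x : W) (mv π y) (mv π z) = gam (x : W) y z :=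
  Equiv.sum_comp (π : Equiv.Perm GolayPt) fun p => (x : W) p * (y : W) p * (z : W) p

/-- The defect of the cocycle under `π`. -/
def defect (π : M23) (x y : C) : ZMod 2 := theta (x : W) y + theta (mv π x : W) (mv π y)

section Cobound

variable {V : Type*} [AddCommGroup V] [Module (ZMod 2) V]

/-- A symmetric two-cocycle with vanishing diagonal. -/
structure SymmCocycle (V : Type*) [AddCommGroup V] where
  D : V → V → ZMod 2
  cocycle : ∀ x y z, D y z + D (x + y) z + D x (y + z) + D x y = 0
  symm : ∀ x y, D x y = D y x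
  diag : ∀ x, D x x = 0

/-- The extension of `V` by `ZMod 2` given by a cocycle. -/
@[ext] structure Tw (c : SymmCocycle V) where
  v : V
  s : ZMod 2

theorem two_eq (u : ZMod 2) : u + u = 0 := (show ∀ u : ZMod 2, u + u = 0 by decide) u

theorem add_self_V (x : V) : x + x = 0 := by
  have := add_smul (1 : ZMod 2) 1 x
  rw [two_eq, zero_smul, one_smul] at this
  exact this.symm

theorem SymmCocycle.zero_left (c : SymmCocycle V) (z : V) : c.D 0 z = 0 := by
  have := c.cocycle 0 0 z
  rw [add_zero, zero_add, c.diag 0] at this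
  linear_combination this - two_eq (c.D 0 z)

instance (c : SymmCocycle V) : Add (Tw c) := ⟨fun a b => ⟨a.v + b.v, a.s + b.s + c.D a.v b.v⟩⟩
instance (c : SymmCocycle V) : Zero (Tw c) := ⟨⟨0, 0⟩⟩
instance (c : SymmCocycle V) : Neg (Tw c) := ⟨fun a => a⟩

instance twGroup (c : SymmCocycle V) : AddCommGroup (Tw c) :=
  { AddGroup.ofLeftAxioms (G := Tw c)
      (fun a b d => Tw.ext (add_assoc a.v b.v d.v) (by
        show a.s + b.s + c.D a.v b.v + d.s + c.D (a.v + b.v) d.v =
          a.s + (b.s + d.s + c.D b.v d.v) + c.D a.v (b.v + d.v)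
        linear_combination c.cocycle a.v b.v d.v - two_eq (c.D b.v d.v + c.D a.v (b.v + d.v))))
      (fun a => Tw.ext (zero_add a.v) (by
        show 0 + a.s + c.D 0 a.v = a.s
        rw [c.zero_left]; ring))
      (fun a => Tw.ext (add_self_V a.v) (by
        show a.s + a.s + c.D a.v a.v = 0
        rw [two_eq, c.diag]; ring)) with
    add_comm := fun a b => Tw.ext (add_comm a.v b.v) (by
      show a.s + b.s + c.D a.v b.v = b.s + a.s + c.D b.v a.v
      rw [c.symm]; ring) }

/-- A symmetric two-cocycle with vanishing diagonal is a coboundary. -/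
theorem exists_cobound (c : SymmCocycle V) : ∃ f : V → ZMod 2, ∀ x y, f (x + y) = f x + f y + c.D x y := by
  letI : Module (ZMod 2) (Tw c) := AddCommGroup.zmodModule fun g => by
    rw [two_nsmul]
    exact Tw.ext (add_self_V g.v) (by show g.s + g.s + c.D g.v g.v = 0; rw [two_eq, c.diag]; ring)
  let p : Tw c →+ V := AddMonoidHom.mk' Tw.v fun a b => rfl
  obtain ⟨r, hr⟩ := (p.toZModLinearMap 2).exists_rightInverse_of_surjective
    (LinearMap.range_eq_top.2 fun v => ⟨⟨v, 0⟩, rfl⟩)
  refine ⟨fun x => (r x).s, fun x y => ?_⟩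
  have hx : ∀ v, (r v).v = v := fun v => LinearMap.congr_fun hr v
  show (r (x + y)).s = _
  rw [map_add]
  show (r x).s + (r y).s + c.D (r x).v (r y).v = _
  rw [hx, hx]

end Cobound

theorem exists_lift (π : M23) : ∃ f : C → ZMod 2, ∀ x y, f (x + y) = f x + f y + defect π x y := by
  have h2 : ∀ u : ZMod 2, u + u = 0 := by decide
  refine exists_cobound ⟨defect π, fun x y z => ?_, fun x y => ?_, fun x => ?_⟩
  · simp only [defect, mv_add, Submodule.coe_add, theta_assoc x.2 y.2 z.2,
      theta_assoc (mv π x).2 (mv π y).2 (mv π z).2, gam_mv, theta_add_right]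
    linear_combination h2 (theta (y : W) z + theta (mv π y : W) (mv π z) + theta (x : W) z +
      theta (mv π x : W) (mv π z) + gam (x : W) y z + theta (x : W) y + theta (mv π x : W) (mv π y))
  · have h1 := comm_eq_qq x.2 y.2
    have h3 := comm_eq_qq (mv π x).2 (mv π y).2
    have e : ((mv π x : W) + (mv π y : W)) = ((mv π (x + y) : C) : W) := rfl
    rw [e, qq_mv, qq_mv, qq_mv] at h3
    simp only [defect]
    rw [Submodule.coe_add] at h3
    linear_combination h1 + h3 + h2 (qq ((x : W) + y) + qq (x : W) + qq (y : W)) -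
      h2 (theta (y : W) x + theta (mv π y : W) (mv π x))
  · simp only [defect, theta_self x.2, theta_self (mv π x).2, qq_mv, h2]

end Cfsg.Agent.Forms59.CodeLoop
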