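import Cfsg.Agent.Forms59.CodeLoop

/-!
The extension of M23 by the cocode defined by the code loop, and a witness that it does not split.
-/

set_option autoImplicit false

namespace Cfsg.Agent.Forms59.CodeLoop

open Cfsg.Agent.Golay Cfsg.Spor

/-- The functions on the code, with M23 acting. -/
def act : M23 →* MulAut (Multiplicative (C → ZMod 2)) where
  toFun π :=
    { toFun := fun f => Multiplicative.ofAdd fun x => f.toAdd (mv π x)
      invFun := fun f => Multiplicative.ofAdd fun x => f.toAdd (mv π⁻¹ x)
      left_inv := fun f => congrArg Multiplicative.ofAdd (funext fun x => by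
        show f.toAdd (mv π (mv π⁻¹ x)) = f.toAdd x
        rw [← mv_mul, inv_mul_cancel, mv_one])
      right_inv := fun f => congrArg Multiplicative.ofAdd (funext fun x => by
        show f.toAdd (mv π⁻¹ (mv π x)) = f.toAdd x
        rw [← mv_mul, mul_inv_cancel, mv_one])
      map_mul' := fun f g => rfl }
  map_one' := rfl
  map_mul' π σ := rfl

/-- Functions on the code, extended by M23. -/
abbrev Big : Type := Multiplicative (C → ZMod 2) ⋊[act] M23

/-- The function component. -/
def fn (g : Big) : C → ZMod 2 := g.left.toAdd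

theorem fn_mul (g h : Big) (x : C) : fn (g * h) x = fn g x + fn h (mv g.right x) := rfl

theorem fn_one (x : C) : fn (1 : Big) x = 0 := rfl

theorem fn_inv (g : Big) (x : C) : fn g⁻¹ x = fn g (mv g.right⁻¹ x) := by
  have h := fn_mul g⁻¹ g x
  rw [inv_mul_cancel, fn_one, SemidirectProduct.inv_right] at h
  have h2 := two_eq (fn g⁻¹ x)
  linear_combination h + h2

/-- Lifts compatible with the cocycle. -/
def E0 : Subgroup Big where
  carrier := {g | ∀ x y, fn g (x + y) = fn g x + fn g y + defect g.right x y}
  mul_mem' {g h} hg hh x y := by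
    simp only [fn_mul, mv_add, hg x y, hh (mv g.right x) (mv g.right y), SemidirectProduct.mul_right, defect, mv_mul]
    linear_combination two_eq (theta (mv g.right x : W) (mv g.right y))
  one_mem' x y := by
    simp only [fn_one, SemidirectProduct.one_right, defect, mv_one, two_eq, add_zero]
  inv_mem' {g} hg x y := by
    have h : ∀ z, mv g.right (mv g.right⁻¹ z) = z := fun z => by rw [← mv_mul, inv_mul_cancel, mv_one]
    simp only [fn_inv, mv_add, hg (mv g.right⁻¹ x) (mv g.right⁻¹ y), SemidirectProduct.inv_right, defect, h]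
    ring

/-- Projection to M23. -/
def proj0 : E0 →* M23 := SemidirectProduct.rightHom.comp E0.subtype

theorem proj0_surjective : Function.Surjective proj0 := by
  intro π
  obtain ⟨f, hf⟩ := exists_lift π
  exact ⟨⟨⟨Multiplicative.ofAdd f, π⟩, hf⟩, rfl⟩

/-- Additive functions on the code as elements of `E0`. -/
def ofLin (f : C →+ ZMod 2) : E0 :=
  ⟨SemidirectProduct.inl (Multiplicative.ofAdd (f : C → ZMod 2)), fun x y => by
    show f (x + y) = f x + f y + defect 1 x y
    simp only [defect, mv_one, two_eq, add_zero, map_add]⟩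

theorem fn_ofLin (f : C →+ ZMod 2) (x : C) : fn (ofLin f : Big) x = f x := rfl

/-- The functional given by a word. -/
def dot (w : W) : C →+ ZMod 2 where
  toFun x := ∑ p, (x : W) p * w p
  map_zero' := by simp
  map_add' x y := by simp [add_mul, Finset.sum_add_distrib]

theorem dot_single (x : C) : dot (Pi.single none 1) x = (x : W) none := by
  simp [dot, Pi.single_apply]

theorem dot_add (v w : W) (x : C) : dot (v + w) x = dot v x + dot w x := by
  simp [dot, mul_add, Finset.sum_add_distrib]

/-- The fixed functional. -/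
def delta : E0 := ofLin (dot (Pi.single none 1))

theorem delta_mem_center : delta ∈ Subgroup.center E0 := by
  rw [Subgroup.mem_center_iff]
  intro g
  refine Subtype.ext (SemidirectProduct.ext ?_ ?_)
  · refine funext fun x => ?_
    show fn ((g : Big) * (delta : Big)) x = fn ((delta : Big) * (g : Big)) x
    rw [fn_mul, fn_mul]
    show fn (g : Big) x + dot (Pi.single none 1) (mv (g : Big).right x) =
      dot (Pi.single none 1) x + fn (g : Big) (mv 1 x)
    rw [mv_one, dot_single, dot_single]
    have h : ((g : Big).right : Equiv.Perm GolayPt) none = none := (g : Big).right.2.2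
    show _ + (x : W) (((g : Big).right : Equiv.Perm GolayPt) none) = _
    rw [h, add_comm]
  · show (g : Big).right * 1 = 1 * (g : Big).right
    simp

/-- The subgroup generated by `delta`. -/
def Z0 : Subgroup E0 := Subgroup.zpowers delta

instance : Z0.Normal := ⟨fun n hn g => by
  have h : n ∈ Subgroup.center E0 := (Subgroup.zpowers_le.2 delta_mem_center) hn
  rw [Subgroup.mem_center_iff.1 h g]
  simpa using hn⟩

theorem mem_Z0 {g : E0} (h : g ∈ Z0) : g = 1 ∨ g = delta := by
  obtain ⟨k, rfl⟩ := Subgroup.mem_zpowers_iff.1 h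
  have h2 : delta * delta = 1 := by
    refine Subtype.ext (SemidirectProduct.ext (funext fun x => ?_) rfl)
    show dot (Pi.single none 1) x + dot (Pi.single none 1) (mv 1 x) = 0
    rw [mv_one, two_eq]
  rcases Int.even_or_odd' k with ⟨j, rfl | rfl⟩
  · exact Or.inl (by rw [zpow_mul, zpow_two, h2, one_zpow])
  · exact Or.inr (by rw [zpow_add, zpow_mul, zpow_two, h2, one_zpow, one_mul, zpow_one])

/-- The group 2^11.M23. -/
abbrev Ext : Type := E0 ⧸ Z0

/-- Projection of the extension. -/
def proj : Ext →* M23 := QuotientGroup.lift Z0 proj0 (by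
  rw [Z0, Subgroup.zpowers_le, MonoidHom.mem_ker]; rfl)

theorem proj_surjective : Function.Surjective proj := fun π => by
  obtain ⟨g, hg⟩ := proj0_surjective π
  exact ⟨(g : Ext), hg⟩

theorem mem_ker_proj {g : E0} : (g : Ext) ∈ proj.ker ↔ (g : Big).right = 1 := Iff.rfl

theorem ofLin_mem_ker (f : C →+ ZMod 2) : (ofLin f : Ext) ∈ proj.ker := rfl

/-- The cocode map. -/
def toKer : W →+ Additive ↥proj.ker where
  toFun w := Additive.ofMul ⟨(ofLin (dot w) : Ext), ofLin_mem_ker _⟩
  map_zero' := by
    refine congrArg Additive.ofMul (Subtype.ext ?_)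
    show ((ofLin (dot 0) : E0) : Ext) = 1
    rw [show ofLin (dot 0) = 1 from Subtype.ext (SemidirectProduct.ext (funext fun x => by
      show dot 0 x = 0; simp [dot]) rfl)]
    rfl
  map_add' v w := by
    refine congrArg Additive.ofMul (Subtype.ext ?_)
    show ((ofLin (dot (v + w)) : E0) : Ext) = ((ofLin (dot v) * ofLin (dot w) : E0) : Ext)
    rw [show ofLin (dot (v + w)) = ofLin (dot v) * ofLin (dot w) from Subtype.ext
      (SemidirectProduct.ext (funext fun x => by
        show dot (v + w) x = dot v x + dot w (mv 1 x)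
        rw [dot_add, mv_one]) rfl)]

/-- The pairing of words with the code. -/
def pairing : W →ₗ[ZMod 2] Module.Dual (ZMod 2) C where
  toFun w := (dot w).toZModLinearMap 2
  map_add' v w := LinearMap.ext fun x => dot_add v w x
  map_smul' c w := LinearMap.ext fun x => by
    show ∑ p, (x : W) p * (c • w) p = c • ∑ p, (x : W) p * w p
    rw [Finset.smul_sum]; exact Finset.sum_congr rfl fun p _ => by simp only [Pi.smul_apply, smul_eq_mul]; ring

theorem pairing_surjective : Function.Surjective pairing := by
  intro f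
  obtain ⟨g, hg⟩ := LinearMap.exists_extend f
  refine ⟨fun p => g (Pi.single p 1), LinearMap.ext fun x => ?_⟩
  show ∑ p, (x : W) p * g (Pi.single p 1) = f x
  rw [← hg, LinearMap.comp_apply, Submodule.subtype_apply]
  conv_rhs => rw [pi_eq_sum_univ' (x : W), map_sum]
  exact Finset.sum_congr rfl fun p _ => by rw [map_smul, smul_eq_mul]

theorem dot_eq_zero_iff (w : W) : (∀ x : C, dot w x = 0) ↔ w ∈ golayCode := by
  have hle : golayCode ≤ LinearMap.ker pairing := fun v hv =>
    LinearMap.mem_ker.2 (LinearMap.ext fun x => golayCode_orth x.2 hv)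
  have h := LinearMap.finrank_range_add_finrank_ker pairing
  rw [LinearMap.range_eq_top.2 pairing_surjective, finrank_top, Subspace.dual_finrank_eq,
    finrank_golayCode, Module.finrank_fintype_fun_eq_card, card_golayPt] at h
  have heq := Submodule.eq_of_le_of_finrank_eq hle (by rw [finrank_golayCode]; exact (Nat.add_left_cancel (h.trans (rfl : 24 = 12 + 12))).symm)
  constructor
  · intro hw
    rw [heq]
    exact LinearMap.mem_ker.2 (LinearMap.ext hw)
  · intro hw x
    exact golayCode_orth x.2 hw

theorem toKer_eq_zero_iff (w : W) :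
    toKer w = 0 ↔ (w ∈ golayCode ∨ w + Pi.single none 1 ∈ golayCode) := by
  have h : toKer w = 0 ↔ ofLin (dot w) ∈ Z0 := by
    rw [← QuotientGroup.eq_one_iff]
    exact ⟨fun h => congrArg (fun a : Additive ↥proj.ker => (a.toMul : Ext)) h,
      fun h => congrArg Additive.ofMul (Subtype.ext h)⟩
  rw [h, ← dot_eq_zero_iff, ← dot_eq_zero_iff]
  constructor
  · intro hz
    rcases mem_Z0 hz with e | e
    · refine Or.inl fun x => ?_
      rw [← fn_ofLin (dot w) x, e, Subgroup.coe_one, fn_one]
    · refine Or.inr fun x => ?_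
      have h1 : dot w x = dot (Pi.single none 1) x := by
        rw [← fn_ofLin (dot w) x, e, delta, fn_ofLin]
      rw [dot_add, h1, two_eq]
  · rintro (e | e)
    · rw [show ofLin (dot w) = 1 from Subtype.ext (SemidirectProduct.ext (funext e) rfl)]
      exact one_mem _
    · have : ofLin (dot w) = delta := Subtype.ext (SemidirectProduct.ext (funext fun x => by
        show dot w x = dot (Pi.single none 1) x
        have := e x
        rw [dot_add] at this
        linear_combination this - two_eq (dot (Pi.single none 1) x)) rfl)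
      rw [this]
      exact Subgroup.mem_zpowers _

theorem toKer_surjective : Function.Surjective toKer := by
  intro a
  obtain ⟨⟨g, hg⟩, rfl⟩ := Additive.ofMul.surjective a
  obtain ⟨g, rfl⟩ := QuotientGroup.mk_surjective g
  have hr : (g : Big).right = 1 := hg
  let f : C →+ ZMod 2 := AddMonoidHom.mk' (fn (g : Big)) fun x y => by
    rw [g.2 x y, hr]; simp only [defect, mv_one, two_eq, add_zero]
  obtain ⟨w, hw⟩ := pairing_surjective (f.toZModLinearMap 2)
  refine ⟨w, congrArg Additive.ofMul (Subtype.ext ?_)⟩
  show ((ofLin (dot w) : E0) : Ext) = _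
  rw [show ofLin (dot w) = g from Subtype.ext (SemidirectProduct.ext (funext fun x => LinearMap.congr_fun hw x) hr.symm)]

theorem conj_ofLin (g : E0) (w : W) :
    g * ofLin (dot w) * g⁻¹ = ofLin (dot (w ∘ ⇑(((g : Big).right : Equiv.Perm GolayPt)⁻¹))) := by
  refine Subtype.ext (SemidirectProduct.ext (funext fun x => ?_) ?_)
  · show fn ((g : Big) * (ofLin (dot w) : Big) * (g : Big)⁻¹) x = dot (w ∘ _) x
    rw [fn_mul, fn_mul, fn_inv]
    have hright : ((g : Big) * (ofLin (dot w) : Big)).right = (g : Big).right := mul_one _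
    rw [hright, ← mv_mul, mul_inv_cancel, mv_one]
    show fn (g : Big) x + dot w (mv (g : Big).right x) + fn (g : Big) x = _
    have : dot (w ∘ ⇑(((g : Big).right : Equiv.Perm GolayPt)⁻¹)) x = dot w (mv (g : Big).right x) := by
      show ∑ p, (x : W) p * w ((((g : Big).right : Equiv.Perm GolayPt)⁻¹) p) =
        ∑ p, (x : W) (((g : Big).right : Equiv.Perm GolayPt) p) * w p
      rw [← Equiv.sum_comp ((g : Big).right : Equiv.Perm GolayPt) (fun p => (x : W) p * w _)]
      simp
    rw [this]
    linear_combination two_eq (fn (g : Big) x)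
  · show (g : Big).right * 1 * ((g : Big).right)⁻¹ = 1
    simp

/-! ### The witness -/

/-- Table of the first generator of a quaternion subgroup. -/
def tabA : List ℕ :=
  [6, 2, 17, 4, 20, 14, 0, 15, 5, 3, 10, 19, 12, 11, 21, 7, 1, 16, 18, 22, 9, 8, 13, 23]

/-- Table of the second generator. -/
def tabB : List ℕ :=
  [15, 13, 22, 8, 21, 4, 7, 6, 20, 5, 10, 2, 12, 17, 3, 0, 11, 19, 18, 1, 14, 9, 16, 23]

theorem exists_mem_M23 {l : List ℕ} (hp : isPermTab l = true) (hc : checkAut l = true)
    (hn : l.getD 23 0 = 23) : ∃ g : M23, Tab (g : Equiv.Perm GolayPt) l := by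
  refine ⟨⟨permOf l hp, (tab_permOf hp).mem_M24 hc, ?_⟩, tab_permOf hp⟩
  show permOf l hp none = none
  rw [(tab_permOf hp).apply]
  show pt (l.getD 23 0) = none
  rw [hn]
  rfl

/-- A code word from its information bits. -/
def cw (m : ℕ) : C := ⟨toWord (comb m), toWord_comb_mem m⟩

theorem mv_cw {g : M23} {l : List ℕ} (h : Tab (g : Equiv.Perm GolayPt) l) {m m' : ℕ}
    (hm : maps l (comb m') (comb m) = true) : mv g (cw m) = cw m' := by
  refine Subtype.ext (funext fun p => ?_)
  show toWord (comb m) ((g : Equiv.Perm GolayPt) p) = toWord (comb m') p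
  simp only [toWord, h.mem_image_iff hm p]

theorem cw_add (m m' : ℕ) : cw m + cw m' = cw (m ^^^ m') := by
  refine Subtype.ext ?_
  show toWord (comb m) + toWord (comb m') = toWord (comb (m ^^^ m'))
  rw [comb_xor, toWord_xor]

theorem sum_four {f : C → ZMod 2} {D : C → C → ZMod 2} (hf : ∀ x y, f (x + y) = f x + f y + D x y)
    {a b c d : C} (h : a + b + c = d) : f a + f b + f c + f d = D a b + D (a + b) c := by
  rw [← h, hf, hf]
  linear_combination two_eq (f a) + two_eq (f b) + two_eq (f c)

theorem sum_six {f : C → ZMod 2} {D : C → C → ZMod 2} (hf : ∀ x y, f (x + y) = f x + f y + D x y)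
    {a b c d e g : C} (h : a + b + c + d + e = g) :
    f a + f b + f c + f d + f e + f g = D a b + D (a + b) c + D (a + b + c) d + D (a + b + c + d) e := by
  rw [← h, hf, hf, hf, hf]
  linear_combination two_eq (f a) + two_eq (f b) + two_eq (f c) + two_eq (f d) + two_eq (f e)

/-- The defect in terms of the images. -/
theorem defect_cw {g : M23} {l : List ℕ} (h : Tab (g : Equiv.Perm GolayPt) l) {a b a' b' : ℕ}
    (ha : maps l (comb a') (comb a) = true) (hb : maps l (comb b') (comb b) = true) :
    defect g (cw a) (cw b) = theta (toWord (comb a)) (toWord (comb b)) + theta (toWord (comb a')) (toWord (comb b')) := by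
  rw [defect, mv_cw h ha, mv_cw h hb]
  rfl

/-- The table image of a code word. -/
def imgC (l : List ℕ) (m : ℕ) : ℕ :=
  ((List.range 24).foldl (fun r i => if (comb m).testBit (l.getD i 0) then r ||| 2 ^ i else r) 0) % 4096

/-- Computable defect. -/
def defN (l : List ℕ) (a b : ℕ) : ZMod 2 :=
  theta (toWord (comb a)) (toWord (comb b)) + theta (toWord (comb (imgC l a))) (toWord (comb (imgC l b)))

/-- The list of defects to check. -/
def okMaps (l : List ℕ) (L : List ℕ) : Bool :=
  L.all fun m => maps l (comb (imgC l m)) (comb m)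

theorem defect_eq {g : M23} {l : List ℕ} (h : Tab (g : Equiv.Perm GolayPt) l) {a b : ℕ}
    (hok : okMaps l [a, b] = true) : defect g (cw a) (cw b) = defN l a b := by
  simp only [okMaps, List.all_cons, List.all_nil, Bool.and_true, Bool.and_eq_true] at hok
  exact defect_cw h hok.1 hok.2

theorem witness :
    defN tabA 13 2802 + defN tabA (13 ^^^ 2802) 1143 +
      (defN tabB 2349 2827 + defN tabB (2349 ^^^ 2827) 3439 + defN tabB (2349 ^^^ 2827 ^^^ 3439) 3760 +
        defN tabB (2349 ^^^ 2827 ^^^ 3439 ^^^ 3760) 1891) = 1 := by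
  decide +kernel

theorem witness_maps :
    okMaps tabA [13, 2802] = true ∧ okMaps tabA [13 ^^^ 2802, 1143] = true ∧ okMaps tabB [2349, 2827] = true ∧
      okMaps tabB [2349 ^^^ 2827, 3439] = true ∧ okMaps tabB [2349 ^^^ 2827 ^^^ 3439, 3760] = true ∧
      okMaps tabB [2349 ^^^ 2827 ^^^ 3439 ^^^ 3760, 1891] = true := by
  decide +kernel

theorem nonsplit (H : Subgroup Ext) (hbot : H ⊓ proj.ker = ⊥) : H ⊔ proj.ker ≠ ⊤ := by
  intro htop
  have hlift : ∀ π : M23, ∃ g : E0, (g : Ext) ∈ H ∧ (g : Big).right = π := by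
    intro π
    obtain ⟨e, he⟩ := proj_surjective π
    have : e ∈ H ⊔ proj.ker := htop ▸ Subgroup.mem_top e
    obtain ⟨h, hh, k, hk, rfl⟩ := Subgroup.mem_sup_of_normal_right.1 this
    obtain ⟨g, rfl⟩ := QuotientGroup.mk_surjective h
    refine ⟨g, hh, ?_⟩
    rw [map_mul, MonoidHom.mem_ker.1 hk, mul_one] at he
    exact he
  obtain ⟨a, ta⟩ := exists_mem_M23 (l := tabA) (by decide +kernel) (by decide +kernel) (by decide +kernel)
  obtain ⟨b, tb⟩ := exists_mem_M23 (l := tabB) (by decide +kernel) (by decide +kernel) (by decide +kernel)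
  obtain ⟨A, hA, hAr⟩ := hlift a
  obtain ⟨B, hB, hBr⟩ := hlift b
  have key : ∀ r : E0, (r : Ext) ∈ H → (r : Big).right = 1 → ∀ x : C, (x : W) none = 0 → fn (r : Big) x = 0 := by
    intro r hr hr1 x hx
    have h1 : (r : Ext) ∈ H ⊓ proj.ker := ⟨hr, hr1⟩
    rw [hbot, Subgroup.mem_bot, QuotientGroup.eq_one_iff] at h1
    rcases mem_Z0 h1 with e | e
    · rw [e, Subgroup.coe_one, fn_one]
    · rw [e, delta, fn_ofLin, dot_single, hx]
  have hrelA : a * a * b * b = 1 := Subtype.ext (tab_unique ((((ta.mul ta).mul tb).mul tb)) (by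
    rw [show comp (comp (comp tabA tabA) tabB) tabB = idTab by decide +kernel]
    exact tab_one))
  have hrelB : a * b * a * b * b * b = 1 := Subtype.ext (tab_unique
    ((((((ta.mul tb).mul ta).mul tb).mul tb).mul tb)) (by
    rw [show comp (comp (comp (comp (comp tabA tabB) tabA) tabB) tabB) tabB = idTab by decide +kernel]
    exact tab_one))
  have e1 := key (A * A * B * B) (by
      simp only [QuotientGroup.mk_mul]; exact H.mul_mem (H.mul_mem (H.mul_mem hA hA) hB) hB)
    (by simp only [Subgroup.coe_mul, SemidirectProduct.mul_right, hAr, hBr, hrelA]) (cw 13)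
    (show toWord (comb 13) none = 0 by decide +kernel)
  have e2 := key (A * B * A * B * B * B) (by
      simp only [QuotientGroup.mk_mul]
      exact H.mul_mem (H.mul_mem (H.mul_mem (H.mul_mem (H.mul_mem hA hB) hA) hB) hB) hB)
    (by simp only [Subgroup.coe_mul, SemidirectProduct.mul_right, hAr, hBr, hrelB]) (cw 1143)
    (show toWord (comb 1143) none = 0 by decide +kernel)
  have m1 : mv a (cw 13) = cw 2802 := mv_cw ta (by decide +kernel)
  have m2 : mv a (cw 2802) = cw 2349 := mv_cw ta (by decide +kernel)
  have m3 : mv b (cw 2349) = cw 2827 := mv_cw tb (by decide +kernel)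
  have n1 : mv a (cw 1143) = cw 3439 := mv_cw ta (by decide +kernel)
  have n2 : mv b (cw 3439) = cw 3720 := mv_cw tb (by decide +kernel)
  have n3 : mv a (cw 3720) = cw 3760 := mv_cw ta (by decide +kernel)
  have n4 : mv b (cw 3760) = cw 1891 := mv_cw tb (by decide +kernel)
  have n5 : mv b (cw 1891) = cw 1690 := mv_cw tb (by decide +kernel)
  simp only [Subgroup.coe_mul, fn_mul, SemidirectProduct.mul_right, hAr, hBr, mv_mul, m1, m2, m3] at e1
  simp only [Subgroup.coe_mul, fn_mul, SemidirectProduct.mul_right, hAr, hBr, mv_mul, n1, n2, n3, n4, n5] at e2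
  have fa : ∀ x y, fn (A : Big) (x + y) = fn (A : Big) x + fn (A : Big) y + defect a x y := fun x y => hAr ▸ A.2 x y
  have fb : ∀ x y, fn (B : Big) (x + y) = fn (B : Big) x + fn (B : Big) y + defect b x y := fun x y => hBr ▸ B.2 x y
  have sA := sum_four fa (a := cw 13) (b := cw 2802) (c := cw 1143) (d := cw 3720) (by
    rw [cw_add, cw_add]; exact congrArg cw (by decide +kernel))
  have sB := sum_six fb (a := cw 2349) (b := cw 2827) (c := cw 3439) (d := cw 3760) (e := cw 1891) (g := cw 1690) (by
    rw [cw_add, cw_add, cw_add, cw_add]; exact congrArg cw (by decide +kernel))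
  obtain ⟨o1, o2, o3, o4, o5, o6⟩ := witness_maps
  rw [cw_add, defect_eq ta o1, defect_eq ta o2] at sA
  rw [cw_add, cw_add, cw_add, defect_eq tb o3, defect_eq tb o4, defect_eq tb o5, defect_eq tb o6] at sB
  have : (1 : ZMod 2) = 0 := by
    rw [← witness, ← sA, ← sB]
    linear_combination e1 + e2
  exact one_ne_zero this

end Cfsg.Agent.Forms59.CodeLoop
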