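import Cfsg.Prelude
import Cfsg.Agent.Lib.Golay.Mult.Tables
import Cfsg.Agent.Lib.Golay.Order
import Cfsg.Agent.Lib.Frobenius.Gaschuetz

/-!
Certificates for extensions of M23 by an elementary abelian group of order 2^11.
-/

set_option autoImplicit false

namespace Cfsg.Agent.Forms59.ExtCert

open Cfsg.Agent.Golay Cfsg.Spor

/-- The module as coordinate vectors. -/
abbrev V : Type := Fin 11 → ZMod 2

/-- A coordinate, zero out of range. -/
def getV (v : V) (k : ℕ) : ZMod 2 := if h : k < 11 then v ⟨k, h⟩ else 0

/-- A matrix given by the column indices in each row. -/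
def app (M : List (List ℕ)) (v : V) : V := fun i => ((M.getD i []).map (getV v)).sum

/-- The identity matrix. -/
def idMat : List (List ℕ) := (List.range 11).map fun i => [i]

theorem app_idMat (v : V) : app idMat v = v := by
  funext i
  have h : idMat.getD i.val [] = [i.val] := by
    rw [idMat, List.getD_eq_getElem _ _ (by simpa using i.2)]
    simp
  show ((idMat.getD i.val []).map (getV v)).sum = v i
  rw [h]
  simp [getV, i.2]

/-- A linear expression: eleven rows, each a mask of unknown bits. -/
abbrev Expr : Type := List ℕ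

/-- A step of a derivation: position, rule, direction. -/
abbrev Step : Type := ℕ × ℕ × Bool

/-- A certificate. -/
structure Cert where
  tabs : List (List ℕ)
  mats : List (List (List ℕ))
  rules : List (List ℕ × List ℕ)
  derivs : List (List ℕ × List Step × List Step)
  sel : ℕ
  rows : List ℕ
  gauge : List (List ℕ)
  lam : ℕ
  vs : List ℕ
  combos : List ℕ

namespace Cert

variable (c : Cert)

/-- Table of a letter. -/
def tab (i : ℕ) : List ℕ := c.tabs.getD i idTab

/-- Matrix of a letter. -/
def mat (i : ℕ) : List (List ℕ) := c.mats.getD i idMat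

/-- Table of a word. -/
def tabW : List ℕ → List ℕ
  | [] => idTab
  | i :: w => comp (c.tab i) (tabW w)

/-- Number of unknown bits. -/
def width : ℕ := 11 * c.rules.length

end Cert

/-- Sum of expressions. -/
def xE (A B : Expr) : Expr := (List.range 11).map fun i => A.getD i 0 ^^^ B.getD i 0

/-- A matrix applied to an expression. -/
def actM (M : List (List ℕ)) (E : Expr) : Expr :=
  (List.range 11).map fun i =>
    ((M.getD i []).map fun k => if k < 11 then E.getD k 0 else 0).foldr (fun a b => a ^^^ b) 0

/-- The unknown value of a rule. -/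
def unitE (r : ℕ) : Expr := (List.range 11).map fun k => 2 ^ (11 * r + k)

namespace Cert

variable (c : Cert)

/-- A word applied to an expression. -/
def actW : List ℕ → Expr → Expr
  | [], E => E
  | i :: w, E => actM (c.mat i) (actW w E)

/-- Running a derivation. -/
def run : List ℕ → Expr → List Step → Option (Expr × List ℕ)
  | w, acc, [] => some (acc, w)
  | w, acc, (pos, r, b) :: rest =>
    let L := if b then (c.rules.getD r ([], [])).2 else (c.rules.getD r ([], [])).1
    let R := if b then (c.rules.getD r ([], [])).1 else (c.rules.getD r ([], [])).2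
    if r < c.rules.length ∧ (w.drop pos).take L.length = L then
      run (w.take pos ++ R ++ (w.drop pos).drop L.length) (xE acc (c.actW (w.take pos) (unitE r))) rest
    else none

/-- The equations from two derivations. -/
def eqRows (d : List ℕ × List Step × List Step) : List ℕ :=
  match c.run d.1 [] d.2.1, c.run d.1 [] d.2.2 with
  | some (a, w), some (b, w') => if w = w' then xE a b else []
  | _, _ => []

/-- The gauge term of a word. -/
def dvE : List ℕ → Expr
  | [] => []
  | i :: w => xE (c.gauge.getD i []) (actM (c.mat i) (dvE w))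

/-- The normalised value of a rule. -/
def target (r : ℕ) : Expr :=
  xE (xE (unitE r) (xE (c.dvE (c.rules.getD r ([], [])).1) (c.dvE (c.rules.getD r ([], [])).2)))
    ((List.range 11).map fun k => if (c.vs.getD r 0).testBit k then c.lam else 0)

end Cert

/-- The selected entries. -/
def pick : ℕ → List ℕ → List ℕ
  | _, [] => []
  | m, a :: l => if m % 2 = 1 then a :: pick (m / 2) l else pick (m / 2) l

/-- A combination of rows. -/
def combo : ℕ → List ℕ → ℕ
  | _, [] => 0
  | m, a :: l => (if m % 2 = 1 then a else 0) ^^^ combo (m / 2) l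

namespace Cert

variable (c : Cert)

/-- All tables are elements of M23 and all rules hold in M23. -/
def okTabs : Bool :=
  (c.tabs.all fun l => isPermTab l && checkAut l && l.getD 23 0 == 23) &&
    c.rules.all fun LR => c.tabW LR.1 == c.tabW LR.2

/-- The selected rows are the equations. -/
def okRows : Bool := pick c.sel (c.derivs.map c.eqRows).flatten == c.rows

/-- The targets follow from the rows. -/
def okTargets : Bool :=
  (List.range 28).all fun r => (List.range 11).all fun k =>
    combo (c.combos.getD (11 * r + k) 0) c.rows == (c.target r).getD k 0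

/-- The first seven letters give a Sylow 2-subgroup by a polycyclic presentation. -/
def okPc : Bool :=
  (List.range 7).all (fun j =>
    decide ((c.rules.getD j ([], [])).1 = [j, j] ∧ ∀ u ∈ (c.rules.getD j ([], [])).2, u < j) &&
      (List.range j).all fun i =>
        (c.rules.getD (7 + j * (j - 1) / 2 + i) ([], [])).1 == [j, i] &&
          (c.rules.getD (7 + j * (j - 1) / 2 + i) ([], [])).2.getLast? == some j &&
          (c.rules.getD (7 + j * (j - 1) / 2 + i) ([], [])).2.dropLast.all fun u => decide (u < j)) &&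
    decide (28 ≤ c.rules.length ∧ (Mult.allProd (c.tabs.take 7)).Nodup ∧
      (Mult.allProd (c.tabs.take 7)).length = 128) &&
    (Mult.allProd (c.tabs.take 7)).all fun e => e.length == 24

end Cert

/-- An extension of M23 by `V`. -/
structure Setting (c : Cert) (E : Type*) [Group E] where
  π : E →* M23
  surj : Function.Surjective π
  n : V → E
  n_add : ∀ u v, n (u + v) = n u * n v
  n_inj : Function.Injective n
  mem_ker : ∀ x, π x = 1 ↔ ∃ v, n v = x
  conj : ∀ i, ∀ x : E, Tab (π x : Equiv.Perm GolayPt) (c.tab i) →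
    ∀ v, x * n v * x⁻¹ = n (app (c.mat i) v)

/-- Evaluation of a mask. -/
def ev (y : ℕ → ZMod 2) (U m : ℕ) : ZMod 2 := ∑ i ∈ Finset.range U, if m.testBit i then y i else 0

theorem ev_zero (y : ℕ → ZMod 2) (U : ℕ) : ev y U 0 = 0 := by simp [ev]

theorem ev_xor (y : ℕ → ZMod 2) (U a b : ℕ) : ev y U (a ^^^ b) = ev y U a + ev y U b := by
  rw [ev, ev, ev, ← Finset.sum_add_distrib]
  refine Finset.sum_congr rfl fun i _ => ?_
  have h2 : y i + y i = 0 := (show ∀ u : ZMod 2, u + u = 0 by decide) _
  rw [Nat.testBit_xor]
  by_cases ha : a.testBit i <;> by_cases hb : b.testBit i <;> simp [ha, hb, h2]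

/-- Evaluation of an expression. -/
def evE (y : ℕ → ZMod 2) (U : ℕ) (E : Expr) : V := fun i => ev y U (E.getD i 0)

theorem getD_map_range_zero (f : ℕ → ℕ) {i : ℕ} (hi : i < 11) :
    ((List.range 11).map f).getD i 0 = f i := by
  rw [List.getD_eq_getElem _ _ (by simpa using hi)]
  simp

theorem evE_xE (y : ℕ → ZMod 2) (U : ℕ) (A B : Expr) : evE y U (xE A B) = evE y U A + evE y U B := by
  funext i
  simp only [evE, xE, getD_map_range_zero _ i.2, ev_xor, Pi.add_apply]

theorem evE_nil (y : ℕ → ZMod 2) (U : ℕ) : evE y U [] = 0 := by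
  funext i; simp [evE, ev_zero]

theorem evE_actM (y : ℕ → ZMod 2) (U : ℕ) (M : List (List ℕ)) (E : Expr) :
    evE y U (actM M E) = app M (evE y U E) := by
  funext i
  rw [app, evE, actM, getD_map_range_zero _ i.2]
  induction M.getD i.val [] with
  | nil => simp [ev_zero]
  | cons k l ih =>
    rw [List.map_cons, List.foldr_cons, ev_xor, ih, List.map_cons, List.sum_cons]
    congr 1
    unfold getV
    split
    · rfl
    · exact ev_zero _ _

theorem ev_two_pow (y : ℕ → ZMod 2) {U k : ℕ} (hk : k < U) : ev y U (2 ^ k) = y k := by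
  rw [ev, Finset.sum_eq_single k]
  · simp [Nat.testBit_two_pow]
  · intro b _ hb
    simp [Nat.testBit_two_pow, Ne.symm hb]
  · intro h; exact absurd (Finset.mem_range.2 hk) h

namespace Setting

variable {c : Cert} {E : Type*} [Group E] (S : Setting c E)

theorem n_zero : S.n 0 = 1 := by
  have := S.n_add 0 0
  rwa [add_zero, left_eq_mul] at this

theorem add_self (v : V) : v + v = 0 := funext fun i => (show ∀ u : ZMod 2, u + u = 0 by decide) (v i)

theorem n_mul_self (v : V) : S.n v * S.n v = 1 := by rw [← S.n_add, add_self, S.n_zero]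

theorem n_inv (v : V) : (S.n v)⁻¹ = S.n v := inv_eq_of_mul_eq_one_right (S.n_mul_self v)

theorem conj_any (i : ℕ) (x : E) (hx : Tab (S.π x : Equiv.Perm GolayPt) (c.tab i)) (v : V) :
    x * S.n v = S.n (app (c.mat i) v) * x := by
  rw [← S.conj i x hx v, inv_mul_cancel_right]

/-- The product of lifts along a word. -/
def val (x : ℕ → E) : List ℕ → E
  | [] => 1
  | i :: w => x i * val x w

theorem val_append (x : ℕ → E) : ∀ u w : List ℕ, val x (u ++ w) = val x u * val x w
  | [], w => (one_mul _).symm
  | i :: u, w => by rw [List.cons_append, val, val, val_append x u w, mul_assoc]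

theorem tab_val {x : ℕ → E} (hx : ∀ i, Tab (S.π (x i) : Equiv.Perm GolayPt) (c.tab i)) :
    ∀ w : List ℕ, Tab (S.π (val x w) : Equiv.Perm GolayPt) (c.tabW w)
  | [] => by rw [val, map_one]; exact tab_one
  | i :: w => by rw [val, map_mul]; exact (hx i).mul (tab_val hx w)

theorem val_mul_n {x : ℕ → E} (hx : ∀ i, Tab (S.π (x i) : Equiv.Perm GolayPt) (c.tab i))
    (y : ℕ → ZMod 2) (U : ℕ) (A : Expr) : ∀ w : List ℕ,
    val x w * S.n (evE y U A) = S.n (evE y U (c.actW w A)) * val x w
  | [] => by rw [val, Cert.actW, one_mul, mul_one]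
  | i :: w => by
    rw [val, Cert.actW, evE_actM, mul_assoc, val_mul_n hx y U A w, ← mul_assoc, S.conj_any i _ (hx i), mul_assoc]

theorem run_spec {x : ℕ → E} (hx : ∀ i, Tab (S.π (x i) : Equiv.Perm GolayPt) (c.tab i))
    (y : ℕ → ZMod 2)
    (hy : ∀ r < c.rules.length, val x (c.rules.getD r ([], [])).1 =
      S.n (evE y c.width (unitE r)) * val x (c.rules.getD r ([], [])).2) :
    ∀ (st : List Step) (w : List ℕ) (acc : Expr) (res : Expr × List ℕ), c.run w acc st = some res →
      S.n (evE y c.width acc) * val x w = S.n (evE y c.width res.1) * val x res.2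
  | [], w, acc, res, h => by
    simp only [Cert.run, Option.some.injEq] at h
    rw [← h]
  | (pos, r, b) :: rest, w, acc, res, h => by
    simp only [Cert.run] at h
    split_ifs at h with hb hL hL
    all_goals
      obtain ⟨hr, hL⟩ := hL
      rw [← run_spec hx y hy rest _ _ res h, evE_xE, S.n_add, val_append, val_append]
      rw [mul_assoc (S.n (evE y c.width acc)), ← mul_assoc (S.n (evE y c.width (c.actW _ (unitE r)))),
        ← mul_assoc (S.n (evE y c.width (c.actW _ (unitE r)))), ← S.val_mul_n hx]
    · have e : S.n (evE y c.width (unitE r)) * val x (c.rules.getD r ([], [])).1 =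
          val x (c.rules.getD r ([], [])).2 := by
        rw [hy r hr, ← mul_assoc, S.n_mul_self, one_mul]
      conv_lhs => rw [← List.take_append_drop pos w, ← List.take_append_drop _ (w.drop pos), hL, val_append, val_append]
      rw [mul_assoc (val x (w.take pos)), e, mul_assoc (val x (w.take pos))]
    · conv_lhs => rw [← List.take_append_drop pos w, ← List.take_append_drop _ (w.drop pos), hL, val_append, val_append, hy r hr]
      simp only [mul_assoc]

/-- The lift with changed sign. -/
def shifted (x : ℕ → E) (y : ℕ → ZMod 2) (i : ℕ) : E := S.n (evE y c.width (c.gauge.getD i [])) * x i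

theorem tab_shifted {x : ℕ → E} (hx : ∀ i, Tab (S.π (x i) : Equiv.Perm GolayPt) (c.tab i))
    (y : ℕ → ZMod 2) (i : ℕ) : Tab (S.π (S.shifted x y i) : Equiv.Perm GolayPt) (c.tab i) := by
  rw [shifted, map_mul, (S.mem_ker _).2 ⟨_, rfl⟩, one_mul]
  exact hx i

theorem val_shifted {x : ℕ → E} (hx : ∀ i, Tab (S.π (x i) : Equiv.Perm GolayPt) (c.tab i))
    (y : ℕ → ZMod 2) : ∀ w : List ℕ,
    val (S.shifted x y) w = S.n (evE y c.width (c.dvE w)) * val x w
  | [] => by rw [val, val, Cert.dvE, evE_nil, S.n_zero, one_mul]
  | i :: w => by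
    rw [val, val, Cert.dvE, evE_xE, S.n_add, val_shifted hx y w, shifted, evE_actM, mul_assoc,
      ← mul_assoc (x i), S.conj_any i _ (hx i)]
    simp only [mul_assoc]

theorem combo_ev (y : ℕ → ZMod 2) (U : ℕ) : ∀ (L : List ℕ) (m : ℕ), (∀ a ∈ L, ev y U a = 0) →
    ev y U (combo m L) = 0
  | [], m, _ => by rw [combo, ev_zero]
  | a :: L, m, h => by
    rw [combo, ev_xor, combo_ev y U L _ fun b hb => h b (List.mem_cons_of_mem _ hb), add_zero]
    split
    · exact h a List.mem_cons_self
    · exact ev_zero _ _

theorem mem_of_mem_pick : ∀ (L : List ℕ) (m a : ℕ), a ∈ pick m L → a ∈ L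
  | [], m, a, h => by rw [pick] at h; exact h
  | b :: L, m, a, h => by
    rw [pick] at h
    split at h
    · rcases List.mem_cons.1 h with h | h
      · exact h ▸ List.mem_cons_self
      · exact List.mem_cons_of_mem _ (mem_of_mem_pick L _ a h)
    · exact List.mem_cons_of_mem _ (mem_of_mem_pick L _ a h)

theorem exists_lifts (h : c.okTabs = true) :
    ∃ x : ℕ → E, ∀ i, Tab (S.π (x i) : Equiv.Perm GolayPt) (c.tab i) := by
  have : ∀ i, ∃ x : E, Tab (S.π x : Equiv.Perm GolayPt) (c.tab i) := by
    intro i
    simp only [Cert.okTabs, Bool.and_eq_true, List.all_eq_true, beq_iff_eq] at h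
    rcases lt_or_ge i c.tabs.length with hi | hi
    · obtain ⟨⟨hp, hc⟩, h23⟩ := h.1 _ (List.getElem_mem hi)
      obtain ⟨e, he⟩ := S.surj ⟨permOf _ hp, by
        rw [M23_eq, mem_fixUpTo]
        refine ⟨(tab_permOf hp).mem_M24 hc, fun j hj => ?_⟩
        obtain rfl : j = 0 := by omega
        rw [show bp 0 = pt 23 from rfl]
        exact (tab_permOf hp).apply_pt (by norm_num) h23⟩
      refine ⟨e, ?_⟩
      rw [he, Cert.tab, List.getD_eq_getElem _ _ hi]
      exact tab_permOf hp
    · refine ⟨1, ?_⟩
      rw [Cert.tab, List.getD_eq_default _ _ hi, map_one]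
      exact tab_one
  choose x hx using this
  exact ⟨x, hx⟩

/-- The class of the vector in `vs`. -/
def vvec (c : Cert) (r : ℕ) : V := fun k => if (c.vs.getD r 0).testBit k then 1 else 0

/-- The main consequence of a certificate: lifts satisfying the normalised relations. -/
theorem normalise (hlen : 28 ≤ c.rules.length) (h1 : c.okTabs = true) (h2 : c.okRows = true)
    (h3 : c.okTargets = true) : ∃ z : ℕ → E, (∀ i, Tab (S.π (z i) : Equiv.Perm GolayPt) (c.tab i)) ∧
      ∃ s : ZMod 2, ∀ r < 28, val z (c.rules.getD r ([], [])).1 =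
        S.n (s • vvec c r) * val z (c.rules.getD r ([], [])).2 := by
  obtain ⟨x, hx⟩ := S.exists_lifts h1
  have hu : ∀ r, ∃ u : V, r < c.rules.length →
      val x (c.rules.getD r ([], [])).1 = S.n u * val x (c.rules.getD r ([], [])).2 := by
    intro r
    by_cases hr : r < c.rules.length
    · simp only [Cert.okTabs, Bool.and_eq_true, List.all_eq_true, beq_iff_eq] at h1
      have e := h1.2 _ (List.getElem_mem hr)
      rw [← List.getD_eq_getElem _ ([], []) hr] at e
      have hπ : S.π (val x (c.rules.getD r ([], [])).1 * (val x (c.rules.getD r ([], [])).2)⁻¹) = 1 := by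
        rw [map_mul, map_inv, mul_inv_eq_one]
        exact Subtype.ext (tab_unique (S.tab_val hx _) (e ▸ S.tab_val hx _))
      obtain ⟨u, hu⟩ := (S.mem_ker _).1 hπ
      exact ⟨u, fun _ => by rw [hu, inv_mul_cancel_right]⟩
    · exact ⟨0, fun h => absurd h hr⟩
  choose u hu using hu
  let y : ℕ → ZMod 2 := fun i => getV (u (i / 11)) (i % 11)
  have hy1 : ∀ r < c.rules.length, evE y c.width (unitE r) = u r := by
    intro r hr
    funext k
    rw [evE, unitE, getD_map_range_zero _ k.2, ev_two_pow y (by have := k.2; simp only [Cert.width]; omega)]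
    have e1 : (11 * r + k.val) / 11 = r := by have := k.2; omega
    have e2 : (11 * r + k.val) % 11 = k.val := by have := k.2; omega
    simp [y, e1, e2, getV, k.2]
  have hy : ∀ r < c.rules.length, val x (c.rules.getD r ([], [])).1 =
      S.n (evE y c.width (unitE r)) * val x (c.rules.getD r ([], [])).2 := fun r hr => by
    rw [hy1 r hr]; exact hu r hr
  have hrows : ∀ a ∈ c.rows, ev y c.width a = 0 := by
    intro a ha
    rw [Cert.okRows, beq_iff_eq] at h2
    rw [← h2] at ha
    obtain ⟨L, hL, haL⟩ := List.mem_flatten.1 (mem_of_mem_pick _ _ _ ha)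
    obtain ⟨d, -, rfl⟩ := List.mem_map.1 hL
    unfold Cert.eqRows at haL
    split at haL
    · rename_i A w B w' eA eB
      split at haL
      · rename_i hw
        subst hw
        have e1 := S.run_spec hx y hy _ _ _ _ eA
        have e2 := S.run_spec hx y hy _ _ _ _ eB
        rw [evE_nil, S.n_zero, one_mul] at e1 e2
        have e3 := mul_right_cancel (e1.symm.trans e2)
        have e4 := S.n_inj e3
        obtain ⟨k, hk, rfl⟩ := List.mem_map.1 haL
        rw [List.mem_range] at hk
        rw [ev_xor]
        show evE y c.width A ⟨k, hk⟩ + evE y c.width B ⟨k, hk⟩ = 0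
        rw [e4]
        exact (show ∀ u : ZMod 2, u + u = 0 by decide) _
      · simp at haL
    · simp at haL
  refine ⟨S.shifted x y, S.tab_shifted hx y, ev y c.width c.lam, fun r hr => ?_⟩
  have hr' : r < c.rules.length := lt_of_lt_of_le hr hlen
  have ht : evE y c.width (c.target r) = 0 := by
    funext k
    simp only [Cert.okTargets, List.all_eq_true, List.mem_range, beq_iff_eq] at h3
    rw [evE, ← h3 r hr k k.2]
    exact combo_ev y _ _ _ hrows
  rw [Cert.target, evE_xE, evE_xE, evE_xE] at ht
  have hl : evE y c.width ((List.range 11).map fun k => if (c.vs.getD r 0).testBit k then c.lam else 0) =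
      ev y c.width c.lam • vvec c r := by
    funext k
    rw [evE, getD_map_range_zero _ k.2, Pi.smul_apply, vvec, smul_eq_mul]
    split
    · rw [mul_one]
    · rw [mul_zero, ev_zero]
  rw [hl] at ht
  have key : evE y c.width (c.dvE (c.rules.getD r ([], [])).1) + evE y c.width (unitE r) =
      ev y c.width c.lam • vvec c r + evE y c.width (c.dvE (c.rules.getD r ([], [])).2) := by
    have h4 : ∀ a b d e : V, a + (b + d) + e = 0 → b + a = e + d := by
      intro a b d e h
      funext i
      exact (show ∀ a b d e : ZMod 2, a + (b + d) + e = 0 → b + a = e + d by decide) _ _ _ _ (congrFun h i)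
    exact h4 _ _ _ _ ht
  rw [S.val_shifted hx, S.val_shifted hx, hy r hr', ← mul_assoc, ← mul_assoc, ← S.n_add, ← S.n_add, key]

/-- Subgroup generated by a normalising element whose square lies inside. -/
theorem card_step [Finite E] (A : Subgroup E) (x : E) (h : ∀ a ∈ A, x * a * x⁻¹ ∈ A) (h2 : x * x ∈ A) :
    ∃ B : Subgroup E, A ≤ B ∧ x ∈ B ∧ Nat.card B ≤ 2 * Nat.card A ∧ B ≤ A ⊔ Subgroup.zpowers x := by
  classical
  have hinv : ∀ a ∈ A, x⁻¹ * a * x ∈ A := fun a ha => by
    have : x⁻¹ * a * x = (x * x)⁻¹ * (x * a * x⁻¹) * (x * x) := by group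
    rw [this]
    exact mul_mem (mul_mem (inv_mem h2) (h a ha)) h2
  let B : Subgroup E :=
    { carrier := {g | g ∈ A ∨ g * x⁻¹ ∈ A}
      one_mem' := Or.inl (one_mem A)
      mul_mem' := by
        rintro g g' (hg | hg) (hg' | hg')
        · exact Or.inl (mul_mem hg hg')
        · exact Or.inr (by rw [mul_assoc]; exact mul_mem hg hg')
        · refine Or.inr ?_
          have : g * g' * x⁻¹ = (g * x⁻¹) * (x * g' * x⁻¹) := by group
          rw [this]; exact mul_mem hg (h _ hg')
        · refine Or.inl ?_
          have : g * g' = (g * x⁻¹) * (x * (g' * x⁻¹) * x⁻¹) * (x * x) := by group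
          rw [this]; exact mul_mem (mul_mem hg (h _ hg')) h2
      inv_mem' := by
        rintro g (hg | hg)
        · exact Or.inl (inv_mem hg)
        · refine Or.inr ?_
          have : g⁻¹ * x⁻¹ = (x⁻¹ * (g * x⁻¹)⁻¹ * x) * (x * x)⁻¹ := by group
          rw [this]; exact mul_mem (hinv _ (inv_mem hg)) (inv_mem h2) }
  refine ⟨B, fun a ha => Or.inl ha, Or.inr (by rw [mul_inv_cancel]; exact one_mem A), ?_, ?_⟩
  · let f : B → Bool × A := fun g =>
      if hg : (g : E) ∈ A then (true, ⟨g, hg⟩) else (false, ⟨g * x⁻¹, g.2.resolve_left hg⟩)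
    have hf : Function.Injective f := by
      intro g g' e
      simp only [f] at e
      split at e <;> split at e <;> simp at e
      · exact e
      · exact e
    have := Nat.card_le_card_of_injective f hf
    rwa [Nat.card_prod, Nat.card_eq_fintype_card (α := Bool), Fintype.card_bool] at this
  · rintro g (hg | hg)
    · exact Subgroup.mem_sup_left hg
    · rw [show g = (g * x⁻¹) * x by group]
      exact mul_mem (Subgroup.mem_sup_left hg) (Subgroup.mem_sup_right (Subgroup.mem_zpowers x))

/-- Trivial relations give a complement. -/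
theorem exists_complement [Finite E] (hpc : c.okPc = true) {z : ℕ → E}
    (hz : ∀ i, Tab (S.π (z i) : Equiv.Perm GolayPt) (c.tab i))
    (hrel : ∀ r < 28, val z (c.rules.getD r ([], [])).1 = val z (c.rules.getD r ([], [])).2) :
    ∃ H : Subgroup E, Subgroup.IsComplement' S.π.ker H := by
  classical
  simp only [Cert.okPc, Bool.and_eq_true, List.all_eq_true, List.mem_range, decide_eq_true_eq,
    beq_iff_eq] at hpc
  obtain ⟨⟨hpc, -, hnd, hl128⟩, hl24⟩ := hpc
  let A : ℕ → Subgroup E := fun k => Subgroup.closure (z '' {i | i < k})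
  have hmem : ∀ {k i}, i < k → z i ∈ A k := fun h => Subgroup.subset_closure ⟨_, h, rfl⟩
  have hval : ∀ k (w : List ℕ), (∀ u ∈ w, u < k) → val z w ∈ A k := by
    intro k w
    induction w with
    | nil => exact fun _ => one_mem _
    | cons i w ih =>
      exact fun h => mul_mem (hmem (h i List.mem_cons_self)) (ih fun u hu => h u (List.mem_cons_of_mem _ hu))
  have hcard : ∀ k ≤ 7, Nat.card (A k) ≤ 2 ^ k := by
    intro k
    induction k with
    | zero => intro _; simp [A]
    | succ k ih =>
      intro hk
      obtain ⟨⟨hsq, hsq'⟩, hcomm⟩ := hpc k (by omega)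
      have h2 : z k * z k ∈ A k := by
        have := hrel k (by omega)
        rw [hsq, val, val, val, mul_one] at this
        rw [this]
        exact hval k _ hsq'
      have hc : ∀ a ∈ A k, z k * a * (z k)⁻¹ ∈ A k := by
        intro a ha
        induction ha using Subgroup.closure_induction with
        | mem a ha =>
          obtain ⟨i, hi, rfl⟩ := ha
          obtain ⟨⟨h1, h3⟩, h4⟩ := hcomm i hi
          have hb : 7 + k * (k - 1) / 2 + i < 28 := by
            have hi' : i < k := hi
            have hk7 : k < 7 := by omega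
            interval_cases k <;> omega
          have := hrel _ hb
          obtain ⟨w, hw⟩ : ∃ w, (c.rules.getD (7 + k * (k - 1) / 2 + i) ([], [])).2 = w := ⟨_, rfl⟩
          rw [hw] at this h3 h4
          have hne : w ≠ [] := by rintro rfl; simp at h3
          rw [List.getLast?_eq_some_getLast hne, Option.some.injEq] at h3
          rw [h1, ← List.dropLast_append_getLast hne, h3, val_append] at this
          simp only [val, mul_one] at this
          rw [this, mul_assoc, mul_inv_cancel, mul_one]
          exact hval k _ h4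
        | one => simp
        | mul a b _ _ ha hb =>
          rw [show z k * (a * b) * (z k)⁻¹ = (z k * a * (z k)⁻¹) * (z k * b * (z k)⁻¹) by group]
          exact mul_mem ha hb
        | inv a _ ha =>
          rw [show z k * a⁻¹ * (z k)⁻¹ = (z k * a * (z k)⁻¹)⁻¹ by group]
          exact inv_mem ha
      obtain ⟨B, hAB, hxB, hB, -⟩ := card_step (A k) (z k) hc h2
      have hle : A (k + 1) ≤ B := by
        rw [Subgroup.closure_le]
        rintro _ ⟨i, hi, rfl⟩
        rcases Nat.lt_succ_iff_lt_or_eq.1 hi with h | rfl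
        · exact hAB (hmem h)
        · exact hxB
      calc Nat.card (A (k + 1)) ≤ Nat.card B := Nat.card_le_card_of_injective _ (Subgroup.inclusion_injective hle)
        _ ≤ 2 * Nat.card (A k) := hB
        _ ≤ 2 ^ (k + 1) := by rw [pow_succ']; exact Nat.mul_le_mul_left 2 (ih (by omega))
  -- the image
  have hT : ∀ t ∈ c.tabs.take 7, ∃ g ∈ (A 7).map S.π, Tab g.1 t := by
    intro t ht
    obtain ⟨i, hi, rfl⟩ := List.getElem_of_mem ht
    rw [List.length_take] at hi
    refine ⟨S.π (z i), ⟨z i, hmem (by omega), rfl⟩, ?_⟩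
    rw [List.getElem_take]
    have := hz i
    rwa [Cert.tab, List.getD_eq_getElem _ _ (by omega)] at this
  have hex : ∀ e : {e // e ∈ Mult.allProd (c.tabs.take 7)}, ∃ g : (A 7).map S.π, Tab g.1.1 e.1 := fun e => by
    obtain ⟨g, hg, hge⟩ := Mult.allProd_mem ((A 7).map S.π) _ hT e.1 e.2
    exact ⟨⟨g, hg⟩, hge⟩
  choose f hf using hex
  have hfinj : Function.Injective f := fun a b hab =>
    Subtype.ext (Mult.tab_getD_eq (hab ▸ hf a) (hf b) (hl24 _ a.2) (hl24 _ b.2))
  have h128 : 128 ≤ Nat.card ((A 7).map S.π) := by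
    refine le_trans (le_of_eq ?_) (Nat.card_le_card_of_injective f hfinj)
    rw [Nat.card_eq_fintype_card, Fintype.card_of_subtype
      (Mult.allProd (c.tabs.take 7)).toFinset (fun e => List.mem_toFinset), List.toFinset_card_of_nodup hnd, hl128]
  let g : A 7 → (A 7).map S.π := fun a => ⟨S.π a, a, a.2, rfl⟩
  have hg : Function.Surjective g := by
    rintro ⟨_, a, ha, rfl⟩; exact ⟨⟨a, ha⟩, rfl⟩
  have hle := Nat.card_le_card_of_surjective g hg
  have h7 := hcard 7 le_rfl
  have h128' : Nat.card ((A 7).map S.π) = 128 := by omega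
  have hbij : Function.Bijective g := hg.bijective_of_nat_card_le (by omega)
  have hdisj : A 7 ⊓ S.π.ker = ⊥ := by
    rw [Subgroup.eq_bot_iff_forall]
    rintro a ⟨ha, hk⟩
    have : g ⟨a, ha⟩ = g ⟨1, one_mem _⟩ := Subtype.ext (by show S.π a = S.π 1; rw [map_one]; exact hk)
    exact congrArg Subtype.val (hbij.1 this)
  haveI : IsMulCommutative S.π.ker := ⟨⟨fun a b => by
    obtain ⟨u, hu⟩ := (S.mem_ker a).1 a.2
    obtain ⟨v, hv⟩ := (S.mem_ker b).1 b.2
    exact Subtype.ext (by rw [Subgroup.coe_mul, Subgroup.coe_mul, ← hu, ← hv, ← S.n_add, ← S.n_add, add_comm])⟩⟩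
  have hN : Nat.card S.π.ker = 2 ^ 11 := by
    let e : V ≃ S.π.ker := Equiv.ofBijective (fun v => ⟨S.n v, (S.mem_ker _).2 ⟨v, rfl⟩⟩)
      ⟨fun a b h => S.n_inj (congrArg Subtype.val h), fun a => by
        obtain ⟨v, hv⟩ := (S.mem_ker a).1 a.2
        exact ⟨v, Subtype.ext hv⟩⟩
    rw [← Nat.card_congr e]
    simp [Nat.card_eq_fintype_card]
  have hcop : (Nat.card S.π.ker).Coprime (((A 7).map S.π).comap S.π).index := by
    rw [Subgroup.index_comap_of_surjective _ S.surj, hN]
    refine Nat.Coprime.pow_left 11 ?_
    have h := Subgroup.card_mul_index ((A 7).map S.π)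
    rw [h128', card_M23] at h
    have : ((A 7).map S.π).index = 79695 := by omega
    rw [this]
    norm_num
  exact Cfsg.Agent.Frobenius.gaschuetz_exists S.π.ker _ (fun a ha => by
      rw [Subgroup.mem_comap, MonoidHom.mem_ker.1 ha]; exact one_mem _) hcop (A 7)
    (fun a ha => ⟨a, ha, rfl⟩) hdisj
    (le_antisymm (sup_le (fun a ha => by rw [Subgroup.mem_comap, MonoidHom.mem_ker.1 ha]; exact one_mem _)
        (fun a ha => ⟨a, ha, rfl⟩))
      (fun b hb => by
        obtain ⟨a, ha, hab⟩ := hb
        rw [show b = b * a⁻¹ * a by group]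
        exact mul_mem (Subgroup.mem_sup_left (by rw [MonoidHom.mem_ker, map_mul, map_inv, hab, mul_inv_cancel]))
          (Subgroup.mem_sup_right ha)))

end Setting

end Cfsg.Agent.Forms59.ExtCert
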