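import Cfsg.Agent.Forms59.ExtCert

/-!
The two eleven-dimensional modules of M23 in coordinates, and comparison of two extensions.
-/

set_option autoImplicit false

namespace Cfsg.Agent.Forms59.ExtCert

open Cfsg.Agent.Golay Cfsg.Spor
open scoped Pointwise

/-- The vector with given bits. -/
def vOf (m : ℕ) : V := fun k => if m.testBit k.val then 1 else 0

theorem exists_vOf (v : V) : ∃ m < 2048, vOf m = v := by
  refine ⟨Nat.ofBits fun k => decide (v k = 1), Nat.ofBits_lt_two_pow _, funext fun k => ?_⟩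
  rw [vOf, Nat.testBit_ofBits_lt _ _ k.2]
  rcases (show ∀ u : ZMod 2, u = 0 ∨ u = 1 by decide) (v k) with h | h <;> simp [h]

/-- The word with given coordinates. -/
def wordOf (BW : List ℕ) (v : V) : GolayPt → ZMod 2 := ∑ k : Fin 11, v k • toWord (BW.getD k.val 0)

theorem wordOf_add (BW : List ℕ) (u v : V) : wordOf BW (u + v) = wordOf BW u + wordOf BW v := by
  simp [wordOf, add_smul, Finset.sum_add_distrib]

theorem sum_eq_combAux : ∀ (L : List ℕ) (m : ℕ),
    (∑ k : Fin L.length, (if m.testBit k.val then (1 : ZMod 2) else 0) • toWord (L.getD k.val 0)) =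
      toWord (combAux L m)
  | [], m => by simp [combAux, toWord_zero]
  | b :: L, m => by
    rw [combAux, toWord_xor, ← sum_eq_combAux L (m / 2), List.length_cons, Fin.sum_univ_succ]
    congr 1
    · simp only [Fin.val_zero, List.getD_cons_zero]
      by_cases h : m.testBit 0 <;>
        simp only [h, ↓reduceIte, one_smul, zero_smul, toWord_zero, Bool.false_eq_true]
    · refine Finset.sum_congr rfl fun k _ => ?_
      simp only [Fin.val_succ, List.getD_cons_succ, Nat.testBit_succ]

theorem wordOf_vOf {BW : List ℕ} (hBW : BW.length = 11) (m : ℕ) : wordOf BW (vOf m) = toWord (combAux BW m) := by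
  rw [← sum_eq_combAux, wordOf]
  exact (Fintype.sum_equiv (finCongr hBW.symm) _ _ fun k => rfl)

theorem wordOf_single (BW : List ℕ) (k : Fin 11) : wordOf BW (Pi.single k 1) = toWord (BW.getD k.val 0) := by
  simp [wordOf, Pi.single_apply]

/-- A column of a matrix as a mask. -/
def colN (M : List (List ℕ)) (k : Fin 11) : ℕ :=
  Nat.ofBits fun i : Fin 11 => decide (app M (Pi.single k 1) i = 1)

theorem vOf_colN (M : List (List ℕ)) (k : Fin 11) : vOf (colN M k) = app M (Pi.single k 1) := by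
  funext i
  rw [vOf, colN, Nat.testBit_ofBits_lt _ _ i.2]
  rcases (show ∀ u : ZMod 2, u = 0 ∨ u = 1 by decide) (app M (Pi.single k 1) i) with h | h <;> simp [h]

theorem getV_add (u v : V) (k : ℕ) : getV (u + v) k = getV u k + getV v k := by
  unfold getV; split <;> simp

theorem app_add (M : List (List ℕ)) (u v : V) : app M (u + v) = app M u + app M v := by
  funext i
  simp only [app, Pi.add_apply]
  induction M.getD i.val [] with
  | nil => simp
  | cons a l ih =>
    simp only [List.map_cons, List.sum_cons, ih, getV_add]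
    ring

theorem app_zero (M : List (List ℕ)) : app M 0 = 0 := by
  have := app_add M 0 0
  rwa [add_zero, right_eq_add] at this

/-- Conjugation determined on the unit vectors. -/
theorem conj_of_basis {E : Type*} [Group E] (n : V → E) (h0 : ∀ u v, n (u + v) = n u * n v) (x : E)
    (M : List (List ℕ)) (hb : ∀ k : Fin 11, x * n (Pi.single k 1) * x⁻¹ = n (app M (Pi.single k 1))) (v : V) :
    x * n v * x⁻¹ = n (app M v) := by
  have hz : n 0 = 1 := by
    have := h0 0 0
    rwa [add_zero, left_eq_mul] at this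
  have hv : v = ∑ k, Pi.single k (v k) := (Finset.univ_sum_single v).symm
  rw [hv]
  refine Finset.sum_induction _ (fun w => x * n w * x⁻¹ = n (app M w)) ?_ ?_ fun k _ => ?_
  · intro a b ha hb'
    rw [app_add, h0, h0, ← ha, ← hb']
    group
  · rw [app_zero, hz]; group
  · rcases (show ∀ u : ZMod 2, u = 0 ∨ u = 1 by decide) (v k) with h | h
    · rw [h, Pi.single_zero, app_zero, hz]; group
    · rw [h]; exact hb k

/-- A list of pairs covering all letters. -/
theorem pair_cases (c : Cert) (i : ℕ) (hlen : c.mats.length = c.tabs.length) :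
    (c.tab i, c.mat i) ∈ (idTab, idMat) :: c.tabs.zip c.mats := by
  rcases lt_or_ge i c.tabs.length with hi | hi
  · refine List.mem_cons_of_mem _ (List.mem_iff_getElem.2 ⟨i, by simp [hlen, hi], ?_⟩)
    rw [List.getElem_zip, Cert.tab, Cert.mat, List.getD_eq_getElem _ _ hi,
      List.getD_eq_getElem _ _ (hlen ▸ hi)]
  · rw [Cert.tab, Cert.mat, List.getD_eq_default _ _ hi, List.getD_eq_default _ _ (hlen ▸ hi)]
    exact List.mem_cons_self

theorem toWord_comp_symm {σ : Equiv.Perm GolayPt} {l : List ℕ} (h : Tab σ l) {a b : ℕ}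
    (hm : maps l a b = true) : toWord a ∘ σ.symm = toWord b := by
  funext p
  have := h.mem_image_iff hm (σ.symm p)
  rw [Equiv.apply_symm_apply] at this
  simp only [Function.comp_apply, toWord, this]

/-! ### The code module -/

/-- Information bits of a basis of the code words vanishing at the extra point. -/
def codeBits : List ℕ := [2049, 1025, 512, 256, 128, 65, 33, 17, 8, 5, 2]

/-- That basis. -/
def codeBW : List ℕ := codeBits.map comb

/-- Coordinates of such a word. -/
def codeCoords (m : ℕ) : ℕ :=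
  ((List.range 11).foldl (fun (s : ℕ × ℕ) k =>
    if s.1.testBit (11 - k) then (s.1 ^^^ codeBits.getD k 0, s.2 ||| 2 ^ k) else s) (m, 0)).2

/-- The check for matrices on the code module. -/
def okCodeMat (p : List ℕ × List (List ℕ)) : Bool :=
  (List.finRange 11).all fun k => maps p.1 (codeBW.getD k.val 0) (combAux codeBW (colN p.2 k))

set_option maxRecDepth 40000 in
theorem code_facts : (∀ m : Fin 4096, (comb m.val).testBit 23 = false → combAux codeBW (codeCoords m.val) = comb m.val) ∧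
    (∀ m : Fin 2048, combAux codeBW m.val = 0 → m.val = 0) ∧ (∀ m : Fin 2048, combAux codeBW m.val < 2 ^ 24) ∧
    (codeBW.all fun b => inCode b && !b.testBit 23) = true := by
  decide +kernel

theorem code_wordOf_mem (v : V) : wordOf codeBW v ∈ golayCode ∧ wordOf codeBW v none = 0 := by
  have hb : ∀ k : Fin 11, inCode (codeBW.getD k.val 0) = true ∧ (codeBW.getD k.val 0).testBit 23 = false := fun k => by
    have := List.all_eq_true.1 code_facts.2.2.2 (codeBW.getD k.val 0) (by
      rw [List.getD_eq_getElem _ _ (show k.val < codeBW.length from k.2)]; exact List.getElem_mem _)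
    simpa using this
  refine ⟨Submodule.sum_mem _ fun k _ => Submodule.smul_mem _ _ (toWord_mem_of_inCode (hb k).1), ?_⟩
  rw [wordOf, Finset.sum_apply]
  refine Finset.sum_eq_zero fun k _ => ?_
  have : toWord (codeBW.getD k.val 0) none = 0 := by
    rw [toWord]; exact if_neg (by rw [show idx none = 23 from rfl, (hb k).2]; simp)
  rw [Pi.smul_apply, this, smul_zero]

theorem toWord_eq_zero {n : ℕ} (hn : n < 2 ^ 24) (h : toWord n = 0) : n = 0 := by
  refine toSet_injOn hn (by norm_num) ?_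
  rw [← support₂_toWord, ← support₂_toWord, h, toWord_zero]

theorem exists_code_setting {E : Type*} [Group E] (N : Subgroup E) [hN : N.Normal]
    (φ : E ⧸ N ≃* ↥M23) (ψ : Additive ↥N →+ (GolayPt → ZMod 2)) (hinj : Function.Injective ψ)
    (hrange : ∀ w : GolayPt → ZMod 2, w ∈ Set.range ψ ↔ (w ∈ golayCode ∧ w none = 0))
    (hψ : ∀ (g : E) (n : ↥N),
      ψ (Additive.ofMul ⟨g * n * g⁻¹, hN.conj_mem n n.2 g⟩)
        = ψ (Additive.ofMul n) ∘ ⇑(((φ (QuotientGroup.mk g) : ↥M23) : Equiv.Perm GolayPt)⁻¹))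
    (c : Cert) (hlen : c.mats.length = c.tabs.length)
    (hok : ((idTab, idMat) :: c.tabs.zip c.mats).all okCodeMat = true) :
    ∃ S : Setting c E, S.π.ker = N := by
  have hex : ∀ v : V, ∃ a : N, ψ (Additive.ofMul a) = wordOf codeBW v := fun v => by
    obtain ⟨a, ha⟩ := (hrange _).2 (code_wordOf_mem v)
    exact ⟨a.toMul, ha⟩
  choose n hn using hex
  have hadd : ∀ u v, n (u + v) = n u * n v := fun u v => by
    refine Additive.ofMul.injective (hinj ?_)
    rw [hn, ofMul_mul, map_add, hn, hn, wordOf_add]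
  let π : E →* M23 := φ.toMonoidHom.comp (QuotientGroup.mk' N)
  have hker : π.ker = N := by
    rw [MonoidHom.ker_comp_of_injective _ _ φ.injective, QuotientGroup.ker_mk']
  refine ⟨{ π := π, surj := fun y => ?_, n := fun v => (n v : E), n_add := fun u v => by rw [hadd]; rfl,
            n_inj := fun u v h => ?_, mem_ker := fun x => ⟨fun hx => ?_, ?_⟩, conj := fun i x hx => ?_ }, hker⟩
  · obtain ⟨g, hg⟩ := QuotientGroup.mk_surjective (φ.symm y)
    exact ⟨g, by show φ (QuotientGroup.mk g) = y; rw [hg, MulEquiv.apply_symm_apply]⟩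
  · have h1 : wordOf codeBW u = wordOf codeBW v := by rw [← hn, ← hn, Subtype.ext h]
    have h2 : wordOf codeBW (u + v) = 0 := by
      rw [wordOf_add, h1]; funext p; exact (show ∀ a : ZMod 2, a + a = 0 by decide) _
    obtain ⟨m, hm, hmv⟩ := exists_vOf (u + v)
    rw [← hmv, wordOf_vOf (BW := codeBW) rfl] at h2
    have h3 := code_facts.2.1 ⟨m, hm⟩ (toWord_eq_zero (code_facts.2.2.1 ⟨m, hm⟩) h2)
    simp only at h3
    subst h3
    funext k
    have := congrFun hmv k
    simp [vOf] at this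
    exact (show ∀ a b : ZMod 2, 0 = a + b → a = b by decide) _ _ this
  · have hxN : x ∈ N := hker ▸ hx
    obtain ⟨hw, hw0⟩ := (hrange _).1 ⟨Additive.ofMul ⟨x, hxN⟩, rfl⟩
    obtain ⟨m, hm, hmw⟩ := mem_golayCode_iff.1 hw
    have hbit : (comb m).testBit 23 = false := by
      rw [← hmw] at hw0
      by_contra h
      rw [Bool.not_eq_false] at h
      simp [toWord, show idx none = 23 from rfl, h] at hw0
    refine ⟨vOf (codeCoords m), ?_⟩
    have : n (vOf (codeCoords m)) = ⟨x, hxN⟩ := Additive.ofMul.injective (hinj (by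
      rw [hn, wordOf_vOf (BW := codeBW) rfl, code_facts.1 ⟨m, hm⟩ hbit, hmw]))
    exact congrArg Subtype.val this
  · rintro ⟨v, rfl⟩
    exact (MonoidHom.mem_ker).1 (hker.symm ▸ (n v).2)
  · refine conj_of_basis (fun v => (n v : E)) (fun u v => by rw [hadd]; rfl) x _ fun k => ?_
    have h1 := List.all_eq_true.1 hok _ (pair_cases c i hlen)
    simp only [okCodeMat, List.all_eq_true] at h1
    have h2 := h1 k (List.mem_finRange k)
    have key : (⟨x * n (Pi.single k 1) * x⁻¹, hN.conj_mem _ (n _).2 x⟩ : N) = n (app (c.mat i) (Pi.single k 1)) := by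
      refine Additive.ofMul.injective (hinj ?_)
      rw [hψ, hn, hn, ← vOf_colN, wordOf_vOf (BW := codeBW) rfl, wordOf_single, Equiv.Perm.coe_inv]
      exact toWord_comp_symm hx h2
    exact congrArg Subtype.val key

/-! ### The cocode module -/

/-- Representatives of a basis of the cocode module. -/
def cocBW : List ℕ := (List.range 11).map fun k => 2 ^ (12 + k)

/-- The word vanishes in the cocode module. -/
def cocZero (d : ℕ) : Bool := inCode d || inCode (d ^^^ 8388608)

/-- Coordinates of the single points. -/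
def cocSingle : List ℕ := [1141, 1183, 1355, 1763, 435, 870, 1740, 493, 986, 1972, 797, 1594, 1, 2, 4, 8, 16, 32, 64, 128, 256, 512, 1024, 0]

/-- The check for matrices on the cocode module. -/
def okCocMat (p : List ℕ × List (List ℕ)) : Bool :=
  (List.finRange 11).all fun k =>
    maps p.1 (cocBW.getD k.val 0) (imgN p.1 (cocBW.getD k.val 0)) &&
      cocZero (imgN p.1 (cocBW.getD k.val 0) ^^^ combAux cocBW (colN p.2 k))

set_option maxRecDepth 40000 in
theorem coc_facts : (∀ i : Fin 24, cocZero (2 ^ i.val ^^^ combAux cocBW (cocSingle.getD i.val 0)) = true) ∧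
    (∀ m : Fin 2048, cocZero (combAux cocBW m.val) = true → m.val = 0) ∧
    (∀ m : Fin 2048, combAux cocBW m.val < 2 ^ 24) := by
  decide +kernel

theorem toWord_two_pow (p : GolayPt) : toWord (2 ^ idx p) = Pi.single p 1 := by
  funext q
  by_cases h : q = p
  · subst h; simp [toWord, Nat.testBit_two_pow]
  · have : idx p ≠ idx q := fun e => h (idx_injective e).symm
    simp [toWord, Nat.testBit_two_pow, this, h]

theorem toWord_inj {a b : ℕ} (ha : a < 2 ^ 24) (hb : b < 2 ^ 24) (h : toWord a = toWord b) : a = b :=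
  toSet_injOn ha hb (by rw [← support₂_toWord, ← support₂_toWord, h])

theorem inCode_of_mem {n : ℕ} (hn : n < 2 ^ 24) (h : toWord n ∈ golayCode) : inCode n = true := by
  obtain ⟨m, hm, hmw⟩ := mem_golayCode_iff.1 h
  rw [← toWord_inj (comb_lt hm) hn hmw]
  exact inCode_comb hm

theorem toWord_delta : toWord 8388608 = Pi.single (none : GolayPt) 1 := toWord_two_pow none

theorem cocZero_iff {n : ℕ} (hn : n < 2 ^ 24) :
    cocZero n = true ↔ (toWord n ∈ golayCode ∨ toWord n + Pi.single none 1 ∈ golayCode) := by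
  rw [cocZero, Bool.or_eq_true, ← toWord_delta, ← toWord_xor]
  exact or_congr ⟨toWord_mem_of_inCode, inCode_of_mem hn⟩
    ⟨toWord_mem_of_inCode, inCode_of_mem (Nat.xor_lt_two_pow hn (by norm_num))⟩

theorem cocZero_mem {n : ℕ} (h : cocZero n = true) :
    toWord n ∈ golayCode ∨ toWord n + Pi.single none 1 ∈ golayCode := by
  rw [cocZero, Bool.or_eq_true] at h
  rw [← toWord_delta, ← toWord_xor]
  exact h.imp toWord_mem_of_inCode toWord_mem_of_inCode

variable {E : Type*} [Group E] {N : Subgroup E} (θ : (GolayPt → ZMod 2) →+ Additive ↥N)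
  (hker : ∀ w : GolayPt → ZMod 2, θ w = 0 ↔ (w ∈ golayCode ∨ w + Pi.single none 1 ∈ golayCode))

include hker in
theorem theta_congr {a b : ℕ} (h : cocZero (a ^^^ b) = true) : θ (toWord a) = θ (toWord b) := by
  have h1 := (hker _).2 (cocZero_mem h)
  rw [toWord_xor, map_add, add_eq_zero_iff_eq_neg, ← map_neg] at h1
  rw [h1]
  congr 1
  funext p
  exact (show ∀ a : ZMod 2, -a = a by decide) _

include hker in
theorem exists_coords (w : GolayPt → ZMod 2) : ∃ v : V, θ w = θ (wordOf cocBW v) := by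
  rw [pi_eq_sum_univ' w]
  refine Finset.sum_induction _ (fun u => ∃ v : V, θ u = θ (wordOf cocBW v)) ?_ ⟨0, by simp [wordOf]⟩ fun p _ => ?_
  · rintro a b ⟨u, hu⟩ ⟨v, hv⟩
    exact ⟨u + v, by rw [map_add, hu, hv, ← map_add, wordOf_add]⟩
  rcases (show ∀ u : ZMod 2, u = 0 ∨ u = 1 by decide) (w p) with h | h
  · exact ⟨0, by simp [h, wordOf]⟩
  refine ⟨vOf (cocSingle.getD (idx p) 0), ?_⟩
  have hs := theta_congr θ hker (coc_facts.1 ⟨idx p, idx_lt p⟩)
  rw [toWord_two_pow] at hs
  simp only [h, one_smul]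
  rw [wordOf_vOf (BW := cocBW) rfl]
  convert hs using 2

theorem exists_coc_setting [hN : N.Normal] (φ : E ⧸ N ≃* ↥M23) (θ : (GolayPt → ZMod 2) →+ Additive ↥N)
    (hsurj : Function.Surjective θ)
    (hker : ∀ w : GolayPt → ZMod 2, θ w = 0 ↔ (w ∈ golayCode ∨ w + Pi.single none 1 ∈ golayCode))
    (hθ : ∀ (g : E) (w : GolayPt → ZMod 2),
      ((θ (w ∘ ⇑(((φ (QuotientGroup.mk g) : ↥M23) : Equiv.Perm GolayPt)⁻¹))).toMul : E)
        = g * ((θ w).toMul : E) * g⁻¹)
    (c : Cert) (hlen : c.mats.length = c.tabs.length)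
    (hok : ((idTab, idMat) :: c.tabs.zip c.mats).all okCocMat = true) :
    ∃ S : Setting c E, S.π.ker = N ∧ (∀ v, S.n v = ((θ (wordOf cocBW v)).toMul : E)) ∧
      ∀ x v, x * S.n v * x⁻¹ = ((θ (wordOf cocBW v ∘ ⇑((S.π x : Equiv.Perm GolayPt)⁻¹))).toMul : E) := by
  have hadd : ∀ u v, ((θ (wordOf cocBW (u + v))).toMul : E) =
      ((θ (wordOf cocBW u)).toMul : E) * ((θ (wordOf cocBW v)).toMul : E) := fun u v => by
    rw [wordOf_add, map_add]; rfl
  let π : E →* M23 := φ.toMonoidHom.comp (QuotientGroup.mk' N)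
  have hπ : π.ker = N := by
    rw [MonoidHom.ker_comp_of_injective _ _ φ.injective, QuotientGroup.ker_mk']
  refine ⟨{ π := π, surj := fun y => ?_, n := fun v => ((θ (wordOf cocBW v)).toMul : E), n_add := hadd,
            n_inj := fun u v h => ?_, mem_ker := fun x => ⟨fun hx => ?_, ?_⟩, conj := fun i x hx => ?_ },
    hπ, fun v => rfl, fun x v => (hθ x _).symm⟩
  · obtain ⟨g, hg⟩ := QuotientGroup.mk_surjective (φ.symm y)
    exact ⟨g, by show φ (QuotientGroup.mk g) = y; rw [hg, MulEquiv.apply_symm_apply]⟩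
  · have h1 : θ (wordOf cocBW u) = θ (wordOf cocBW v) := Additive.toMul.injective (Subtype.ext h)
    have h2 : θ (wordOf cocBW (u + v)) = 0 := by
      rw [wordOf_add, map_add, h1, ← map_add]
      rw [show wordOf cocBW v + wordOf cocBW v = 0 from funext fun p => (show ∀ a : ZMod 2, a + a = 0 by decide) _,
        map_zero]
    obtain ⟨m, hm, hmv⟩ := exists_vOf (u + v)
    rw [← hmv, wordOf_vOf (BW := cocBW) rfl, hker, ← cocZero_iff (coc_facts.2.2 ⟨m, hm⟩)] at h2
    have h3 := coc_facts.2.1 ⟨m, hm⟩ h2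
    simp only at h3
    subst h3
    funext k
    have := congrFun hmv k
    simp [vOf] at this
    exact (show ∀ a b : ZMod 2, 0 = a + b → a = b by decide) _ _ this
  · have hxN : x ∈ N := hπ ▸ hx
    obtain ⟨w, hw⟩ := hsurj (Additive.ofMul ⟨x, hxN⟩)
    obtain ⟨v, hv⟩ := exists_coords θ hker w
    exact ⟨v, by rw [← hv, hw]; rfl⟩
  · rintro ⟨v, rfl⟩
    exact (MonoidHom.mem_ker).1 (hπ.symm ▸ (θ _).toMul.2)
  · refine conj_of_basis _ hadd x _ fun k => ?_
    have h1 := List.all_eq_true.1 hok _ (pair_cases c i hlen)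
    simp only [okCocMat, List.all_eq_true, Bool.and_eq_true] at h1
    obtain ⟨h2, h3⟩ := h1 k (List.mem_finRange k)
    rw [← hθ, ← vOf_colN, wordOf_vOf (BW := cocBW) rfl, wordOf_single, ← theta_congr θ hker h3,
      Equiv.Perm.coe_inv]
    exact congrArg (fun w => ((θ w).toMul : E)) (toWord_comp_symm (σ := (π x : Equiv.Perm GolayPt)) hx h2)

/-! ### Two extensions -/

/-- Two extensions with the same action and the same normalised relations are isomorphic. -/
theorem iso_of_same_class {c : Cert} (hpc : c.okPc = true) {E E' : Type*} [Group E] [Finite E] [Group E']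
    [Finite E'] (S : Setting c E) (S' : Setting c E')
    (same : ∀ x x' v, S.π x = S'.π x' → ∃ u, x * S.n v * x⁻¹ = S.n u ∧ x' * S'.n v * x'⁻¹ = S'.n u)
    {z : ℕ → E} {z' : ℕ → E'} (hz : ∀ i, Tab (S.π (z i) : Equiv.Perm GolayPt) (c.tab i))
    (hz' : ∀ i, Tab (S'.π (z' i) : Equiv.Perm GolayPt) (c.tab i)) (d : ℕ → V)
    (hr : ∀ r < 28, Setting.val z (c.rules.getD r ([], [])).1 =
      S.n (d r) * Setting.val z (c.rules.getD r ([], [])).2)
    (hr' : ∀ r < 28, Setting.val z' (c.rules.getD r ([], [])).1 =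
      S'.n (d r) * Setting.val z' (c.rules.getD r ([], [])).2) :
    Nonempty (E ≃* E') := by
  classical
  let P : Subgroup (E × E') := (S.π.comp (MonoidHom.fst E E')).eqLocus (S'.π.comp (MonoidHom.snd E E'))
  have hn1 : ∀ v, S.π (S.n v) = 1 := fun v => (S.mem_ker _).2 ⟨v, rfl⟩
  have hn1' : ∀ v, S'.π (S'.n v) = 1 := fun v => (S'.mem_ker _).2 ⟨v, rfl⟩
  let D : Subgroup P :=
    { carrier := {p | ∃ v, (p : E × E') = (S.n v, S'.n v)}
      one_mem' := ⟨0, by rw [S.n_zero, S'.n_zero]; rfl⟩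
      mul_mem' := by
        rintro a b ⟨u, hu⟩ ⟨v, hv⟩
        exact ⟨u + v, by rw [Subgroup.coe_mul, hu, hv, S.n_add, S'.n_add]; rfl⟩
      inv_mem' := by
        rintro a ⟨u, hu⟩
        exact ⟨u, by rw [Subgroup.coe_inv, hu, Prod.inv_mk, S.n_inv, S'.n_inv]⟩ }
  haveI hD : D.Normal := ⟨by
    rintro n ⟨v, hv⟩ g
    obtain ⟨u, h1, h2⟩ := same g.1.1 g.1.2 v g.2
    exact ⟨u, by rw [Subgroup.coe_mul, Subgroup.coe_mul, hv, Subgroup.coe_inv]; exact Prod.ext h1 h2⟩⟩
  let πP : P →* M23 := (S.π.comp (MonoidHom.fst E E')).comp P.subtype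
  let πQ : P ⧸ D →* M23 := QuotientGroup.lift D πP (by
    rintro p ⟨v, hv⟩
    show S.π (p : E × E').1 = 1
    rw [hv]; exact hn1 v)
  let inN : V → P := fun v => ⟨(S.n v, 1), show S.π (S.n v) = S'.π 1 by rw [hn1, map_one]⟩
  let SQ : Setting c (P ⧸ D) :=
    { π := πQ
      surj := fun y => by
        obtain ⟨a, ha⟩ := S.surj y
        obtain ⟨b, hb⟩ := S'.surj y
        exact ⟨QuotientGroup.mk (⟨(a, b), ha.trans hb.symm⟩ : P), ha⟩
      n := fun v => QuotientGroup.mk (inN v)
      n_add := fun u v => by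
        rw [← QuotientGroup.mk_mul]
        congr 1
        exact Subtype.ext (Prod.ext (S.n_add u v) (one_mul 1).symm)
      n_inj := fun u v h => by
        rw [QuotientGroup.eq] at h
        obtain ⟨w, hw⟩ := h
        have h2 : (1 : E')⁻¹ * 1 = S'.n w := congrArg Prod.snd hw
        rw [inv_one, one_mul] at h2
        have hw0 : w = 0 := S'.n_inj (h2.symm.trans S'.n_zero.symm)
        have h1 : (S.n u)⁻¹ * S.n v = S.n w := congrArg Prod.fst hw
        rw [hw0, S.n_zero, inv_mul_eq_one] at h1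
        exact S.n_inj h1
      mem_ker := fun q => by
        obtain ⟨⟨⟨a, b⟩, hab⟩, rfl⟩ := QuotientGroup.mk_surjective q
        constructor
        · intro (h : S.π a = 1)
          obtain ⟨u, rfl⟩ := (S.mem_ker a).1 h
          obtain ⟨w, rfl⟩ := (S'.mem_ker b).1 (hab.symm.trans h)
          refine ⟨u + w, (QuotientGroup.eq).2 ⟨w, ?_⟩⟩
          show ((S.n (u + w))⁻¹ * S.n u, (1 : E')⁻¹ * S'.n w) = _
          rw [S.n_inv, ← S.n_add, add_right_comm, Setting.add_self, zero_add, inv_one, one_mul]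
        · rintro ⟨v, hv⟩
          rw [← hv]
          exact hn1 v
      conj := fun i q hq v => by
        obtain ⟨⟨⟨a, b⟩, hab⟩, rfl⟩ := QuotientGroup.mk_surjective q
        rw [← QuotientGroup.mk_mul, ← QuotientGroup.mk_inv, ← QuotientGroup.mk_mul]
        congr 1
        refine Subtype.ext (Prod.ext ?_ ?_)
        · show a * S.n v * a⁻¹ = S.n (app (c.mat i) v)
          exact S.conj i a hq v
        · show b * 1 * b⁻¹ = 1
          group }
  have hzz : ∀ i, (z i, z' i) ∈ P := fun i => Subtype.ext (tab_unique (hz i) (hz' i))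
  let zQ : ℕ → P ⧸ D := fun i => QuotientGroup.mk ⟨(z i, z' i), hzz i⟩
  have hval : ∀ w : List ℕ, ∃ h, Setting.val zQ w = QuotientGroup.mk (⟨(Setting.val z w, Setting.val z' w), h⟩ : P) := by
    intro w
    induction w with
    | nil => exact ⟨one_mem P, rfl⟩
    | cons i w ih =>
      obtain ⟨h, e⟩ := ih
      exact ⟨mul_mem (hzz i) h, by rw [Setting.val, e]; rfl⟩
  obtain ⟨H, hH⟩ := SQ.exists_complement hpc (z := zQ) (fun i => hz i) (fun r hr0 => by
    obtain ⟨hL, eL⟩ := hval (c.rules.getD r ([], [])).1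
    obtain ⟨hR, eR⟩ := hval (c.rules.getD r ([], [])).2
    rw [eL, eR]
    symm
    refine (QuotientGroup.eq).2 ?_
    have hdd : S.π (S.n (d r)) = S'.π (S'.n (d r)) := by rw [hn1, hn1']
    have hmem : (⟨(S.n (d r), S'.n (d r)), hdd⟩ : P) ∈ D := ⟨d r, rfl⟩
    have := hD.conj_mem _ hmem (⟨(Setting.val z (c.rules.getD r ([], [])).2, Setting.val z' (c.rules.getD r ([], [])).2), hR⟩ : P)⁻¹
    convert this using 1
    refine Subtype.ext (Prod.ext ?_ ?_)
    · show (Setting.val z (c.rules.getD r ([], [])).2)⁻¹ * Setting.val z (c.rules.getD r ([], [])).1 = _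
      rw [hr r hr0]
      simp [mul_assoc]
    · show (Setting.val z' (c.rules.getD r ([], [])).2)⁻¹ * Setting.val z' (c.rules.getD r ([], [])).1 = _
      rw [hr' r hr0]
      simp [mul_assoc])
  let Ht : Subgroup P := H.comap (QuotientGroup.mk' D)
  let f : Ht →* E := ((MonoidHom.fst E E').comp P.subtype).comp Ht.subtype
  let g : Ht →* E' := ((MonoidHom.snd E E').comp P.subtype).comp Ht.subtype
  have inD : ∀ p : Ht, S.π p.1.1.1 = 1 → (p : P) ∈ D := by
    intro p hp
    have h1 : (QuotientGroup.mk (p : P) : P ⧸ D) ∈ SQ.π.ker ⊓ H := ⟨hp, p.2⟩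
    rw [hH.disjoint.eq_bot, Subgroup.mem_bot, QuotientGroup.eq_one_iff] at h1
    exact h1
  have hfinj : Function.Injective f := by
    refine (injective_iff_map_eq_one f).2 fun p hp => ?_
    have hp' : p.1.1.1 = 1 := hp
    obtain ⟨v, hv⟩ := inD p (by rw [hp', map_one])
    have : v = 0 := S.n_inj (by rw [S.n_zero, ← hp', hv])
    exact Subtype.ext (Subtype.ext (by rw [hv, this, S.n_zero, S'.n_zero]; rfl))
  have hginj : Function.Injective g := by
    refine (injective_iff_map_eq_one g).2 fun p hp => ?_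
    have hp' : p.1.1.2 = 1 := hp
    have hπ : S.π p.1.1.1 = S'.π p.1.1.2 := p.1.2
    obtain ⟨v, hv⟩ := inD p (by rw [hπ, hp', map_one])
    have : v = 0 := S'.n_inj (by rw [S'.n_zero, ← hp', hv])
    exact Subtype.ext (Subtype.ext (by rw [hv, this, S.n_zero, S'.n_zero]; rfl))
  have hdec : ∀ p : P, ∃ (v : V) (h : Ht), (p : E × E') = (S.n v, 1) * (h : P).1 := by
    intro p
    have hmem : (QuotientGroup.mk p : P ⧸ D) ∈ (SQ.π.ker : Set (P ⧸ D)) * (H : Set (P ⧸ D)) := by
      rw [hH.mul_eq]; trivial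
    obtain ⟨a, ha, b, hb, hab⟩ := hmem
    obtain ⟨v, rfl⟩ := (SQ.mem_ker a).1 ha
    refine ⟨v, ⟨(inN v)⁻¹ * p, ?_⟩, ?_⟩
    · show (QuotientGroup.mk ((inN v)⁻¹ * p) : P ⧸ D) ∈ H
      rw [QuotientGroup.mk_mul, ← hab]
      show (QuotientGroup.mk (inN v) : P ⧸ D)⁻¹ * _ ∈ H
      rw [← mul_assoc, inv_mul_cancel, one_mul]
      exact hb
    · show (p : E × E') = (inN v : E × E') * ((inN v : E × E')⁻¹ * (p : E × E'))
      rw [mul_inv_cancel_left]
  have hDt : ∀ v, ∃ h : Ht, (h : P).1 = (S.n v, S'.n v) := fun v => by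
    have hp : S.π (S.n v) = S'.π (S'.n v) := by rw [hn1, hn1']
    refine ⟨⟨⟨(S.n v, S'.n v), hp⟩, ?_⟩, rfl⟩
    have : (QuotientGroup.mk (⟨(S.n v, S'.n v), hp⟩ : P) : P ⧸ D) = 1 := (QuotientGroup.eq_one_iff _).2 ⟨v, rfl⟩
    show (QuotientGroup.mk _ : P ⧸ D) ∈ H
    rw [this]; exact one_mem H
  have hfsurj : Function.Surjective f := by
    intro a
    obtain ⟨b, hb⟩ := S'.surj (S.π a)
    obtain ⟨v, h, hp⟩ := hdec ⟨(a, b), hb.symm⟩
    obtain ⟨k, hk⟩ := hDt v
    refine ⟨k * h, ?_⟩
    show ((k : P).1 * (h : P).1).1 = a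
    rw [hk]
    exact (congrArg Prod.fst hp).symm
  have hgsurj : Function.Surjective g := by
    intro b
    obtain ⟨a, ha⟩ := S.surj (S'.π b)
    obtain ⟨v, h, hp⟩ := hdec ⟨(a, b), ha⟩
    refine ⟨h, ?_⟩
    have := congrArg Prod.snd hp
    simpa [g] using this.symm
  exact ⟨(MulEquiv.ofBijective f ⟨hfinj, hfsurj⟩).symm.trans (MulEquiv.ofBijective g ⟨hginj, hgsurj⟩)⟩

end Cfsg.Agent.Forms59.ExtCert
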