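import Cfsg.Agent.Forms59.Involutions
import Cfsg.Agent.Forms59.PlusOmega
import Cfsg.Agent.Forms59.Elliptic2

/-!
Counting classes of involutions of orthogonal groups in characteristic two.
-/

set_option autoImplicit false
set_option linter.unusedSectionVars false

namespace Cfsg.Agent.Forms59.Inv

open Matrix QuadraticMap Cfsg.Agent.Reflections
open scoped Matrix

variable {ι : Type} [Fintype ι] [DecidableEq ι] {F : Type*} [Field F] [Fintype F] [CharP F 2]
variable {Q : QuadraticForm F (ι → F)}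

/-- What is needed of a space: dimension `2m`, Witt index `r`, and suitable vectors. -/
structure Space (Q : QuadraticForm F (ι → F)) (m r : ℕ) where
  nondeg : (QuadraticMap.polarBilin Q).Nondegenerate
  card_ι : Fintype.card ι = 2 * m
  le : r ≤ m
  sing : Fin r → ι → F
  sing_li : LinearIndependent F sing
  sing_Q : ∀ i, Q (sing i) = 0
  sing_perp : ∀ i j, polar ⇑Q (sing i) (sing j) = 0
  unit : Fin m → ι → F
  unit_li : LinearIndependent F unit
  unit_Q : ∀ i, Q (unit i) = 1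
  unit_perp : ∀ i j, i ≠ j → polar ⇑Q (unit i) (unit j) = 0
  ts_le : ∀ U : Submodule F (ι → F), (∀ u ∈ U, Q u = 0) → Module.finrank F U ≤ r

theorem mul_self_of_orderOf {G : Type*} [Group G] {g : G} (h : orderOf g = 2) : g * g = 1 := by
  rw [← pow_two, ← h, pow_orderOf_eq_one]

theorem rk_one : rk (1 : ↥(Cfsg.isometryGroup F ⇑Q)) = 0 := by
  rw [rk, Submodule.finrank_eq_zero, LinearMap.range_eq_bot]
  refine LinearMap.ext fun x => ?_
  rw [nmap_apply, act_one, add_self_vec, LinearMap.zero_apply]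

theorem orderOf_eq_two {g : ↥(Cfsg.isometryGroup F ⇑Q)} (hg : g * g = 1) (h : 1 ≤ rk g) : orderOf g = 2 :=
  orderOf_eq_prime (by rw [pow_two, hg]) fun e => by rw [e, rk_one] at h; omega

theorem even_rk_of_alt (hQ : (QuadraticMap.polarBilin Q).Nondegenerate) {g : ↥(Cfsg.isometryGroup F ⇑Q)}
    (hg : g * g = 1) (ha : IsAltInv g) : Even (rk g) := by
  obtain ⟨k, hk, -⟩ := exists_adapted_alt hQ hg ha
  exact ⟨k, by omega⟩

theorem rk_le_of_alt {m r : ℕ} (S : Space Q m r) {g : ↥(Cfsg.isometryGroup F ⇑Q)} (ha : IsAltInv g) :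
    rk g ≤ r :=
  S.ts_le _ (by rintro _ ⟨x, rfl⟩; exact ha x)

theorem rk_le {m r : ℕ} (S : Space Q m r) {g : ↥(Cfsg.isometryGroup F ⇑Q)} (hg : g * g = 1) : rk g ≤ m := by
  have := two_rk_le S.nondeg hg
  rw [S.card_ι] at this
  omega

theorem exists_nonalt {m r : ℕ} (S : Space Q m r) (l : ℕ) (hl : 1 ≤ l) (hlm : l ≤ m) :
    ∃ g : ↥(Cfsg.isometryGroup F ⇑Q), g * g = 1 ∧ rk g = l ∧ ¬ IsAltInv g ∧
      (∃ vs : List (ι → F), (∀ v ∈ vs, Q v ≠ 0) ∧ vs.length = l ∧ g = reflProd Q vs) ∧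
      ∃ v, Q v ≠ 0 ∧ act g v = v := by
  obtain ⟨g, h1, h2, h3, h4, h5⟩ := exists_orth_inv S.nondeg hl (fun i => S.unit (Fin.castLE hlm i))
    (S.unit_li.comp _ (Fin.castLE_injective _)) (fun i => S.unit_Q _)
    (fun i j h => S.unit_perp _ _ fun e => h (Fin.castLE_injective _ e))
  refine ⟨g, h1, h2, h3, ⟨_, fun v hv => ?_, List.length_ofFn, h4⟩, _, ?_, h5⟩
  · obtain ⟨i, rfl⟩ := List.mem_ofFn.1 hv
    rw [S.unit_Q]; exact one_ne_zero
  · rw [S.unit_Q]; exact one_ne_zero

theorem exists_altInv {m r : ℕ} (S : Space Q m r) (k : ℕ) (hk : 2 * k ≤ r) :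
    ∃ g : ↥(Cfsg.isometryGroup F ⇑Q), g * g = 1 ∧ rk g = 2 * k ∧ IsAltInv g := by
  let e : Fin k ⊕ Fin k ≃ Fin (2 * k) := finSumFinEquiv.trans (finCongr (two_mul k).symm)
  obtain ⟨g, h1, h2, h3, -⟩ := exists_alt_inv S.nondeg (fun i => S.sing (Fin.castLE hk i))
    (fun i => e (e.symm i).swap) (fun i => by simp) (fun i h => by
      have h' := congrArg e.symm h
      rw [Equiv.symm_apply_apply] at h'
      rcases hi : e.symm i with a | a <;> simp [hi] at h')
    (S.sing_li.comp _ (Fin.castLE_injective _)) (fun i => S.sing_Q _) (fun i j => S.sing_perp _ _)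
  exact ⟨g, h1, h2, h3⟩

/-- The number of classes of involutions of the isometry group. -/
theorem card_classes {m r : ℕ} (S : Space Q m r) :
    Nat.card {C : ConjClasses ↥(Cfsg.isometryGroup F ⇑Q) //
      ∃ g, ConjClasses.mk g = C ∧ orderOf g = 2} = m + r / 2 := by
  classical
  have hQ := S.nondeg
  choose gn hn1 hn2 hn3 _ _ using fun i : Fin m => exists_nonalt S (i.val + 1) (by omega) (by omega)
  choose ga ha1 ha2 ha3 using fun i : Fin (r / 2) => exists_altInv S (i.val + 1) (by omega)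
  let rep : Fin m ⊕ Fin (r / 2) → ↥(Cfsg.isometryGroup F ⇑Q) := Sum.elim gn ga
  have hrep : ∀ x, orderOf (rep x) = 2 := by
    rintro (i | i)
    · exact orderOf_eq_two (hn1 i) (by show 1 ≤ rk (gn i); rw [hn2]; omega)
    · exact orderOf_eq_two (ha1 i) (by show 1 ≤ rk (ga i); rw [ha2]; omega)
  let Φ : Fin m ⊕ Fin (r / 2) → {C : ConjClasses ↥(Cfsg.isometryGroup F ⇑Q) //
      ∃ g, ConjClasses.mk g = C ∧ orderOf g = 2} := fun x => ⟨ConjClasses.mk (rep x), rep x, rfl, hrep x⟩
  have hΦ : Function.Bijective Φ := by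
    constructor
    · intro x y h
      obtain ⟨h1, h2⟩ := inv_of_isConj (ConjClasses.mk_eq_mk_iff_isConj.1 (congrArg Subtype.val h))
      rcases x with i | i <;> rcases y with j | j
      · simp only [rep, Sum.elim_inl, hn2] at h1
        exact congrArg Sum.inl (Fin.ext (by omega))
      · exact absurd (h2.2 (ha3 j)) (hn3 i)
      · exact absurd (h2.1 (ha3 i)) (hn3 j)
      · simp only [rep, Sum.elim_inr, ha2] at h1
        exact congrArg Sum.inr (Fin.ext (by omega))
    · rintro ⟨C, g, rfl, hg⟩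
      have hsq := mul_self_of_orderOf hg
      have hpos : 1 ≤ rk g := rk_pos fun e => by rw [e, orderOf_one] at hg; omega
      by_cases ha : IsAltInv g
      · obtain ⟨k, hk⟩ := even_rk_of_alt hQ hsq ha
        have := rk_le_of_alt S ha
        refine ⟨Sum.inr ⟨k - 1, by omega⟩, Subtype.ext (ConjClasses.mk_eq_mk_iff_isConj.2 ?_)⟩
        exact isConj_of_inv hQ (ha1 _) hsq (by show rk (ga _) = _; rw [ha2]; simp only; omega) (iff_of_true (ha3 _) ha)
      · have := rk_le S hsq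
        refine ⟨Sum.inl ⟨rk g - 1, by omega⟩, Subtype.ext (ConjClasses.mk_eq_mk_iff_isConj.2 ?_)⟩
        exact isConj_of_inv hQ (hn1 _) hsq (by show rk (gn _) = _; rw [hn2]; simp only; omega) (iff_of_false (hn3 _) ha)
  rw [← Nat.card_congr (Equiv.ofBijective Φ hΦ)]
  simp

/-- An alternating involution whose fixed space is larger than a totally singular one commutes with a reflection. -/
theorem exists_fix_nonsing {m r : ℕ} (S : Space Q m r) {g : ↥(Cfsg.isometryGroup F ⇑Q)}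
    (hlt : rk g < 2 * m - r) : ∃ v, Q v ≠ 0 ∧ act g v = v := by
  by_contra hno
  push Not at hno
  have h2 := LinearMap.finrank_range_add_finrank_ker (nmap g)
  rw [Module.finrank_fintype_fun_eq_card, S.card_ι] at h2
  have := S.ts_le (LinearMap.ker (nmap g)) fun v hv => by
    by_contra h
    exact hno v h (by rw [act_eq_add, LinearMap.mem_ker.1 hv, add_zero])
  simp only [rk] at hlt
  omega

theorem zmod2_cases : ∀ u : Multiplicative (ZMod 2), u = 1 ∨ u = Multiplicative.ofAdd 1 := by decide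

theorem ofAdd_two : Multiplicative.ofAdd (1 : ZMod 2) * Multiplicative.ofAdd 1 = 1 := by decide

/-- Classes of involutions in Omega. -/
theorem card_omega_classes {m r : ℕ} (S : Space Q m r)
    (δ : ↥(Cfsg.isometryGroup F ⇑Q) →* Multiplicative (ZMod 2))
    (hδ : ∀ v, Q v ≠ 0 → δ (refl Q v) = Multiplicative.ofAdd 1)
    (hker : ∀ g, δ g = 1 ↔ g ∈ Cfsg.Omega F ⇑Q)
    (halt : ∀ g : ↥(Cfsg.isometryGroup F ⇑Q), g * g = 1 → IsAltInv g → δ g = 1)
    (hsplit : r = m → ∀ g x : ↥(Cfsg.isometryGroup F ⇑Q), g * g = 1 → IsAltInv g → rk g = m → x * g = g * x → δ x = 1)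
    (hm : 1 ≤ m) :
    Nat.card {C : ConjClasses ↥(Cfsg.Omega F ⇑Q) // ∃ g : ↥(Cfsg.Omega F ⇑Q), ConjClasses.mk g = C ∧ orderOf g = 2} =
      m / 2 + r / 2 + (if r = m ∧ Even m then 1 else 0) := by
  classical
  have hQ := S.nondeg
  have hpar : ∀ vs : List (ι → F), (∀ v ∈ vs, Q v ≠ 0) → Even vs.length → reflProd Q vs ∈ Cfsg.Omega F ⇑Q := by
    intro vs hvs he
    rw [← hker, parity_reflProd hδ vs hvs, (ZMod.natCast_eq_zero_iff_even).2 he, ofAdd_zero]
  have hodd : ∀ g : ↥(Cfsg.isometryGroup F ⇑Q), g * g = 1 → ¬ IsAltInv g → g ∈ Cfsg.Omega F ⇑Q → Even (rk g) := by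
    intro g hg hna hmem
    obtain ⟨g', h1, h2, h3, ⟨vs, hvs, hlen, hprod⟩, -⟩ :=
      exists_nonalt S (rk g) (rk_pos fun e => hna (by rw [e]; intro x; simp [nmap_apply, act_one, add_self_vec]))
        (rk_le S hg)
    obtain ⟨c, hc⟩ := isConj_iff.1 (isConj_of_inv hQ h1 hg h2 (iff_of_false h3 hna))
    have hd : δ g' = 1 := by
      rw [← (hker g).2 hmem, ← hc, map_mul, map_mul, map_inv, mul_comm (δ c), mul_inv_cancel_right]
    rw [hprod, parity_reflProd hδ vs hvs, ofAdd_eq_one, ZMod.natCast_eq_zero_iff_even, hlen] at hd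
    exact hd
  obtain ⟨u, hu⟩ : ∃ u, Q u ≠ 0 := ⟨S.unit ⟨0, hm⟩, by rw [S.unit_Q]; exact one_ne_zero⟩
  set R := refl Q u
  have hR : δ R = Multiplicative.ofAdd 1 := hδ u hu
  have hRR : R * R = 1 := refl_mul_self hu
  choose gn hn1 hn2 hn3 hn4 _ using fun i : Fin (m / 2) => exists_nonalt S (2 * (i.val + 1)) (by omega) (by omega)
  choose ga ha1 ha2 ha3 using fun i : Fin (r / 2) => exists_altInv S (i.val + 1) (by omega)
  let P : Prop := r = m ∧ Even m
  let rep : (Fin (m / 2) ⊕ Fin (r / 2)) ⊕ Fin (if P then 1 else 0) → ↥(Cfsg.isometryGroup F ⇑Q) :=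
    Sum.elim (Sum.elim gn ga) fun i => R * ga ⟨r / 2 - 1, by
      have hi := i.2
      by_cases hp : P
      · obtain ⟨h1, j, hj⟩ := hp; omega
      · simp only [hp, if_false] at hi; omega⟩ * R
  have hRinv : R⁻¹ = R := inv_eq_of_mul_eq_one_right hRR
  have hrep : ∀ x, rep x * rep x = 1 ∧ 1 ≤ rk (rep x) ∧ rep x ∈ Cfsg.Omega F ⇑Q := by
    rintro ((i | i) | i)
    · refine ⟨hn1 i, by show 1 ≤ rk (gn i); rw [hn2]; omega, ?_⟩
      obtain ⟨vs, hvs, hlen, hprod⟩ := hn4 i
      show gn i ∈ _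
      rw [hprod]
      exact hpar vs hvs ⟨i.val + 1, by omega⟩
    · exact ⟨ha1 i, by show 1 ≤ rk (ga i); rw [ha2]; omega, (hker _).1 (halt _ (ha1 i) (ha3 i))⟩
    · obtain ⟨j, hj⟩ : ∃ j, rep (Sum.inr i) = R * ga j * R⁻¹ := ⟨_, by rw [hRinv]; rfl⟩
      rw [hj]
      refine ⟨?_, by rw [rk_conj, ha2]; omega, (hker _).1 ?_⟩
      · rw [show R * ga j * R⁻¹ * (R * ga j * R⁻¹) = R * (ga j * ga j) * R⁻¹ by group, ha1]; group
      · rw [map_mul, map_mul, map_inv, halt _ (ha1 j) (ha3 j), mul_one, mul_inv_cancel]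
  have hcoe : ∀ g : ↥(Cfsg.Omega F ⇑Q), orderOf (g : ↥(Cfsg.isometryGroup F ⇑Q)) = orderOf g :=
    fun g => Subgroup.orderOf_coe g
  let Φ : (Fin (m / 2) ⊕ Fin (r / 2)) ⊕ Fin (if P then 1 else 0) →
      {C : ConjClasses ↥(Cfsg.Omega F ⇑Q) // ∃ g : ↥(Cfsg.Omega F ⇑Q), ConjClasses.mk g = C ∧ orderOf g = 2} :=
    fun x => ⟨ConjClasses.mk ⟨rep x, (hrep x).2.2⟩, _, rfl, by
      rw [← hcoe]; exact orderOf_eq_two (hrep x).1 (hrep x).2.1⟩
  have hlast : ∀ i : Fin (if P then 1 else 0), P ∧ ∃ j : Fin (r / 2), j.val = r / 2 - 1 ∧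
      rep (Sum.inr i) = R * ga j * R⁻¹ ∧ rk (rep (Sum.inr i)) = m ∧ IsAltInv (rep (Sum.inr i)) := by
    intro i
    have hp : P := by
      by_contra hp
      have hi := i.2
      simp only [hp, if_false] at hi
      omega
    obtain ⟨h1, j, hj⟩ := id hp
    refine ⟨hp, ⟨r / 2 - 1, by omega⟩, rfl, by rw [hRinv]; rfl, ?_, ?_⟩
    · show rk (R * ga _ * R) = m
      rw [← hRinv]
      nth_rewrite 1 [hRinv]
      rw [rk_conj, ha2]
      simp only
      omega
    · show IsAltInv (R * ga _ * R)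
      nth_rewrite 2 [← hRinv]
      exact isAltInv_conj (ha3 _)
  have hΦ : Function.Bijective Φ := by
    constructor
    · intro x y h
      have h' := ConjClasses.mk_eq_mk_iff_isConj.1 (congrArg Subtype.val h)
      obtain ⟨c, hc⟩ := isConj_iff.1 h'
      have hc' : (c : ↥(Cfsg.isometryGroup F ⇑Q)) * rep x * (c : ↥(Cfsg.isometryGroup F ⇑Q))⁻¹ = rep y :=
        congrArg Subtype.val hc
      obtain ⟨h1, h2⟩ := inv_of_isConj (isConj_iff.2 ⟨_, hc'⟩)
      have key : ∀ i j, rep (Sum.inl (Sum.inr j)) ≠ rep x ∨ rep (Sum.inr i) ≠ rep y → True := fun _ _ _ => trivial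
      have cross : ∀ (j : Fin (r / 2)) (i : Fin (if P then 1 else 0)) (d : ↥(Cfsg.isometryGroup F ⇑Q)),
          δ d = 1 → rk (ga j) = rk (rep (Sum.inr i)) → d * ga j * d⁻¹ = rep (Sum.inr i) → False := by
        intro j i d hd hrk he
        obtain ⟨hp, j', hj', hrep', hm', -⟩ := hlast i
        have : j = j' := by
          rw [hm', ha2] at hrk
          have := hp.1
          exact Fin.ext (by omega)
        subst this
        rw [hrep'] at he
        have hcomm : (R⁻¹ * d) * ga j = ga j * (R⁻¹ * d) := by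
          calc R⁻¹ * d * ga j = R⁻¹ * (d * ga j * d⁻¹) * d := by group
            _ = _ := by rw [he]; group
        have := hsplit hp.1 (ga j) _ (ha1 j) (ha3 j) (hrk.trans hm') hcomm
        rw [map_mul, map_inv, hR, hd, mul_one] at this
        exact absurd this (by decide)
      rcases x with (i | i) | i <;> rcases y with (j | j) | j
      · rw [show rep (.inl (.inl i)) = gn i from rfl, show rep (.inl (.inl j)) = gn j from rfl, hn2, hn2] at h1
        exact congrArg Sum.inl (congrArg Sum.inl (Fin.ext (by omega)))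
      · exact absurd (h2.2 (ha3 j)) (hn3 i)
      · exact absurd (h2.2 (hlast j).2.choose_spec.2.2.2) (hn3 i)
      · exact absurd (h2.1 (ha3 i)) (hn3 j)
      · rw [show rep (.inl (.inr i)) = ga i from rfl, show rep (.inl (.inr j)) = ga j from rfl, ha2, ha2] at h1
        exact congrArg Sum.inl (congrArg Sum.inr (Fin.ext (by omega)))
      · exact (cross i j _ ((hker _).2 c.2) h1 hc').elim
      · exact absurd (h2.1 (hlast i).2.choose_spec.2.2.2) (hn3 j)
      · exact (cross j i (c : ↥(Cfsg.isometryGroup F ⇑Q))⁻¹ (by rw [map_inv, (hker _).2 c.2, inv_one]) h1.symm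
          (show _ * rep (Sum.inl (Sum.inr j)) * _ = _ by rw [← hc']; group)).elim
      · refine congrArg Sum.inr (Fin.ext ?_)
        have hi := i.2; have hj := j.2
        by_cases hp : P <;> simp [hp] at hi hj ⊢ <;> omega
    · rintro ⟨C, g, rfl, hg⟩
      rw [← hcoe] at hg
      have hsq := mul_self_of_orderOf hg
      have hpos : 1 ≤ rk (g : ↥(Cfsg.isometryGroup F ⇑Q)) := rk_pos fun e => by rw [e, orderOf_one] at hg; omega
      have hle := rk_le S hsq
      have fin : ∀ x, (∃ d, δ d = 1 ∧ d * rep x * d⁻¹ = g) → ∃ a, Φ a = ⟨ConjClasses.mk g, g, rfl, by rwa [hcoe] at hg⟩ := by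
        rintro x ⟨d, hd, he⟩
        exact ⟨x, Subtype.ext (ConjClasses.mk_eq_mk_iff_isConj.2 (isConj_iff.2 ⟨⟨d, (hker d).1 hd⟩, Subtype.ext he⟩))⟩
      have adj : ∀ g₀ : ↥(Cfsg.isometryGroup F ⇑Q), (∃ v, Q v ≠ 0 ∧ act g₀ v = v) →
          IsConj g₀ (g : ↥(Cfsg.isometryGroup F ⇑Q)) → ∃ d, δ d = 1 ∧ d * g₀ * d⁻¹ = g := by
        rintro g₀ ⟨v, hv, hfix⟩ hc
        obtain ⟨d, hd⟩ := isConj_iff.1 hc
        rcases zmod2_cases (δ d) with h | h
        · exact ⟨d, h, hd⟩
        · refine ⟨d * refl Q v, by rw [map_mul, h, hδ v hv, ofAdd_two], ?_⟩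
          rw [← hd]
          calc d * refl Q v * g₀ * (d * refl Q v)⁻¹ = d * (refl Q v * g₀) * (refl Q v)⁻¹ * d⁻¹ := by group
            _ = _ := by rw [refl_comm hv hfix]; group
      by_cases ha : IsAltInv (g : ↥(Cfsg.isometryGroup F ⇑Q))
      · obtain ⟨k, hk⟩ := even_rk_of_alt hQ hsq ha
        have hk' := rk_le_of_alt S ha
        have hkr : k - 1 < r / 2 := by omega
        have hc := isConj_of_inv hQ (ha1 ⟨k - 1, hkr⟩) hsq (by rw [ha2]; simp only; omega) (iff_of_true (ha3 _) ha)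
        by_cases hlt : rk (g : ↥(Cfsg.isometryGroup F ⇑Q)) < 2 * m - r
        · refine fin (Sum.inl (Sum.inr ⟨k - 1, hkr⟩)) (adj _ (exists_fix_nonsing S ?_) hc)
          exact (inv_of_isConj hc).1.trans_lt hlt
        · have := S.le
          have hp : P := ⟨by omega, ⟨k, by omega⟩⟩
          obtain ⟨d, hd⟩ := isConj_iff.1 hc
          rcases zmod2_cases (δ d) with h | h
          · exact fin (Sum.inl (Sum.inr ⟨k - 1, hkr⟩)) ⟨d, h, hd⟩
          · obtain ⟨i⟩ : Nonempty (Fin (if P then 1 else 0)) := ⟨⟨0, by rw [if_pos hp]; norm_num⟩⟩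
            obtain ⟨-, j, hj, hrep', -⟩ := hlast i
            obtain rfl : j = ⟨k - 1, hkr⟩ := Fin.ext (by
              have := hp.1
              simp only at hj ⊢
              omega)
            refine fin (Sum.inr i) ⟨d * R, by rw [map_mul, h, hR, ofAdd_two], ?_⟩
            rw [hrep', ← hd, hRinv]
            calc d * R * (R * ga ⟨k - 1, hkr⟩ * R) * (d * R)⁻¹ = d * (R * R) * ga ⟨k - 1, hkr⟩ * d⁻¹ := by group
              _ = _ := by rw [hRR, mul_one]
      · obtain ⟨k, hk⟩ := hodd _ hsq ha g.2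
        have hkm : k - 1 < m / 2 := by omega
        have hc := isConj_of_inv hQ (hn1 ⟨k - 1, hkm⟩) hsq (by rw [hn2]; simp only; omega) (iff_of_false (hn3 _) ha)
        obtain ⟨g', h1', h2', h3', -, hfix'⟩ := exists_nonalt S (rk (g : ↥(Cfsg.isometryGroup F ⇑Q))) hpos hle
        refine fin (Sum.inl (Sum.inl ⟨k - 1, hkm⟩)) (adj _ ?_ hc)
        obtain ⟨c, hc''⟩ := isConj_iff.1 (isConj_of_inv hQ h1' (hn1 ⟨k - 1, hkm⟩)
          (by rw [h2', hn2]; simp only; omega) (iff_of_false h3' (hn3 _)))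
        obtain ⟨v, hv, hfix⟩ := hfix'
        refine ⟨act c v, by rw [act_Q]; exact hv, ?_⟩
        show act (gn _) (act c v) = _
        rw [← hc'', ← act_mul, inv_mul_cancel_right, act_mul, hfix]
  rw [← Nat.card_congr (Equiv.ofBijective Φ hΦ)]
  simp [P]

/-- Parity of an alternating involution given by singular pairs orthogonal to a nonsingular vector. -/
theorem parity_alt (δ : ↥(Cfsg.isometryGroup F ⇑Q) →* Multiplicative (ZMod 2))
    (hδ : ∀ v, Q v ≠ 0 → δ (refl Q v) = Multiplicative.ofAdd 1) {z : ι → F} (hz : Q z = 1) :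
    ∀ (k : ℕ) (e f : Fin k → ι → F), (∀ i, Q (e i) = 0) → (∀ i, Q (f i) = 0) →
      (∀ i, polar ⇑Q z (e i) = 0) → (∀ i, polar ⇑Q z (f i) = 0) →
      (∀ i j, polar ⇑Q (e i) (e j) = 0) → (∀ i j, polar ⇑Q (f i) (f j) = 0) → (∀ i j, polar ⇑Q (e i) (f j) = 0) →
      ∀ g : ↥(Cfsg.isometryGroup F ⇑Q),
        (∀ y, nmap g y = ∑ i, (polar ⇑Q (f i) y • e i + polar ⇑Q (e i) y • f i)) → δ g = 1 := by
  intro k
  induction k with
  | zero =>
    intro e f _ _ _ _ _ _ _ g hg
    have : g = 1 := isom_ext fun y => by rw [act_eq_add, hg]; simp [act_one]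
    rw [this, map_one]
  | succ k ih =>
    intro e f heQ hfQ hze hzf hee hff hef g hg
    let vs : List (ι → F) := [z, z + e 0, z + f 0, z + e 0 + f 0]
    have hfe : polar ⇑Q (f 0) (e 0) = 0 := by rw [polar_comm]; exact hef 0 0
    have hez : polar ⇑Q (e 0) z = 0 := by rw [polar_comm]; exact hze 0
    have hfz : polar ⇑Q (f 0) z = 0 := by rw [polar_comm]; exact hzf 0
    have hzz : polar ⇑Q z z = 0 := by rw [QuadraticMap.polar_self, two_nsmul, CharTwo.add_self_eq_zero]
    have hQ1 : Q (z + e 0) = 1 := by rw [QuadraticMap.map_add ⇑Q, hz, heQ, hze]; simp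
    have hQ2 : Q (z + f 0) = 1 := by rw [QuadraticMap.map_add ⇑Q, hz, hfQ, hzf]; simp
    have hQ3 : Q (z + e 0 + f 0) = 1 := by
      rw [QuadraticMap.map_add ⇑Q, hQ1, hfQ, polar_add_left, hzf, hef]; simp
    have hvs : ∀ v ∈ vs, Q v ≠ 0 := by simp [vs, hz, hQ1, hQ2, hQ3]
    have hd1 : δ (reflProd Q vs) = 1 := by
      rw [parity_reflProd hδ vs hvs]; simp only [vs, List.length_cons, List.length_nil]; decide
    have hr : ∀ {v : ι → F}, Q v = 1 → ∀ y, act (refl Q v) y = y + polar ⇑Q v y • v := by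
      intro v hv y
      rw [act_refl (by rw [hv]; exact one_ne_zero), hv, inv_one, one_mul, sub_eq_add_neg]
      congr 1
      funext k
      exact CharTwo.neg_eq _
    have h1 : ∀ y, act (reflProd Q vs) y = y + (polar ⇑Q (f 0) y • e 0 + polar ⇑Q (e 0) y • f 0) := by
      intro y
      simp only [vs, reflProd, List.map_cons, List.map_nil, List.prod_cons, List.prod_nil, mul_one, act_mul,
        hr hz, hr hQ1, hr hQ2, hr hQ3, polar_add_left, polar_add_right, polar_smul_left, polar_smul_right,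
        hzz, hze 0, hzf 0, hez, hfz, hee 0 0, hff 0 0, hef 0 0, hfe, smul_eq_mul]
      funext p
      simp only [Pi.add_apply, Pi.smul_apply, smul_eq_mul]
      ring_nf
      simp only [CharTwo.two_eq_zero, mul_zero, zero_mul, add_zero, zero_add,
        show (4 : F) = 0 by rw [show (4 : F) = 2 * 2 by norm_num, CharTwo.two_eq_zero, zero_mul],
        show (3 : F) = 1 by rw [show (3 : F) = 2 + 1 by norm_num, CharTwo.two_eq_zero, zero_add], mul_one, one_mul]
    have hN0 : ∀ y, polar ⇑Q (f 0) (nmap g y) = 0 ∧ polar ⇑Q (e 0) (nmap g y) = 0 := by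
      intro y
      rw [hg, ← QuadraticMap.polarBilin_apply_apply, ← QuadraticMap.polarBilin_apply_apply, map_sum, map_sum]
      constructor <;>
      · refine Finset.sum_eq_zero fun i _ => ?_
        have : polar ⇑Q (f 0) (e i) = 0 := by rw [polar_comm]; exact hef i 0
        simp [this, hff, hee, hef]
    have hg' : ∀ y, nmap (reflProd Q vs * g) y =
        ∑ i : Fin k, (polar ⇑Q (f i.succ) y • e i.succ + polar ⇑Q (e i.succ) y • f i.succ) := by
      intro y
      rw [nmap_apply, act_mul, h1, act_eq_add g y, polar_add_right, polar_add_right, (hN0 y).1, (hN0 y).2,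
        add_zero, add_zero, hg, Fin.sum_univ_succ]
      funext p
      simp only [Pi.add_apply, Pi.smul_apply, smul_eq_mul]
      linear_combination CharTwo.add_self_eq_zero (y p) +
        CharTwo.add_self_eq_zero (polar ⇑Q (f 0) y * e 0 p + polar ⇑Q (e 0) y * f 0 p)
    have := ih (fun i => e i.succ) (fun i => f i.succ) (fun i => heQ _) (fun i => hfQ _) (fun i => hze _)
      (fun i => hzf _) (fun i j => hee _ _) (fun i j => hff _ _) (fun i j => hef _ _) _ hg'
    rwa [map_mul, hd1, one_mul] at this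

end Cfsg.Agent.Forms59.Inv
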