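import Cfsg.Agent.Forms59.InvolutionCount
import Cfsg.Agent.Forms59.Elliptic
import Cfsg.Agent.Forms59.Elliptic2

/-!
The hyperbolic and elliptic instances of the count of involution classes in characteristic two.
-/

set_option autoImplicit false
set_option linter.unusedSectionVars false

namespace Cfsg.Agent.Forms59.Inv

open Matrix QuadraticMap Cfsg.Agent.Reflections
open scoped Matrix

section parity

variable {ι : Type} [Fintype ι] [DecidableEq ι] {F : Type*} [Field F] [Fintype F] [CharP F 2]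
variable {Q : QuadraticForm F (ι → F)}

theorem mat_refl_top_of (hr : UnitaryOrthogonal.reflGroup Q = ⊤) : Reflections.reflGroup Q = ⊤ := by
  refine top_unique fun g _ => ?_
  have : toOrth Q g ∈ (Reflections.reflGroup Q).map (toOrth Q).toMonoidHom := by
    refine (le_of_eq_of_le hr.symm ?_) (Subgroup.mem_top _)
    rw [UnitaryOrthogonal.reflGroup, Subgroup.closure_le]
    rintro _ ⟨a, rfl⟩
    by_cases ha : Q a = 0
    · have : UnitaryOrthogonal.rf Q a = 1 :=
        UnitaryOrthogonal.orth_ext fun x => by simp [UnitaryOrthogonal.rf_apply, ha]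
      rw [this]; exact one_mem _
    · exact ⟨refl Q a, refl_mem ha, toOrth_refl ha⟩
  obtain ⟨g', hg', hgg⟩ := this
  rwa [← (toOrth Q).injective hgg]

/-- If reflections generate, the parity kernel is Omega. -/
theorem exists_parity_omega (hQ : (QuadraticMap.polarBilin Q).Nondegenerate)
    (hr : UnitaryOrthogonal.reflGroup Q = ⊤) :
    ∃ δ : ↥(Cfsg.isometryGroup F ⇑Q) →* Multiplicative (ZMod 2),
      (∀ v, Q v ≠ 0 → δ (refl Q v) = Multiplicative.ofAdd 1) ∧ ∀ g, δ g = 1 ↔ g ∈ Cfsg.Omega F ⇑Q := by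
  let δ := (UnitaryOrthogonal.dickson (Q := Q) hQ.1 hr).comp (toOrth Q).toMonoidHom
  have hδ : ∀ v, Q v ≠ 0 → δ (refl Q v) = Multiplicative.ofAdd 1 := fun v hv => by
    rw [MonoidHom.comp_apply, MulEquiv.coe_toMonoidHom, toOrth_refl hv,
      UnitaryOrthogonal.dickson_rf (Q := Q) hQ.1 hr hv]
  refine ⟨δ, hδ, fun g => ⟨fun hg => ?_, fun hg => Abelianization.commutator_subset_ker δ hg⟩⟩
  have key : ∀ g : ↥(Cfsg.isometryGroup F ⇑Q), (δ g = 1 ∧ g ∈ Cfsg.Omega F ⇑Q) ∨
      (δ g = Multiplicative.ofAdd 1 ∧ ∀ u, Q u ≠ 0 → refl Q u * g ∈ Cfsg.Omega F ⇑Q) := by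
    intro g
    refine reflGroup_induction (Q := Q) (p := fun g => (δ g = 1 ∧ g ∈ Cfsg.Omega F ⇑Q) ∨
      (δ g = Multiplicative.ofAdd 1 ∧ ∀ u, Q u ≠ 0 → refl Q u * g ∈ Cfsg.Omega F ⇑Q))
      (Or.inl ⟨map_one _, one_mem _⟩) ?_ (mat_refl_top_of hr ▸ Subgroup.mem_top g)
    rintro v g hv (⟨e, hg⟩ | ⟨e, hg⟩)
    · refine Or.inr ⟨by rw [map_mul, hδ v hv, e, mul_one], fun u hu => ?_⟩
      rw [← mul_assoc]
      exact mul_mem (refl_mul_refl_mem_omega hQ hu hv) hg
    · exact Or.inl ⟨by rw [map_mul, hδ v hv, e, ofAdd_two], hg v hv⟩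
  rcases key g with ⟨-, h⟩ | ⟨h, -⟩
  · exact h
  · rw [hg] at h
    exact absurd h.symm ofAdd_one_ne_one

end parity

section plus

variable {F : Type*} [Field F] [Fintype F] [CharP F 2] {m : ℕ}

theorem finrank_ts_le {ι : Type} [Fintype ι] [DecidableEq ι] {Q : QuadraticForm F (ι → F)}
    (hQ : (QuadraticMap.polarBilin Q).Nondegenerate) (U : Submodule F (ι → F)) (hU : ∀ u ∈ U, Q u = 0) :
    2 * Module.finrank F U ≤ Fintype.card ι := by
  have h1 := LinearMap.BilinForm.finrank_orthogonal hQ U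
  have h2 : U ≤ LinearMap.BilinForm.orthogonal (QuadraticMap.polarBilin Q) U := fun x hx y hy => by
    show polar ⇑Q y x = 0
    rw [QuadraticMap.polar, hU _ (add_mem hy hx), hU y hy, hU x hx]; simp
  have := Submodule.finrank_mono h2
  rw [Module.finrank_fintype_fun_eq_card] at h1
  omega

noncomputable def plusSpace (m : ℕ) (F : Type*) [Field F] [Fintype F] [CharP F 2] :
    Space (Reflections.qPlus m F) m m where
  nondeg := qPlus_nondegenerate
  card_ι := by rw [Fintype.card_sum, Fintype.card_fin]; omega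
  le := le_rfl
  sing i := Pi.single (Sum.inl i) 1
  sing_li := Fintype.linearIndependent_iff.2 fun c hc i => by
    simpa [Finset.sum_apply, Pi.single_apply] using congrFun hc (Sum.inl i)
  sing_Q i := by simp [Reflections.coe_qPlus, Cfsg.quadFormPlus]
  sing_perp i j := by simp [polar_qPlus']
  unit i := Pi.single (Sum.inl i) 1 + Pi.single (Sum.inr i) 1
  unit_li := Fintype.linearIndependent_iff.2 fun c hc i => by
    simpa [Finset.sum_apply, Pi.single_apply] using congrFun hc (Sum.inl i)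
  unit_Q i := by simp [Reflections.coe_qPlus, Cfsg.quadFormPlus, Pi.single_apply]
  unit_perp i j h := by simp [polar_qPlus', Pi.single_apply, h, h.symm]
  ts_le U hU := by
    have := finrank_ts_le qPlus_nondegenerate U hU
    rw [Fintype.card_sum, Fintype.card_fin] at this
    omega

theorem classHom_of_stab (g : PlusIso m F) (h : ∀ v ∈ CG26.Plus.std m F, act g v ∈ CG26.Plus.std m F) :
    classHom m F g = 1 := by
  have he : imgSub g (CG26.Plus.std m F) = CG26.Plus.std m F :=
    Submodule.eq_of_le_of_finrank_eq (fun x hx => by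
      obtain ⟨y, hy, rfl⟩ := mem_imgSub.1 hx
      exact h y hy) (finrank_imgSub _ _)
  rw [classHom_eq_one_iff, fixDim, he, inf_idem, CG26.Plus.std_finrank, Nat.sub_self]
  exact ⟨0, rfl⟩

theorem exists_plus_rep (k : ℕ) (hk : 2 * k ≤ m) : ∃ g : PlusIso m F, g * g = 1 ∧ rk g = 2 * k ∧ IsAltInv g ∧
    (∀ y, nmap g y ∈ CG26.Plus.std m F) ∧ ∀ v ∈ CG26.Plus.std m F, act g v = v := by
  let e : Fin k ⊕ Fin k ≃ Fin (2 * k) := finSumFinEquiv.trans (finCongr (two_mul k).symm)
  obtain ⟨π, hπ⟩ : ∃ π : Fin (2 * k) → Fin (2 * k), π = fun i => e (e.symm i).swap := ⟨_, rfl⟩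
  obtain ⟨w, hw⟩ : ∃ w : Fin (2 * k) → Fin m ⊕ Fin m → F,
      w = fun i => Pi.single (Sum.inl (Fin.castLE hk i)) 1 := ⟨_, rfl⟩
  obtain ⟨g, h1, h2, h3, h4⟩ := exists_alt_inv (Q := Reflections.qPlus m F) qPlus_nondegenerate w π
    (fun i => by simp [hπ]) (fun i h => by
      rw [hπ] at h
      have h' := congrArg e.symm h
      simp only [Equiv.symm_apply_apply] at h'
      rcases hi : e.symm i with a | a <;> simp [hi] at h')
    (Fintype.linearIndependent_iff.2 fun c hc i => by
      simpa [hw, Finset.sum_apply, Pi.single_apply] using congrFun hc (Sum.inl (Fin.castLE hk i)))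
    (fun i => by simp [hw, Reflections.coe_qPlus, Cfsg.quadFormPlus])
    (fun i j => by simp [hw, polar_qPlus'])
  refine ⟨g, h1, h2, h3, fun y => ?_, fun v hv => act_of_perp h4 fun i => ?_⟩
  · rw [h4]
    refine Submodule.sum_mem _ fun i _ => Submodule.smul_mem _ _ fun j => ?_
    simp [hw]
  · have : ∀ j, v (Sum.inr j) = 0 := hv
    simp [hw, polar_qPlus', this]

theorem classHom_alt (g : PlusIso m F) (hg : g * g = 1) (ha : IsAltInv g) : classHom m F g = 1 := by
  obtain ⟨k, hk⟩ := even_rk_of_alt qPlus_nondegenerate hg ha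
  have := rk_le_of_alt (plusSpace m F) ha
  obtain ⟨g₀, h1, h2, h3, -, h5⟩ := exists_plus_rep (F := F) k (by omega : 2 * k ≤ m)
  obtain ⟨c, rfl⟩ := isConj_iff.1 (isConj_of_inv qPlus_nondegenerate h1 hg (by omega) (iff_of_true h3 ha))
  rw [map_mul, map_mul, map_inv, classHom_of_stab g₀ (fun v hv => by rwa [h5 v hv]), mul_one, mul_inv_cancel]

theorem classHom_centralises (g x : PlusIso m F) (hg : g * g = 1) (ha : IsAltInv g) (hrk : rk g = m)
    (hx : x * g = g * x) : classHom m F x = 1 := by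
  obtain ⟨k, hk⟩ := even_rk_of_alt qPlus_nondegenerate hg ha
  obtain ⟨g₀, h1, h2, h3, h4, -⟩ := exists_plus_rep (F := F) k (by omega : 2 * k ≤ m)
  obtain ⟨c, rfl⟩ := isConj_iff.1 (isConj_of_inv qPlus_nondegenerate h1 hg (by omega) (iff_of_true h3 ha))
  have hcomm : (c⁻¹ * x * c) * g₀ * (c⁻¹ * x * c)⁻¹ = g₀ := by
    calc (c⁻¹ * x * c) * g₀ * (c⁻¹ * x * c)⁻¹ = c⁻¹ * (x * (c * g₀ * c⁻¹)) * x⁻¹ * c := by group
      _ = _ := by rw [hx]; group
  have hr : LinearMap.range (nmap g₀) = CG26.Plus.std m F :=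
    Submodule.eq_of_le_of_finrank_eq (by rintro _ ⟨y, rfl⟩; exact h4 y)
      (by rw [CG26.Plus.std_finrank]; show rk g₀ = m; omega)
  have hst : classHom m F (c⁻¹ * x * c) = 1 := classHom_of_stab _ fun v hv => by
    rw [← hr] at hv ⊢
    obtain ⟨y, rfl⟩ := hv
    refine ⟨act (c⁻¹ * x * c) y, ?_⟩
    rw [← nmap_conj, hcomm]
  rwa [map_mul, map_mul, map_inv, mul_comm _ (classHom m F x), inv_mul_cancel_right] at hst

end plus

section minus

variable {F : Type*} [Field F] [Fintype F] [CharP F 2] {k : ℕ} {a b : F}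

theorem polar_minusQF (x y : (Fin k ⊕ Fin k) ⊕ Fin 2 → F) :
    polar ⇑(minusQF F k a b) x y = (∑ i, (x (.inl (.inl i)) * y (.inl (.inr i)) + y (.inl (.inl i)) * x (.inl (.inr i)))) +
      (2 * x (.inr 0) * y (.inr 0) + a * (x (.inr 0) * y (.inr 1) + y (.inr 0) * x (.inr 1)) +
        b * (2 * x (.inr 1) * y (.inr 1))) := by
  simp only [coe_minusQF, QuadraticMap.polar, Cfsg.quadFormMinus, Pi.add_apply, mul_add, add_mul,
    Finset.sum_add_distrib]
  ring

theorem reflGroup_minus (hab : ∀ z₁ z₂ : F, z₁ ^ 2 + a * z₁ * z₂ + b * z₂ ^ 2 = 0 → z₁ = 0 ∧ z₂ = 0) :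
    UnitaryOrthogonal.reflGroup (minusQF F k a b) = ⊤ := by
  have hQ := minusQF_nondegenerate k a b hab
  by_cases h : Nat.card F ≠ 2 ∨ k ≠ 1
  · refine reflGroup_eq_top_charTwo hQ (h.imp_right fun hk => ?_)
    rw [Module.finrank_fintype_fun_eq_card, Fintype.card_sum, Fintype.card_sum, Fintype.card_fin, Fintype.card_fin]
    omega
  push Not at h
  have hk : k = 1 := h.2
  have hab' : UnitaryOrthogonal.BinAniso a b := hab
  let e : (minusQF F k a b).IsometryEquiv (UnitaryOrthogonal.qMinus k F a b) :=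
    { LinearEquiv.refl F _ with
      map_app' := fun v => by
        show UnitaryOrthogonal.qMinus k F a b v = minusQF F k a b v
        rw [UnitaryOrthogonal.qMinus_apply, coe_minusQF] }
  have he : UnitaryOrthogonal.elemGroup (minusQF F k a b) = ⊤ :=
    UnitaryOrthogonal.elemGroup_congr ((e.trans (UnitaryOrthogonal.qMinusIso k F a b)).symm)
      (UnitaryOrthogonal.elemGroup_hypSum hab'.nonsing
        (UnitaryOrthogonal.elemGroup_of_refl hab'.reflGroup_eq_top) k)
  refine top_unique (he ▸ sup_le le_rfl ?_)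
  rw [UnitaryOrthogonal.eichGroup, Subgroup.closure_le]
  rintro _ ⟨u, z, hu, hz, rfl⟩
  by_cases hu0 : u = 0
  · have : UnitaryOrthogonal.eich (minusQF F k a b) u z = 1 := by
      refine UnitaryOrthogonal.orth_ext fun x => ?_
      rw [UnitaryOrthogonal.eich_apply hu hz, hu0]
      simp
    rw [this]; exact one_mem _
  by_cases hQz : minusQF F k a b z = 0
  · obtain ⟨c, rfl⟩ : ∃ c : F, z = c • u := by
      by_contra hno
      push Not at hno
      have hli : LinearIndependent F ![z, u] := by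
        rw [linearIndependent_fin2]
        exact ⟨by simpa using hu0, fun c => by simpa using (hno c).symm⟩
      have h2 := finrank_le_of_totally_singular_minus k a b hab (Submodule.span F (Set.range ![z, u])) (by
        intro w hw
        obtain ⟨d, rfl⟩ := (Submodule.mem_span_range_iff_exists_fun F).1 hw
        rw [← coe_minusQF, Fin.sum_univ_two, QuadraticMap.map_add ⇑(minusQF F k a b), QuadraticMap.map_smul,
          QuadraticMap.map_smul, polar_smul_left, polar_smul_right]
        simp only [Matrix.cons_val_zero, Matrix.cons_val_one, hQz, hu]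
        rw [polar_comm, hz]
        simp)
      rw [finrank_span_eq_card hli, Fintype.card_fin, hk] at h2
      omega
    have := UnitaryOrthogonal.eich_add_smul (Q := minusQF F k a b) hu (polar_zero_right _ u) c
    rw [zero_add, UnitaryOrthogonal.eich_zero] at this
    rw [this]; exact one_mem _
  · rw [UnitaryOrthogonal.eich_eq_rf_mul_rf hu hz hQz]
    exact mul_mem (UnitaryOrthogonal.rf_mem_reflGroup _) (UnitaryOrthogonal.rf_mem_reflGroup _)

/-- `z = (0, (1, 0))`. -/
def zvec (k : ℕ) (F : Type*) [Field F] : (Fin k ⊕ Fin k) ⊕ Fin 2 → F := Pi.single (Sum.inr 0) 1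

theorem minusQF_zvec : minusQF F k a b (zvec k F) = 1 := by
  simp [zvec, coe_minusQF, Cfsg.quadFormMinus, Pi.single_apply]

noncomputable def minusSpace (k : ℕ) (a b : F)
    (hab : ∀ z₁ z₂ : F, z₁ ^ 2 + a * z₁ * z₂ + b * z₂ ^ 2 = 0 → z₁ = 0 ∧ z₂ = 0) :
    Space (minusQF F k a b) (k + 1) k where
  nondeg := minusQF_nondegenerate k a b hab
  card_ι := by rw [Fintype.card_sum, Fintype.card_sum, Fintype.card_fin, Fintype.card_fin]; omega
  le := by omega
  sing i := Pi.single (Sum.inl (Sum.inl i)) 1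
  sing_li := Fintype.linearIndependent_iff.2 fun c hc i => by
    simpa [Finset.sum_apply, Pi.single_apply] using congrFun hc (Sum.inl (Sum.inl i))
  sing_Q i := by simp [coe_minusQF, Cfsg.quadFormMinus, Pi.single_apply]
  sing_perp i j := by simp [polar_minusQF]
  unit := Fin.cons (zvec k F) fun i => Pi.single (Sum.inl (Sum.inl i)) 1 + Pi.single (Sum.inl (Sum.inr i)) 1
  unit_li := Fintype.linearIndependent_iff.2 fun c hc i => by
    cases i using Fin.cases with
    | zero => simpa [Fin.sum_univ_succ, Finset.sum_apply, zvec, Pi.single_apply] using congrFun hc (Sum.inr 0)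
    | succ i =>
      simpa [Fin.sum_univ_succ, Finset.sum_apply, zvec, Pi.single_apply] using congrFun hc (Sum.inl (Sum.inl i))
  unit_Q i := by
    cases i using Fin.cases with
    | zero => exact minusQF_zvec
    | succ i => simp [coe_minusQF, Cfsg.quadFormMinus, Pi.single_apply]
  unit_perp i j h := by
    cases i using Fin.cases with
    | zero =>
      cases j using Fin.cases with
      | zero => exact absurd rfl h
      | succ j => simp [polar_minusQF, zvec, Pi.single_apply]
    | succ i =>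
      cases j using Fin.cases with
      | zero => simp [polar_minusQF, zvec, Pi.single_apply]
      | succ j =>
        have h' : i ≠ j := fun e => h (congrArg _ e)
        simp [polar_minusQF, Pi.single_apply, h', h'.symm]
  ts_le U hU := finrank_le_of_totally_singular_minus k a b hab U fun u hu => by
    rw [← coe_minusQF]; exact hU u hu

theorem parity_alt_minus (hab : ∀ z₁ z₂ : F, z₁ ^ 2 + a * z₁ * z₂ + b * z₂ ^ 2 = 0 → z₁ = 0 ∧ z₂ = 0)
    (δ : ↥(Cfsg.isometryGroup F ⇑(minusQF F k a b)) →* Multiplicative (ZMod 2))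
    (hδ : ∀ v, minusQF F k a b v ≠ 0 → δ (refl (minusQF F k a b) v) = Multiplicative.ofAdd 1)
    (g : ↥(Cfsg.isometryGroup F ⇑(minusQF F k a b))) (hg : g * g = 1) (ha : IsAltInv g) : δ g = 1 := by
  let S := minusSpace k a b hab
  obtain ⟨j, hj⟩ := even_rk_of_alt S.nondeg hg ha
  have := rk_le_of_alt S ha
  have hjk : 2 * j ≤ k := by omega
  let e : Fin j ⊕ Fin j ≃ Fin (2 * j) := finSumFinEquiv.trans (finCongr (two_mul j).symm)
  let w : Fin (2 * j) → _ := fun i => S.sing (Fin.castLE hjk i)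
  obtain ⟨g₀, h1, h2, h3, h4⟩ := exists_alt_inv S.nondeg w
    (fun i => e (e.symm i).swap) (fun i => by simp) (fun i h => by
      have h' := congrArg e.symm h
      rw [Equiv.symm_apply_apply] at h'
      rcases hi : e.symm i with x | x <;> simp [hi] at h')
    (S.sing_li.comp _ (Fin.castLE_injective _)) (fun i => S.sing_Q _) (fun i j => S.sing_perp _ _)
  have hz : ∀ i, polar ⇑(minusQF F k a b) (zvec k F) (w i) = 0 := fun i => by
    simp [w, S, minusSpace, polar_minusQF, zvec, Pi.single_apply]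
  have hp := parity_alt δ hδ minusQF_zvec j (fun i => w (e (.inl i))) (fun i => w (e (.inr i)))
    (fun i => S.sing_Q _) (fun i => S.sing_Q _) (fun i => hz _) (fun i => hz _)
    (fun i l => S.sing_perp _ _) (fun i l => S.sing_perp _ _) (fun i l => S.sing_perp _ _) g₀ (fun y => by
      rw [h4, ← Equiv.sum_comp e, Fintype.sum_sum_type, Finset.sum_add_distrib]
      simp)
  obtain ⟨c, rfl⟩ := isConj_iff.1 (isConj_of_inv S.nondeg h1 hg (by omega) (iff_of_true h3 ha))
  rw [map_mul, map_mul, map_inv, hp, mul_one, mul_inv_cancel]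

end minus

end Cfsg.Agent.Forms59.Inv
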