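import Cfsg.Prelude
import Cfsg.Agent.Lib.Forms.Sesq

/-!
Bilinear forms preserved by a unipotent matrix of given Jordan type: parity conditions and existence.
-/

set_option autoImplicit false
set_option linter.unusedSectionVars false

namespace Cfsg.Agent.Forms59.Jordan

open Matrix
open scoped Matrix

variable {F : Type*} [Field F] {t : ℕ} {d : Fin t → ℕ}

/-- The index type of a Jordan type. -/
abbrev Ix (d : Fin t → ℕ) := (k : Fin t) × Fin (d k)

/-- The unipotent matrix of type `d`. -/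
abbrev Umat (F : Type*) [Field F] (d : Fin t → ℕ) : Matrix (Ix d) (Ix d) F := Cfsg.jordanTypeMatrix d F

/-- Its nilpotent part. -/
abbrev Nmat (F : Type*) [Field F] (d : Fin t → ℕ) : Matrix (Ix d) (Ix d) F := Umat F d - 1

/-- Extension of a vector by zero. -/
def ext0 (x : Ix d → F) (k : Fin t) (b : ℕ) : F := if h : b < d k then x ⟨k, ⟨b, h⟩⟩ else 0

theorem ext0_coe (x : Ix d → F) (k : Fin t) (a : Fin (d k)) : ext0 x k (a : ℕ) = x ⟨k, a⟩ := by
  simp [ext0, a.2]

theorem ext0_eq_zero (x : Ix d → F) (k : Fin t) {b : ℕ} (h : d k ≤ b) : ext0 x k b = 0 := by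
  simp [ext0, Nat.not_lt.2 h]

theorem Nmat_apply_ne {k l : Fin t} (h : k ≠ l) (a : Fin (d k)) (b : Fin (d l)) :
    Nmat F d ⟨k, a⟩ ⟨l, b⟩ = 0 := by
  show Cfsg.jordanTypeMatrix d F ⟨k, a⟩ ⟨l, b⟩ - (1 : Matrix (Ix d) (Ix d) F) ⟨k, a⟩ ⟨l, b⟩ = 0
  rw [Cfsg.jordanTypeMatrix, blockDiagonal'_apply_ne _ _ _ h,
    Matrix.one_apply_ne (fun e => h (congrArg Sigma.fst e)), sub_zero]

theorem Nmat_apply_same (k : Fin t) (a b : Fin (d k)) :
    Nmat F d ⟨k, a⟩ ⟨k, b⟩ = if (a : ℕ) = (b : ℕ) + 1 then 1 else 0 := by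
  show Cfsg.jordanTypeMatrix d F ⟨k, a⟩ ⟨k, b⟩ - (1 : Matrix (Ix d) (Ix d) F) ⟨k, a⟩ ⟨k, b⟩ = _
  rw [Cfsg.jordanTypeMatrix, blockDiagonal'_apply_eq]
  by_cases h : a = b
  · subst h; simp [Cfsg.jordanBlock]
  · have h' : (a : ℕ) ≠ b := fun e => h (Fin.ext e)
    rw [Matrix.one_apply_ne (show (⟨k, a⟩ : Ix d) ≠ ⟨k, b⟩ by simpa using h), sub_zero]
    simp [Cfsg.jordanBlock, h']

theorem Nmat_mulVec (x : Ix d → F) (k : Fin t) (a : Fin (d k)) :
    (Nmat F d *ᵥ x) ⟨k, a⟩ = if 1 ≤ (a : ℕ) then ext0 x k ((a : ℕ) - 1) else 0 := by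
  rw [Matrix.mulVec, dotProduct, Fintype.sum_sigma, Finset.sum_eq_single k
    (fun l _ hl => Finset.sum_eq_zero fun b _ => by rw [Nmat_apply_ne (Ne.symm hl), zero_mul])
    (fun h => absurd (Finset.mem_univ k) h)]
  simp only [Nmat_apply_same, ite_mul, one_mul, zero_mul]
  by_cases h : 1 ≤ (a : ℕ)
  · have hb : (a : ℕ) - 1 < d k := by omega
    rw [if_pos h, Finset.sum_eq_single ⟨(a : ℕ) - 1, hb⟩ (fun b _ hb' => if_neg fun e =>
      hb' (Fin.ext (by simp only; omega))) (fun h' => absurd (Finset.mem_univ _) h')]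
    rw [if_pos (by simp only; omega)]
    simp [ext0, hb]
  · rw [if_neg h]; exact Finset.sum_eq_zero fun b _ => if_neg (by omega)

theorem Nmat_transpose_mulVec (x : Ix d → F) (k : Fin t) (a : Fin (d k)) :
    ((Nmat F d)ᵀ *ᵥ x) ⟨k, a⟩ = ext0 x k ((a : ℕ) + 1) := by
  rw [Matrix.mulVec, dotProduct, Fintype.sum_sigma, Finset.sum_eq_single k
    (fun l _ hl => Finset.sum_eq_zero fun b _ => by rw [transpose_apply, Nmat_apply_ne hl, zero_mul])
    (fun h => absurd (Finset.mem_univ k) h)]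
  simp only [transpose_apply, Nmat_apply_same, ite_mul, one_mul, zero_mul]
  by_cases h : (a : ℕ) + 1 < d k
  · rw [Finset.sum_eq_single ⟨(a : ℕ) + 1, h⟩ (fun b _ hb' => if_neg fun e =>
      hb' (Fin.ext e)) (fun h' => absurd (Finset.mem_univ _) h'), if_pos rfl]
    simp [ext0, h]
  · rw [ext0_eq_zero _ _ (by omega)]
    exact Finset.sum_eq_zero fun b _ => if_neg (by omega)

theorem Nmat_pow_mulVec : ∀ (i : ℕ) (x : Ix d → F) (k : Fin t) (a : Fin (d k)),
    ((Nmat F d) ^ i *ᵥ x) ⟨k, a⟩ = if i ≤ (a : ℕ) then ext0 x k ((a : ℕ) - i) else 0 := by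
  intro i
  induction i with
  | zero => intro x k a; simp [ext0, a.2]
  | succ i ih =>
    intro x k a
    rw [pow_succ, ← mulVec_mulVec, ih]
    have := a.2
    by_cases h : i + 1 ≤ (a : ℕ)
    · rw [if_pos (by omega), if_pos h, ext0, dif_pos (show (a : ℕ) - i < d k by omega), Nmat_mulVec,
        if_pos (by simp only; omega)]
      rfl
    · rw [if_neg h]
      by_cases h' : i ≤ (a : ℕ)
      · rw [if_pos h', ext0, dif_pos (show (a : ℕ) - i < d k by omega), Nmat_mulVec,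
          if_neg (by simp only; omega)]
      · rw [if_neg h']

theorem Nmat_pow_transpose_mulVec : ∀ (i : ℕ) (x : Ix d → F) (k : Fin t) (a : Fin (d k)),
    (((Nmat F d) ^ i)ᵀ *ᵥ x) ⟨k, a⟩ = ext0 x k ((a : ℕ) + i) := by
  intro i
  induction i with
  | zero => intro x k a; simp [ext0, a.2]
  | succ i ih =>
    intro x k a
    rw [pow_succ, transpose_mul, ← mulVec_mulVec, Nmat_transpose_mulVec]
    by_cases h : (a : ℕ) + 1 < d k
    · rw [ext0, dif_pos h, ih]; congr 1; simp only; omega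
    · rw [ext0, dif_neg h, ext0_eq_zero _ _ (by omega)]

/-- A vector killed by `N` is fixed by `U` and by its inverse. -/
theorem inv_fix {U' : Matrix (Ix d) (Ix d) F} (h : U' * Umat F d = 1) {w : Ix d → F}
    (hw : Nmat F d *ᵥ w = 0) (i : ℕ) : (-U') ^ i *ᵥ w = (-1 : F) ^ i • w := by
  induction i with
  | zero => simp
  | succ i ih =>
    have hU : Umat F d *ᵥ w = w := by rwa [sub_mulVec, one_mulVec, sub_eq_zero] at hw
    have hU' : U' *ᵥ w = w := by
      calc U' *ᵥ w = U' *ᵥ (Umat F d *ᵥ w) := by rw [hU]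
        _ = w := by rw [mulVec_mulVec, h, one_mulVec]
    rw [pow_succ', ← mulVec_mulVec, ih, mulVec_smul, neg_mulVec, hU', pow_succ, mul_smul]
    simp

/-- Moving powers of `N` across an invariant form. -/
theorem exists_adjoint {P : Matrix (Ix d) (Ix d) F} (hu : IsUnit P) (hP : (Umat F d)ᵀ * P * Umat F d = P) :
    ∃ U', U' * Umat F d = 1 ∧ Umat F d * U' = 1 ∧ Commute U' (Nmat F d) ∧
      ∀ i, ((Nmat F d) ^ i)ᵀ * P = P * ((-U') ^ i * (Nmat F d) ^ i) := by
  obtain ⟨p, rfl⟩ := hu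
  set U := Umat F d
  set N := Nmat F d
  have h1 : ((p⁻¹ : (Matrix (Ix d) (Ix d) F)ˣ) : Matrix (Ix d) (Ix d) F) * Uᵀ * p * U = 1 := by
    rw [mul_assoc _ Uᵀ, mul_assoc _ (Uᵀ * (p : Matrix (Ix d) (Ix d) F)), hP, Units.inv_mul]
  obtain ⟨U', hU'⟩ : ∃ U', U' = ((p⁻¹ : (Matrix (Ix d) (Ix d) F)ˣ) : Matrix (Ix d) (Ix d) F) * Uᵀ * p :=
    ⟨_, rfl⟩
  rw [← hU'] at h1
  have h2 : U * U' = 1 := mul_eq_one_comm.1 h1
  have hc : Commute U' N := by
    show U' * (U - 1) = (U - 1) * U'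
    rw [mul_sub, sub_mul, h1, h2, mul_one, one_mul]
  have hN : Nᵀ * p = p * ((-U') * N) := by
    have : Uᵀ * (p : Matrix (Ix d) (Ix d) F) = p * U' := by
      rw [hU', ← mul_assoc, ← mul_assoc, Units.mul_inv, one_mul]
    show (U - 1)ᵀ * _ = _ * ((-U') * (U - 1))
    rw [transpose_sub, transpose_one, sub_mul, one_mul, this, neg_mul, mul_sub U', h1, mul_one, neg_sub,
      mul_sub, mul_one]
  refine ⟨U', h1, h2, hc, fun i => ?_⟩
  induction i with
  | zero => simp
  | succ i ih =>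
    rw [pow_succ, transpose_mul, mul_assoc, ih, ← mul_assoc, hN, mul_assoc]
    congr 1
    rw [pow_succ (-U') i]
    have hci : Commute N ((-U') ^ i) := (hc.symm.neg_right).pow_right i
    rw [hci.mul_mul_mul_comm, ← pow_succ', ← pow_succ', pow_succ, pow_succ]

/-- An invertible alternating matrix has the standard shape. -/
theorem exists_symp_normal {ι : Type*} [Fintype ι] [DecidableEq ι] {M : Matrix ι ι F} (hu : IsUnit M)
    (halt : ∀ x, x ⬝ᵥ M *ᵥ x = 0) :
    ∃ (m : ℕ) (e : ι ≃ Fin m ⊕ Fin m) (c : Matrix ι ι F), IsUnit c ∧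
      cᵀ * M * c = (Matrix.J (Fin m) F).submatrix e e := by
  classical
  let B : LinearMap.BilinForm F (ι → F) := Matrix.toBilin' M
  have hB : ∀ x y, B x y = x ⬝ᵥ M *ᵥ y := fun x y => Matrix.toBilin'_apply' M x y
  obtain ⟨m, k, b, hef, hee, hff, hrad⟩ :=
    Cfsg.Agent.Forms.exists_symplectic_basis_with_radical B (fun x => by rw [hB, halt])
  have hk : k = 0 := by
    by_contra hk
    have h0 : b (Sum.inr ⟨0, Nat.pos_of_ne_zero hk⟩) = 0 :=
      (nondegenerate_toBilin'_iff.2 (M.nondegenerate_of_det_ne_zero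
        ((Matrix.isUnit_iff_isUnit_det M).1 hu).ne_zero)).1 _ (hrad _)
    exact b.ne_zero _ h0
  subst hk
  let g : (Fin m ⊕ Fin m) ⊕ Fin 0 ≃ Fin m ⊕ Fin m := (Equiv.sumEmpty _ _).trans (Equiv.sumComm _ _)
  let b' := b.reindex g
  let e : ι ≃ Fin m ⊕ Fin m := (Pi.basisFun F ι).indexEquiv b'
  refine ⟨m, e, Matrix.of fun i j => b' (e j) i, ?_, ?_⟩
  · rw [← Matrix.linearIndependent_cols_iff_isUnit]
    exact b'.linearIndependent.comp e e.injective
  refine Matrix.ext fun i j => ?_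
  have hent : (Matrix.of (fun i j => b' (e j) i))ᵀ * M * (Matrix.of fun i j => b' (e j) i) =
      Matrix.of fun i j => B (b' (e i)) (b' (e j)) := by
    refine Matrix.ext fun i j => ?_
    rw [Matrix.of_apply, hB, mul_assoc]
    rfl
  have hneg := LinearMap.IsAlt.neg (show B.IsAlt from fun x => by rw [hB, halt])
  rw [hent, Matrix.of_apply, submatrix_apply]
  simp only [b', Module.Basis.reindex_apply]
  rcases e i with a | a <;> rcases e j with c | c <;>
    simp [g, Matrix.J, hee, hff, hef, Matrix.one_apply, eq_comm]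
  rw [← hneg, hef]; simp [eq_comm]

/-- An invertible alternating matrix has even size. -/
theorem even_card_of_alt {ι : Type*} [Fintype ι] [DecidableEq ι] {M : Matrix ι ι F} (hu : IsUnit M)
    (halt : ∀ x, x ⬝ᵥ M *ᵥ x = 0) : Even (Fintype.card ι) := by
  obtain ⟨m, e, -⟩ := exists_symp_normal hu halt
  exact ⟨m, by rw [Fintype.card_congr e, Fintype.card_sum, Fintype.card_fin]⟩

/-- The multiplicity of `j` is even when the form induced on the blocks of size `j` is alternating. -/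
theorem even_of_form {P : Matrix (Ix d) (Ix d) F} (hu : IsUnit P)
    (hP : (Umat F d)ᵀ * P * Umat F d = P) {j : ℕ} (hj : 0 < j)
    (halt : ∀ x, (Nmat F d) ^ j *ᵥ x = 0 → x ⬝ᵥ P *ᵥ ((Nmat F d) ^ (j - 1) *ᵥ x) = 0) :
    Even (Finset.univ.filter (fun k : Fin t => d k = j)).card := by
  classical
  rw [← Fintype.card_subtype]
  obtain ⟨U', h1, h2, hc, hadj⟩ := exists_adjoint hu hP
  set N := Nmat F d with hNdef
  let E : Matrix (Ix d) {k : Fin t // d k = j} F := fun p s => if p.1 = s.1 ∧ (p.2 : ℕ) = 0 then 1 else 0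
  have hE : ∀ (c : {k : Fin t // d k = j} → F) k (a : Fin (d k)),
      (E *ᵥ c) ⟨k, a⟩ = if h : d k = j ∧ (a : ℕ) = 0 then c ⟨k, h.1⟩ else 0 := by
    intro c k a
    rw [Matrix.mulVec, dotProduct]
    split
    · rename_i h
      rw [Finset.sum_eq_single ⟨k, h.1⟩ (fun s _ hs => mul_eq_zero_of_left (if_neg fun e => hs (Subtype.ext e.1.symm)) _)
        (fun h' => absurd (Finset.mem_univ _) h')]
      simp [E, h.2]
    · rename_i h
      exact Finset.sum_eq_zero fun s _ => mul_eq_zero_of_left (if_neg fun e => h ⟨by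
        have := s.2; exact (congrArg d e.1).trans this, e.2⟩) _
  have hker : ∀ c, N ^ j *ᵥ (E *ᵥ c) = 0 := by
    intro c
    funext ⟨k, a⟩
    rw [Nmat_pow_mulVec, Pi.zero_apply]
    split
    · have := a.2
      rw [ext0, dif_pos (by omega), hE, dif_neg]
      simp only
      omega
    · rfl
  have hM : ∀ c, (Eᵀ * P * N ^ (j - 1) * E) *ᵥ c = Eᵀ *ᵥ (P *ᵥ (N ^ (j - 1) *ᵥ (E *ᵥ c))) := fun c => by
    simp only [mulVec_mulVec, Matrix.mul_assoc]
  refine even_card_of_alt (F := F) (M := Eᵀ * P * N ^ (j - 1) * E) ?_ (fun c => ?_)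
  swap
  · rw [hM, dotProduct_mulVec, vecMul_transpose]
    exact halt _ (hker c)
  rw [← Matrix.mulVec_injective_iff_isUnit]
  intro c c' hcc'
  rw [← sub_eq_zero, ← mulVec_sub] at hcc'
  rw [← sub_eq_zero]
  generalize c - c' = y at hcc' ⊢
  rw [hM] at hcc'
  set w := N ^ (j - 1) *ᵥ (E *ᵥ y) with hwdef
  set f := P *ᵥ w with hfdef
  have hNw : N *ᵥ w = 0 := by
    rw [hwdef, mulVec_mulVec, ← pow_succ', Nat.sub_add_cancel hj, hker]
  have hNf : Nᵀ *ᵥ f = 0 := by
    have h := hadj 1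
    rw [pow_one, pow_one] at h
    rw [hfdef, mulVec_mulVec, h, ← mulVec_mulVec, ← mulVec_mulVec, hNw, mulVec_zero, mulVec_zero]
  have hf1 : ∀ k (a : Fin (d k)), (a : ℕ) ≠ 0 → f ⟨k, a⟩ = 0 := by
    intro k a ha
    have := a.2
    have h := congrFun hNf ⟨k, ⟨(a : ℕ) - 1, by omega⟩⟩
    rw [hNdef, Nmat_transpose_mulVec] at h
    simpa [ext0, Nat.sub_add_cancel (Nat.pos_of_ne_zero ha)] using h
  have hf0 : ∀ k (a : Fin (d k)), d k ≤ j → f ⟨k, a⟩ = 0 := by
    intro k a hk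
    by_cases ha : (a : ℕ) = 0
    swap
    · exact hf1 k a ha
    rcases Nat.lt_or_eq_of_le hk with hk | hk
    · have key : P * N ^ (j - 1) = (N ^ (j - 1))ᵀ * P * (-Umat F d) ^ (j - 1) := by
        have hcU : Commute (Umat F d) N := (Commute.refl _).sub_right (Commute.one_right _)
        rw [hadj, mul_assoc, mul_assoc, ← ((hcU.neg_left).pow_pow _ _).eq, ← mul_assoc ((-U') ^ (j - 1)),
          ← Commute.mul_pow (show Commute (-U') (-Umat F d) by
            show (-U') * (-Umat F d) = (-Umat F d) * (-U'); rw [neg_mul_neg, neg_mul_neg, h1, h2]),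
          neg_mul_neg, h1, one_pow, one_mul]
      rw [hfdef, hwdef, mulVec_mulVec, key, ← mulVec_mulVec, ← mulVec_mulVec, hNdef,
        Nmat_pow_transpose_mulVec, ext0_eq_zero _ _ (by omega)]
    · have hcol : ∀ z : Ix d → F, (Eᵀ *ᵥ z) ⟨k, hk⟩ = z ⟨k, a⟩ := by
        intro z
        rw [Matrix.mulVec, dotProduct, Finset.sum_eq_single ⟨k, a⟩]
        · show (if k = k ∧ (a : ℕ) = 0 then (1 : F) else 0) * _ = _
          rw [if_pos ⟨rfl, ha⟩, one_mul]
        · rintro ⟨l, b⟩ _ hne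
          refine mul_eq_zero_of_left (if_neg fun e => hne ?_) _
          obtain ⟨rfl, hb⟩ := e
          exact Sigma.ext rfl (heq_of_eq (Fin.ext (by simp only at hb ⊢; omega)))
        · exact fun h' => absurd (Finset.mem_univ _) h'
      rw [← hcol f, hcc']; rfl
  let g : Ix d → F := fun p => if (p.2 : ℕ) = j then ext0 f p.1 0 else 0
  have hfg : (N ^ j)ᵀ *ᵥ g = f := by
    funext ⟨k, a⟩
    rw [hNdef, Nmat_pow_transpose_mulVec]
    by_cases h : (a : ℕ) + j < d k
    · rw [ext0, dif_pos h]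
      by_cases ha : (a : ℕ) = 0
      · simp [g, ha]
        rw [← ext0_coe f k a, ha]
      · simp [g, ha, hf1 k a ha]
    · rw [ext0, dif_neg h]
      by_cases ha : (a : ℕ) = 0
      · exact (hf0 k a (by omega)).symm
      · exact (hf1 k a ha).symm
  obtain ⟨p, hp⟩ := id hu
  obtain ⟨z, hz⟩ : ∃ z, w = N ^ j *ᵥ z := by
    refine ⟨(-U') ^ j *ᵥ (((p⁻¹ : (Matrix (Ix d) (Ix d) F)ˣ) : Matrix (Ix d) (Ix d) F) *ᵥ g), ?_⟩
    refine Matrix.mulVec_injective_iff_isUnit.2 hu ?_
    show P *ᵥ w = P *ᵥ _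
    rw [← hfdef, mulVec_mulVec _ (N ^ j), ← (((hc.neg_left).pow_pow j j)).eq, mulVec_mulVec _ P, ← hadj, ← mulVec_mulVec,
      mulVec_mulVec _ P, ← hp, Units.mul_inv, one_mulVec, hfg]
  funext ⟨k, hk⟩
  have ha : j - 1 < d k := by omega
  have h := congrFun hz ⟨k, ⟨j - 1, ha⟩⟩
  rw [hwdef, hNdef, Nmat_pow_mulVec, Nmat_pow_mulVec, if_pos le_rfl, if_neg (by simp only; omega)] at h
  simpa [ext0, hE, hk, hj] using h

/-- Parity for alternating forms. -/
theorem even_of_alt {P : Matrix (Ix d) (Ix d) F} (hu : IsUnit P)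
    (hP : (Umat F d)ᵀ * P * Umat F d = P) (halt : ∀ x, x ⬝ᵥ P *ᵥ x = 0) {j : ℕ} (hj : Odd j) :
    Even (Finset.univ.filter (fun k : Fin t => d k = j)).card := by
  obtain ⟨U', h1, h2, hc, hadj⟩ := exists_adjoint hu hP
  obtain ⟨i, rfl⟩ := hj
  refine even_of_form hu hP (by omega) fun x hx => ?_
  have h0 := halt ((Nmat F d) ^ i *ᵥ x)
  rw [dotProduct_comm, ← dotProduct_transpose_mulVec, dotProduct_comm, mulVec_mulVec, mulVec_mulVec, hadj,
    mul_assoc P, mul_assoc, ← pow_add, ← mulVec_mulVec, ← mulVec_mulVec,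
    inv_fix h1 (by rw [mulVec_mulVec, ← pow_succ', show i + i + 1 = 2 * i + 1 by omega, hx]),
    mulVec_smul, smul_dotProduct, smul_eq_mul, dotProduct_comm] at h0
  rw [show 2 * i + 1 - 1 = i + i by omega]
  exact (mul_eq_zero.1 h0).resolve_left (pow_ne_zero _ (neg_ne_zero.2 one_ne_zero))

/-- Parity for symmetric forms in odd characteristic. -/
theorem even_of_symm (h2' : (2 : F) ≠ 0) {P : Matrix (Ix d) (Ix d) F} (hu : IsUnit P)
    (hP : (Umat F d)ᵀ * P * Umat F d = P) (hsymm : Pᵀ = P) {j : ℕ} (hj : Even j) (hj0 : 0 < j) :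
    Even (Finset.univ.filter (fun k : Fin t => d k = j)).card := by
  obtain ⟨U', h1, h2, hc, hadj⟩ := exists_adjoint hu hP
  refine even_of_form hu hP hj0 fun x hx => ?_
  set w := (Nmat F d) ^ (j - 1) *ᵥ x with hw
  have hNw : Nmat F d *ᵥ w = 0 := by rw [hw, mulVec_mulVec, ← pow_succ', Nat.sub_add_cancel hj0, hx]
  have h3 : x ⬝ᵥ P *ᵥ w = -(x ⬝ᵥ P *ᵥ w) := by
    calc x ⬝ᵥ P *ᵥ w = w ⬝ᵥ P *ᵥ x := by
          rw [dotProduct_mulVec, ← mulVec_transpose, hsymm, dotProduct_comm]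
      _ = x ⬝ᵥ (((Nmat F d) ^ (j - 1))ᵀ * P) *ᵥ x := by
          rw [← mulVec_mulVec, dotProduct_comm x, hw]
          rw [mulVec_transpose, ← dotProduct_mulVec, dotProduct_comm]
      _ = -(x ⬝ᵥ P *ᵥ w) := by
          rw [hadj, ← mulVec_mulVec, ← mulVec_mulVec, ← hw, inv_fix h1 hNw, mulVec_smul, dotProduct_smul,
            Odd.neg_one_pow (Nat.Even.sub_odd hj0 hj odd_one)]
          simp
  have : (2 : F) * (x ⬝ᵥ P *ᵥ w) = 0 := by linear_combination h3
  exact (mul_eq_zero.1 this).resolve_left h2'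

/-! ### Existence -/

/-- `g` is the matrix of a form on a single block preserved by the Jordan block of size `n`. -/
def IsBlockForm (n : ℕ) (g : ℕ → ℕ → F) : Prop :=
  (∀ i j, n ≤ i + j → g i j = 0) ∧ (∀ i j, g (i + 1) j + g i (j + 1) + g (i + 1) (j + 1) = 0) ∧
    ∀ i j, i + j + 1 = n → g i j ≠ 0

theorem IsBlockForm.swap {n : ℕ} {g : ℕ → ℕ → F} (h : IsBlockForm n g) {ε : F} (hε : ε ≠ 0) :
    IsBlockForm n (fun i j => ε * g j i) :=
  ⟨fun i j hij => by dsimp only; rw [h.1 j i (by omega), mul_zero],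
    fun i j => by dsimp only; rw [← mul_add, ← mul_add, add_comm (g j (i + 1)), h.2.1 j i, mul_zero],
    fun i j hij => mul_ne_zero hε (h.2.2 j i (by omega))⟩

/-- The basic binomial solution. -/
def binForm (F : Type*) [Field F] (c : ℤ) (n : ℕ) (i j : ℕ) : F :=
  if i + j < n then (-1) ^ j * ((Ring.choose (c - j) (n - 1 - i - j) : ℤ) : F) else 0

theorem binForm_rec (c : ℤ) (n i j : ℕ) :
    binForm F c n (i + 1) j + binForm F c n i (j + 1) + binForm F c n (i + 1) (j + 1) = 0 := by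
  unfold binForm
  by_cases h : i + j + 2 < n
  · rw [if_pos (by omega), if_pos (by omega), if_pos (by omega)]
    obtain ⟨s, hs⟩ : ∃ s, n - 1 - (i + 1) - (j + 1) = s := ⟨_, rfl⟩
    rw [hs, show n - 1 - (i + 1) - j = s + 1 by omega, show n - 1 - i - (j + 1) = s + 1 by omega,
      show c - (j : ℤ) = (c - ((j + 1 : ℕ) : ℤ)) + 1 by push_cast; ring, Ring.choose_succ_succ]
    push_cast
    ring
  by_cases h' : i + j + 2 = n
  · rw [if_pos (by omega), if_pos (by omega), if_neg (by omega)]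
    rw [show n - 1 - (i + 1) - j = 0 by omega, show n - 1 - i - (j + 1) = 0 by omega,
      Ring.choose_zero_right, Ring.choose_zero_right]
    push_cast
    ring
  rw [if_neg (by omega), if_neg (by omega), if_neg (by omega)]
  simp

theorem binForm_anti (c : ℤ) {n i j : ℕ} (h : i + j + 1 = n) : binForm F c n i j = (-1) ^ j := by
  rw [binForm, if_pos (by omega), show n - 1 - i - j = 0 by omega, Ring.choose_zero_right, Int.cast_one,
    mul_one]

theorem isBlockForm_binForm (c : ℤ) (n : ℕ) : IsBlockForm n (binForm F c n) :=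
  ⟨fun i j h => if_neg (by omega), binForm_rec c n, fun i j h => by
    rw [binForm_anti c h]; exact pow_ne_zero _ (neg_ne_zero.2 one_ne_zero)⟩

theorem binForm_swap (c : ℤ) {n : ℕ} (i j : ℕ) :
    binForm F c n j i = (-1) ^ (n - 1) * binForm F ((n : ℤ) - 2 - c) n i j := by
  unfold binForm
  by_cases h : i + j < n
  swap
  · rw [if_neg (by omega), if_neg h, mul_zero]
  rw [if_pos (by omega), if_pos h]
  obtain ⟨s, hs⟩ : ∃ s, n - 1 - i - j = s := ⟨_, rfl⟩
  rw [show n - 1 - j - i = s by omega, hs, show c - (i : ℤ) = -((i : ℤ) - c) by ring, Ring.choose_neg,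
    show (i : ℤ) - c + s - 1 = (n : ℤ) - 2 - c - j by omega, Units.smul_def, smul_eq_mul, Int.cast_mul,
    show n - 1 = i + j + s by omega]
  have : ((Int.negOnePow (s : ℤ) : ℤ) : F) = (-1) ^ s := by
    simp [Int.negOnePow_def, zpow_natCast]
  rw [this, show i + j + s = (i + s) + j by ring, pow_add (-1 : F) (i + s) j]
  have hjj : ((-1 : F)) ^ j * (-1) ^ j = 1 := by rw [← mul_pow]; simp
  linear_combination (-((-1 : F) ^ i * (-1) ^ s * (Ring.choose ((n : ℤ) - 2 - c - j) s : ℤ))) * hjj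

/-- An alternating form on an even block. -/
theorem exists_alt_block {n : ℕ} (hn : Even n) : ∃ g : ℕ → ℕ → F, IsBlockForm n g ∧
    (∀ i j, g j i = -1 * g i j) ∧ ∀ i, g i i = 0 := by
  obtain ⟨k, rfl⟩ := hn
  refine ⟨binForm F ((k : ℤ) - 1) (k + k), isBlockForm_binForm _ _, fun i j => ?_, fun i => ?_⟩
  · rcases Nat.eq_zero_or_pos k with rfl | hk
    · simp [binForm]
    rw [binForm_swap, Odd.neg_one_pow ⟨k - 1, by omega⟩,
      show ((k + k : ℕ) : ℤ) - 2 - ((k : ℤ) - 1) = (k : ℤ) - 1 by push_cast; ring]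
  · unfold binForm
    split
    · rw [show (k : ℤ) - 1 - i = ((k - 1 - i : ℕ) : ℤ) by omega, Ring.choose_natCast,
        Nat.choose_eq_zero_of_lt (by omega)]
      simp
    · rfl

/-- A symmetric form on an odd block. -/
theorem exists_symm_block (h2 : (2 : F) ≠ 0) {n : ℕ} (hn : Odd n) :
    ∃ g : ℕ → ℕ → F, IsBlockForm n g ∧ ∀ i j, g j i = 1 * g i j := by
  obtain ⟨k, rfl⟩ := hn
  refine ⟨fun i j => binForm F k (2 * k + 1) i j + binForm F ((k : ℤ) - 1) (2 * k + 1) i j,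
    ⟨fun i j h => ?_, fun i j => ?_, fun i j h => ?_⟩, fun i j => ?_⟩
  · simp [binForm, show ¬ i + j < 2 * k + 1 by omega]
  · linear_combination binForm_rec (F := F) k (2 * k + 1) i j + binForm_rec (F := F) ((k : ℤ) - 1) (2 * k + 1) i j
  · dsimp only; rw [binForm_anti _ h, binForm_anti _ h, ← two_mul]
    exact mul_ne_zero h2 (pow_ne_zero _ (neg_ne_zero.2 one_ne_zero))
  · dsimp only; rw [binForm_swap (k : ℤ), binForm_swap ((k : ℤ) - 1),
      Even.neg_one_pow (show Even (2 * k + 1 - 1) by simp),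
      show ((2 * k + 1 : ℕ) : ℤ) - 2 - (k : ℤ) = (k : ℤ) - 1 by push_cast; ring,
      show ((2 * k + 1 : ℕ) : ℤ) - 2 - ((k : ℤ) - 1) = (k : ℤ) by push_cast; ring]
    ring

/-- A pairing of equal blocks, fixing exactly the allowed ones. -/
theorem exists_pairing (good : ℕ → Prop)
    (h : ∀ j, ¬ good j → Even (Finset.univ.filter (fun k : Fin t => d k = j)).card) :
    ∃ π : Fin t → Fin t, (∀ k, π (π k) = k) ∧ (∀ k, d (π k) = d k) ∧ ∀ k, π k = k → good (d k) := by
  classical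
  have hj : ∀ j, ∃ f : Fin t → Fin t, ¬ good j →
      ∀ k, d k = j → d (f k) = j ∧ f k ≠ k ∧ f (f k) = k := by
    intro j
    by_cases hg : good j
    · exact ⟨id, fun hn => absurd hg hn⟩
    obtain ⟨c, hc⟩ := h j hg
    have e : {k : Fin t // d k = j} ≃ Fin c ⊕ Fin c := Fintype.equivOfCardEq (by
      rw [Fintype.card_subtype, hc, Fintype.card_sum, Fintype.card_fin])
    refine ⟨fun k => if hk : d k = j then (e.symm (Sum.swap (e ⟨k, hk⟩))).1 else k, fun _ k hk => ?_⟩
    dsimp only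
    rw [dif_pos hk]
    obtain ⟨y, hy⟩ : ∃ y, y = e.symm (Sum.swap (e ⟨k, hk⟩)) := ⟨_, rfl⟩
    rw [← hy]
    refine ⟨y.2, fun e' => ?_, ?_⟩
    · have h' : e y = e ⟨k, hk⟩ := congrArg e (Subtype.ext e')
      rw [hy, Equiv.apply_symm_apply] at h'
      revert h'
      generalize e ⟨k, hk⟩ = z
      rcases z with a | a <;> simp
    · rw [dif_pos y.2, Subtype.coe_eta, hy, Equiv.apply_symm_apply, Sum.swap_swap, Equiv.symm_apply_apply]
  choose f hf using hj
  refine ⟨fun k => if good (d k) then k else f (d k) k, fun k => ?_, fun k => ?_, fun k hk => ?_⟩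
  · by_cases hg : good (d k)
    · simp [hg]
    · obtain ⟨h1, h2, h3⟩ := hf _ hg k rfl
      simp only [hg, if_false, h1]
      exact h3
  · by_cases hg : good (d k)
    · simp [hg]
    · simp only [hg, if_false]; exact (hf _ hg k rfl).1
  · by_contra hg
    simp only [hg, if_false] at hk
    exact (hf _ hg k rfl).2.1 hk

/-- The form glued from block forms along a pairing. -/
theorem exists_form (π : Fin t → Fin t) (hπ : ∀ k, π (π k) = k) (hd : ∀ k, d (π k) = d k) (ε : F)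
    (hε : ε * ε = 1) (h : Fin t → ℕ → ℕ → F)
    (hh : ∀ k, π k = k → IsBlockForm (d k) (h k) ∧ ∀ i j, h k j i = ε * h k i j) :
    ∃ P : Matrix (Ix d) (Ix d) F, IsUnit P ∧ (Umat F d)ᵀ * P * Umat F d = P ∧ Pᵀ = ε • P ∧
      ((∀ k, π k = k → ∀ i, h k i i = 0) → ∀ p, P p p = 0) := by
  classical
  have hε0 : ε ≠ 0 := left_ne_zero_of_mul (hε ▸ one_ne_zero)
  let H : Fin t → Fin t → ℕ → ℕ → F := fun k l a b =>
    if π k = l then (if k = l then h k a b else if k < l then binForm F 0 (d k) a b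
      else ε * binForm F 0 (d k) b a) else 0
  have hH : ∀ k l, π k = l → IsBlockForm (d k) (H k l) := by
    intro k l hkl
    simp only [H, if_pos hkl]
    split
    · rename_i e; subst e; exact (hh k hkl).1
    · split
      · exact isBlockForm_binForm 0 _
      · exact (isBlockForm_binForm 0 _).swap hε0
  have hH0 : ∀ k l a b, d k ≤ a ∨ d l ≤ b → H k l a b = 0 := by
    intro k l a b hab
    by_cases hkl : π k = l
    · exact (hH k l hkl).1 a b (by have := hd k; subst hkl; omega)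
    · simp [H, hkl]
  have hrec : ∀ k l a b, H k l (a + 1) b + H k l a (b + 1) + H k l (a + 1) (b + 1) = 0 := by
    intro k l a b
    by_cases hkl : π k = l
    · exact (hH k l hkl).2.1 a b
    · simp [H, hkl]
  have hHsymm : ∀ k l a b, H l k b a = ε * H k l a b := by
    intro k l a b
    by_cases hkl : π k = l
    · have hlk : π l = k := by rw [← hkl, hπ]
      simp only [H, if_pos hkl, if_pos hlk]
      by_cases e : k = l
      · subst e; rw [if_pos rfl, if_pos rfl, (hh k hkl).2 a b]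
      · rw [if_neg e, if_neg (Ne.symm e)]
        have hdl : d l = d k := by rw [← hkl, hd]
        rcases lt_or_gt_of_ne e with hlt | hlt
        · rw [if_pos hlt, if_neg hlt.not_gt, hdl]
        · rw [if_pos hlt, if_neg hlt.not_gt, hdl, ← mul_assoc, hε, one_mul]
    · have hlk : π l ≠ k := fun e => hkl (by rw [← e, hπ])
      simp [H, hkl, hlk]
  let P : Matrix (Ix d) (Ix d) F := fun p q => H p.1 q.1 p.2 q.2
  refine ⟨P, ?_, ?_, Matrix.ext fun p q => hHsymm p.1 q.1 p.2 q.2, fun hz p => ?_⟩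
  · rw [← Matrix.mulVec_injective_iff_isUnit]
    intro x x' hxx'
    rw [← sub_eq_zero, ← mulVec_sub] at hxx'
    rw [← sub_eq_zero]
    generalize x - x' = y at hxx' ⊢
    suffices ∀ b, ∀ l (a : Fin (d l)), (a : ℕ) = b → y ⟨l, a⟩ = 0 from funext fun p => this _ p.1 p.2 rfl
    intro b
    induction b using Nat.strong_induction_on with
    | _ b ih =>
      intro l a ha
      have := a.2
      have hdl := hd l
      have h0 := congrFun hxx' ⟨π l, ⟨d l - 1 - b, by omega⟩⟩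
      rw [Matrix.mulVec, dotProduct, Finset.sum_eq_single ⟨l, a⟩] at h0
      · exact (mul_eq_zero.1 h0).resolve_left ((hH (π l) l (hπ l)).2.2 _ _ (by simp only; omega))
      · rintro ⟨l', a'⟩ _ hne
        by_cases hl' : π (π l) = l'
        swap
        · exact mul_eq_zero_of_left (if_neg hl') _
        rw [hπ] at hl'
        subst hl'
        rcases lt_or_ge (a' : ℕ) b with hlt | hge
        · rw [ih _ hlt l a' rfl, mul_zero]
        · have : b < (a' : ℕ) := lt_of_le_of_ne hge fun e => hne (by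
            exact Sigma.ext rfl (heq_of_eq (Fin.ext (show (a' : ℕ) = (a : ℕ) by omega))))
          exact mul_eq_zero_of_left ((hH (π l) l (hπ l)).1 _ _ (by have h1 := a'.2; have h2 := hd l; show d (π l) ≤ (d l - 1 - b) + (a' : ℕ); omega)) _
      · exact fun h' => absurd (Finset.mem_univ _) h'
  · have hUT : ∀ (y : Ix d → F) k (a : Fin (d k)), ((Umat F d)ᵀ *ᵥ y) ⟨k, a⟩ = y ⟨k, a⟩ + ext0 y k ((a : ℕ) + 1) := by
      intro y k a
      rw [← Nmat_transpose_mulVec, transpose_sub, transpose_one, sub_mulVec, one_mulVec, Pi.sub_apply]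
      ring
    have hPU : ∀ (p : Ix d) l (b : Fin (d l)), (P * Umat F d) p ⟨l, b⟩ = H p.1 l p.2 b + H p.1 l p.2 ((b : ℕ) + 1) := by
      intro p l b
      have : (P * Umat F d) p ⟨l, b⟩ = ((Umat F d)ᵀ *ᵥ P p) ⟨l, b⟩ := by
        simp [Matrix.mul_apply, Matrix.mulVec, dotProduct, mul_comm]
      rw [this, hUT]
      congr 1
      unfold ext0
      split
      · rfl
      · exact (hH0 _ _ _ _ (Or.inr (by omega))).symm
    refine Matrix.ext fun ⟨k, a⟩ ⟨l, b⟩ => ?_
    rw [mul_assoc]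
    show ((Umat F d)ᵀ *ᵥ fun r => (P * Umat F d) r ⟨l, b⟩) ⟨k, a⟩ = H k l a b
    rw [hUT, hPU]
    have : ext0 (fun r => (P * Umat F d) r ⟨l, b⟩) k ((a : ℕ) + 1) =
        H k l ((a : ℕ) + 1) b + H k l ((a : ℕ) + 1) ((b : ℕ) + 1) := by
      unfold ext0
      split
      · dsimp only; rw [hPU]
      · rw [hH0 _ _ _ _ (Or.inl (by omega)), hH0 _ _ _ _ (Or.inl (by omega)), add_zero]
    rw [this]
    linear_combination hrec k l a b
  · by_cases e : π p.1 = p.1
    · show H p.1 p.1 p.2 p.2 = 0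
      simp [H, e, hz _ e]
    · show H p.1 p.1 p.2 p.2 = 0
      simp [H, e]

/-- A skew matrix with zero diagonal is alternating. -/
theorem alt_of_skew {ι : Type*} [Fintype ι] {P : Matrix ι ι F} (hT : Pᵀ = (-1 : F) • P)
    (hd : ∀ i, P i i = 0) (x : ι → F) : x ⬝ᵥ P *ᵥ x = 0 := by
  classical
  have h : x ⬝ᵥ P *ᵥ x = ∑ p : ι × ι, x p.1 * (P p.1 p.2 * x p.2) := by
    simp [dotProduct, Matrix.mulVec, Finset.mul_sum, Fintype.sum_prod_type]
  rw [h]
  refine Finset.sum_involution (fun p _ => (p.2, p.1)) (fun p _ => ?_) (fun p _ hne e => hne ?_)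
    (fun _ _ => Finset.mem_univ _) (fun _ _ => rfl)
  · have := congrFun (congrFun hT p.1) p.2
    simp only [transpose_apply, Matrix.smul_apply, smul_eq_mul] at this
    simp only [this]
    ring
  · rw [show p.2 = p.1 from congrArg Prod.fst e, hd]
    ring

/-- Existence of an alternating invariant form. -/
theorem exists_alt_form (h : ∀ j, Odd j → Even (Finset.univ.filter (fun k : Fin t => d k = j)).card) :
    ∃ P : Matrix (Ix d) (Ix d) F, IsUnit P ∧ (Umat F d)ᵀ * P * Umat F d = P ∧ ∀ x, x ⬝ᵥ P *ᵥ x = 0 := by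
  classical
  obtain ⟨π, hπ, hd, hfix⟩ := exists_pairing (d := d) Even (fun j hj => h j (Nat.not_even_iff_odd.1 hj))
  choose g hg using fun k : {k : Fin t // Even (d k)} => exists_alt_block (F := F) k.2
  obtain ⟨P, hu, hU, hT, hdiag⟩ := exists_form π hπ hd (-1 : F) (by ring)
    (fun k => if hk : Even (d k) then g ⟨k, hk⟩ else 0)
    (fun k e => by rw [dif_pos (hfix k e)]; exact ⟨(hg ⟨k, hfix k e⟩).1, (hg ⟨k, hfix k e⟩).2.1⟩)
  exact ⟨P, hu, hU, alt_of_skew hT (hdiag fun k e i => by rw [dif_pos (hfix k e)]; exact (hg _).2.2 i)⟩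

/-- Existence of a symmetric invariant form in odd characteristic. -/
theorem exists_symm_form (h2 : (2 : F) ≠ 0)
    (h : ∀ j, Even j → Even (Finset.univ.filter (fun k : Fin t => d k = j)).card) :
    ∃ P : Matrix (Ix d) (Ix d) F, IsUnit P ∧ (Umat F d)ᵀ * P * Umat F d = P ∧ Pᵀ = P := by
  classical
  obtain ⟨π, hπ, hd, hfix⟩ := exists_pairing (d := d) Odd (fun j hj => h j (Nat.not_odd_iff_even.1 hj))
  choose g hg using fun k : {k : Fin t // Odd (d k)} => exists_symm_block (F := F) h2 k.2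
  obtain ⟨P, hu, hU, hT, -⟩ := exists_form π hπ hd (1 : F) (by ring)
    (fun k => if hk : Odd (d k) then g ⟨k, hk⟩ else 0)
    (fun k e => by rw [dif_pos (hfix k e)]; exact hg ⟨k, hfix k e⟩)
  exact ⟨P, hu, hU, hT.trans (one_smul F P)⟩

/-- Pulling an invariant form back to the Jordan matrix. -/
theorem pullback {κ : Type*} [Fintype κ] [DecidableEq κ] (e : Ix d ≃ κ) {A J : Matrix κ κ F}
    (hc : IsConj (Matrix.reindex e e (Umat F d)) A) (hA : Aᵀ * J * A = J) (hJ : IsUnit J) :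
    ∃ (P : Matrix (Ix d) (Ix d) F) (L : (Ix d → F) → (κ → F)), IsUnit P ∧
      (Umat F d)ᵀ * P * Umat F d = P ∧ (Jᵀ = J → Pᵀ = P) ∧
      ∀ x, x ⬝ᵥ P *ᵥ x = L x ⬝ᵥ J *ᵥ L x := by
  obtain ⟨c, hc⟩ := hc
  obtain ⟨C, hC⟩ : ∃ C : Matrix (Ix d) (Ix d) F, C = (c : Matrix κ κ F).submatrix e e := ⟨_, rfl⟩
  refine ⟨Cᵀ * J.submatrix e e * C, fun x => (c : Matrix κ κ F) *ᵥ (x ∘ e.symm), ?_, ?_, fun h => ?_, fun x => ?_⟩
  · have hCu : IsUnit C := hC ▸ (Matrix.isUnit_submatrix_equiv e e).2 c.isUnit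
    exact ((Matrix.isUnit_transpose (A := C)).2 hCu |>.mul ((Matrix.isUnit_submatrix_equiv e e).2 hJ)).mul hCu
  · have h1 : C * Umat F d = A.submatrix e e * C := by
      have h := congrArg (fun M : Matrix κ κ F => M.submatrix e e) hc.eq
      simp only [← submatrix_mul_equiv _ _ e e e] at h
      simpa [hC, Matrix.reindex_apply] using h
    have h2 : (A.submatrix e e)ᵀ * J.submatrix e e * A.submatrix e e = J.submatrix e e := by
      rw [transpose_submatrix, submatrix_mul_equiv, submatrix_mul_equiv, hA]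
    calc (Umat F d)ᵀ * (Cᵀ * J.submatrix e e * C) * Umat F d
        = (C * Umat F d)ᵀ * J.submatrix e e * (C * Umat F d) := by rw [transpose_mul]; simp only [mul_assoc]
      _ = Cᵀ * ((A.submatrix e e)ᵀ * J.submatrix e e * A.submatrix e e) * C := by
          rw [h1, transpose_mul]; simp only [mul_assoc]
      _ = _ := by rw [h2]
  · rw [transpose_mul, transpose_mul, transpose_transpose, transpose_submatrix, h, mul_assoc]
  · have h1 : C *ᵥ x = ((c : Matrix κ κ F) *ᵥ (x ∘ e.symm)) ∘ e := by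
      rw [hC, submatrix_mulVec_equiv]
    rw [← mulVec_mulVec, ← mulVec_mulVec, dotProduct_mulVec, vecMul_transpose, h1, submatrix_mulVec_equiv,
      Function.comp_assoc, Equiv.self_comp_symm, Function.comp_id]
    exact comp_equiv_dotProduct_comp_equiv _ _ _

end Cfsg.Agent.Forms59.Jordan
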