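import Cfsg.Agent.Forms59.Transitive
import Cfsg.Agent.Forms59.JordanForms

/-!
Involutions of orthogonal groups in characteristic two: the invariants `(l, alternating or not)`.
-/

set_option autoImplicit false
set_option linter.unusedSectionVars false

namespace Cfsg.Agent.Forms59.Inv

open Matrix QuadraticMap Cfsg.Agent.Reflections
open scoped Matrix

/-- A symmetric form that is not alternating has an orthonormal family with totally isotropic orthogonal. -/
theorem exists_orthonormal {F V : Type*} [Field F] [Fintype F] [CharP F 2] [AddCommGroup V] [Module F V]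
    [FiniteDimensional F V] (G : LinearMap.BilinForm F V) (hG : ∀ x y, G x y = G y x) :
    ∀ (n : ℕ) (W : Submodule F V), Module.finrank F W ≤ n → (∃ v ∈ W, G v v ≠ 0) →
      ∃ (l : ℕ) (x : Fin l → V), (∀ i, x i ∈ W) ∧ (∀ i j, G (x i) (x j) = if i = j then 1 else 0) ∧
        ∀ v ∈ W, (∀ i, G (x i) v = 0) → ∀ y ∈ W, G v y = 0 := by
  intro n
  induction n with
  | zero =>
    intro W hW hex
    obtain ⟨v, hv, hne⟩ := hex
    rw [Submodule.finrank_eq_zero.1 (Nat.le_zero.1 hW), Submodule.mem_bot] at hv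
    simp [hv] at hne
  | succ n ih =>
    intro W hW hex
    obtain ⟨v₀, hv₀, hne⟩ := hex
    obtain ⟨s, hs⟩ := FiniteField.isSquare_of_char_two (F := F) (ringChar.eq F 2) (G v₀ v₀)
    have hs0 : s ≠ 0 := by rintro rfl; simp [hs] at hne
    obtain ⟨v, hv, hvv⟩ : ∃ v ∈ W, G v v = 1 := ⟨s⁻¹ • v₀, W.smul_mem _ hv₀, by
      simp only [map_smul, LinearMap.smul_apply, hs, smul_eq_mul]; field_simp⟩
    have step : ∀ u ∈ W, G u u = 1 → (∃ y ∈ W, G u y = 0 ∧ G y y ≠ 0) →
        ∃ (l : ℕ) (x : Fin l → V), (∀ i, x i ∈ W) ∧ (∀ i j, G (x i) (x j) = if i = j then 1 else 0) ∧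
          ∀ v ∈ W, (∀ i, G (x i) v = 0) → ∀ y ∈ W, G v y = 0 := by
      rintro u hu huu ⟨y, hy, huy, hyy⟩
      have hlt : W ⊓ LinearMap.ker (G u) < W := lt_of_le_not_ge inf_le_left fun hle => by
        have h : G u u = 0 := (hle hu).2
        rw [huu] at h
        exact one_ne_zero h
      obtain ⟨l, x, hxW, hx, hrad⟩ := ih (W ⊓ LinearMap.ker (G u))
        (by have := Submodule.finrank_lt_finrank_of_lt hlt; omega) ⟨y, ⟨hy, huy⟩, hyy⟩
      refine ⟨l + 1, Fin.cons u x, fun i => ?_, fun i j => ?_, fun w hw hperp z hz => ?_⟩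
      · cases i using Fin.cases with
        | zero => exact hu
        | succ i => simpa using (hxW i).1
      · have h0 : ∀ i, G u (x i) = 0 := fun i => (hxW i).2
        cases i using Fin.cases with
        | zero =>
          cases j using Fin.cases with
          | zero => simpa using huu
          | succ j => simp [h0 j, (Fin.succ_ne_zero j).symm]
        | succ i =>
          cases j using Fin.cases with
          | zero => simp [hG (x i) u, h0 i]
          | succ j => simp [hx i j]
      · have hwu : G u w = 0 := by simpa using hperp 0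
        have hz' : z - G u z • u ∈ W ⊓ LinearMap.ker (G u) :=
          ⟨W.sub_mem hz (W.smul_mem _ hu), by simp [huu]⟩
        have := hrad w ⟨hw, hwu⟩ (fun i => by simpa using hperp i.succ) _ hz'
        rwa [map_sub, map_smul, hG w u, hwu, smul_zero, sub_zero] at this
    by_cases h : ∃ y ∈ W, G v y = 0 ∧ G y y ≠ 0
    · exact step v hv hvv h
    push Not at h
    by_cases h2 : ∃ e ∈ W, ∃ f ∈ W, G v e = 0 ∧ G v f = 0 ∧ G e f ≠ 0
    · obtain ⟨e, he, f, hf, hve, hvf, hef⟩ := h2
      have hee := h e he hve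
      have hff := h f hf hvf
      have hev : G e v = 0 := by rw [hG, hve]
      have hfv : G f v = 0 := by rw [hG, hvf]
      refine step (v + e) (W.add_mem hv he) (by simp [hvv, hev, hve, hee])
        ⟨v + (G e f)⁻¹ • f, W.add_mem hv (W.smul_mem _ hf), ?_, ?_⟩
      · simp [hvv, hev, hvf, inv_mul_cancel₀ hef, CharTwo.add_self_eq_zero]
      · simp [hvv, hfv, hvf, hff]
    · push Not at h2
      refine ⟨1, fun _ => v, fun _ => hv, fun i j => by simp [Subsingleton.elim i j, hvv], fun w hw hperp z hz => ?_⟩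
      have hwv : G v w = 0 := hperp 0
      have hz' : z - G v z • v ∈ W := W.sub_mem hz (W.smul_mem _ hv)
      have hzv : G v (z - G v z • v) = 0 := by simp [hvv]
      have := h2 w hw _ hz' hwv hzv
      rwa [map_sub, map_smul, hG w v, hwv, smul_zero, sub_zero] at this

variable {ι : Type} [Fintype ι] [DecidableEq ι] {F : Type*} [Field F] [Fintype F] [CharP F 2]
variable {Q : QuadraticForm F (ι → F)}

/-- `g - 1` as a linear map. -/
def nmap (g : ↥(Cfsg.isometryGroup F ⇑Q)) : (ι → F) →ₗ[F] (ι → F) :=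
  Matrix.mulVecLin (mat g) + LinearMap.id

theorem nmap_apply (g : ↥(Cfsg.isometryGroup F ⇑Q)) (x : ι → F) : nmap g x = act g x + x := rfl

theorem add_self_vec (x : ι → F) : x + x = 0 := funext fun _ => CharTwo.add_self_eq_zero _

theorem act_eq_add (g : ↥(Cfsg.isometryGroup F ⇑Q)) (x : ι → F) : act g x = x + nmap g x := by
  rw [nmap_apply, add_comm (act g x) x, ← add_assoc, add_self_vec, zero_add]

theorem act_act {g : ↥(Cfsg.isometryGroup F ⇑Q)} (hg : g * g = 1) (x : ι → F) : act g (act g x) = x := by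
  rw [← act_mul, hg, act_one]

theorem nmap_nmap {g : ↥(Cfsg.isometryGroup F ⇑Q)} (hg : g * g = 1) (x : ι → F) : nmap g (nmap g x) = 0 := by
  simp only [nmap_apply, act_add, act_act hg, add_comm x (act g x), add_self_vec]

theorem polar_nmap {g : ↥(Cfsg.isometryGroup F ⇑Q)} (hg : g * g = 1) (x y : ι → F) :
    polar ⇑Q x (nmap g y) = polar ⇑Q (nmap g x) y := by
  simp only [nmap_apply, polar_add_left, polar_add_right]
  congr 1
  calc polar ⇑Q x (act g y) = polar ⇑Q (act g x) (act g (act g y)) := (act_polar g _ _).symm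
    _ = _ := by rw [act_act hg]

theorem form_nmap (g : ↥(Cfsg.isometryGroup F ⇑Q)) (x : ι → F) :
    Q (nmap g x) = polar ⇑Q x (nmap g x) := by
  have h := act_Q g x
  rw [act_eq_add, QuadraticMap.map_add ⇑Q] at h
  have h2 : Q (nmap g x) + polar ⇑Q x (nmap g x) = 0 := by linear_combination h
  exact CharTwo.add_eq_zero.1 h2

/-- The number of Jordan blocks of size two. -/
noncomputable def rk (g : ↥(Cfsg.isometryGroup F ⇑Q)) : ℕ := Module.finrank F ↥(LinearMap.range (nmap g))

/-- The image of `g - 1` is totally singular. -/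
def IsAltInv (g : ↥(Cfsg.isometryGroup F ⇑Q)) : Prop := ∀ x, Q (nmap g x) = 0

theorem nmap_conj (g h : ↥(Cfsg.isometryGroup F ⇑Q)) (x : ι → F) :
    nmap (h * g * h⁻¹) (act h x) = act h (nmap g x) := by
  rw [nmap_apply, act_mul, act_mul, nmap_apply, act_add]
  rw [← act_mul h⁻¹ h, inv_mul_cancel, act_one]

theorem rk_conj (g h : ↥(Cfsg.isometryGroup F ⇑Q)) : rk (h * g * h⁻¹) = rk g := by
  have : LinearMap.range (nmap (h * g * h⁻¹)) = (LinearMap.range (nmap g)).map (Matrix.mulVecLin (mat h)) := by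
    ext y
    simp only [Submodule.mem_map, LinearMap.mem_range]
    constructor
    · rintro ⟨x, rfl⟩
      refine ⟨_, ⟨act h⁻¹ x, rfl⟩, ?_⟩
      show act h (nmap g (act h⁻¹ x)) = _
      rw [← nmap_conj, ← act_mul, mul_inv_cancel, act_one]
    · rintro ⟨_, ⟨x, rfl⟩, rfl⟩
      exact ⟨act h x, nmap_conj g h x⟩
  rw [rk, rk, this]
  exact ((LinearMap.range (nmap g)).equivMapOfInjective _ (act_injective h)).finrank_eq.symm

theorem isAltInv_conj {g h : ↥(Cfsg.isometryGroup F ⇑Q)} (hg : IsAltInv g) : IsAltInv (h * g * h⁻¹) := by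
  intro x
  obtain ⟨y, rfl⟩ : ∃ y, act h y = x := ⟨act h⁻¹ x, by rw [← act_mul, mul_inv_cancel, act_one]⟩
  rw [nmap_conj, act_Q, hg]

theorem inv_of_isConj {g g' : ↥(Cfsg.isometryGroup F ⇑Q)} (hc : IsConj g g') :
    rk g = rk g' ∧ (IsAltInv g ↔ IsAltInv g') := by
  obtain ⟨h, rfl⟩ := isConj_iff.1 hc
  refine ⟨(rk_conj g h).symm, isAltInv_conj, fun ha => ?_⟩
  have := isAltInv_conj (h := h⁻¹) ha
  rwa [show h⁻¹ * (h * g * h⁻¹) * h⁻¹⁻¹ = g by group] at this

theorem rk_pos {g : ↥(Cfsg.isometryGroup F ⇑Q)} (hne : g ≠ 1) : 1 ≤ rk g := by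
  rw [Nat.one_le_iff_ne_zero, rk, ne_eq, Submodule.finrank_eq_zero, LinearMap.range_eq_bot]
  intro h
  refine hne (isom_ext fun x => ?_)
  rw [act_one, act_eq_add, h, LinearMap.zero_apply, add_zero]

theorem range_polar {g : ↥(Cfsg.isometryGroup F ⇑Q)} (hg : g * g = 1) {x y : ι → F}
    (hx : x ∈ LinearMap.range (nmap g)) (hy : y ∈ LinearMap.range (nmap g)) : polar ⇑Q x y = 0 := by
  obtain ⟨a, rfl⟩ := hx
  obtain ⟨b, rfl⟩ := hy
  rw [polar_nmap hg, nmap_nmap hg, polar_zero_left]

theorem two_rk_le (hQ : (QuadraticMap.polarBilin Q).Nondegenerate) {g : ↥(Cfsg.isometryGroup F ⇑Q)}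
    (hg : g * g = 1) : 2 * rk g ≤ Fintype.card ι := by
  have h1 : LinearMap.range (nmap g) ≤ LinearMap.ker (nmap g) := by
    rintro _ ⟨x, rfl⟩
    exact nmap_nmap hg x
  have h2 := LinearMap.finrank_range_add_finrank_ker (nmap g)
  rw [Module.finrank_fintype_fun_eq_card] at h2
  have := Submodule.finrank_mono h1
  rw [rk]
  omega

/-- Preimages of a basis of the image with Gram matrix `M`. -/
structure Adapted {κ : Type} [Fintype κ] (g : ↥(Cfsg.isometryGroup F ⇑Q)) (M : Matrix κ κ F) where
  x : κ → ι → F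
  gram : ∀ i j, polar ⇑Q (x i) (nmap g (x j)) = M i j
  spans : ∀ y, nmap g y ∈ Submodule.span F (Set.range fun j => nmap g (x j))

theorem linearIndependent_of_adapted {κ : Type} [Fintype κ] [DecidableEq κ] {g : ↥(Cfsg.isometryGroup F ⇑Q)}
    {M : Matrix κ κ F} (hM : IsUnit M) (A : Adapted g M) : LinearIndependent F fun j => nmap g (A.x j) := by
  rw [Fintype.linearIndependent_iff]
  intro c hc
  have : M *ᵥ c = M *ᵥ 0 := by
    funext i
    rw [Matrix.mulVec_zero, Pi.zero_apply]
    have := congrArg (fun v => (QuadraticMap.polarBilin Q) (A.x i) v) hc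
    simp only [map_sum, map_smul, map_zero, QuadraticMap.polarBilin_apply_apply, smul_eq_mul, A.gram] at this
    rw [← this]
    exact Finset.sum_congr rfl fun j _ => mul_comm _ _
  exact fun i => congrFun (Matrix.mulVec_injective_of_isUnit hM this) i

theorem rk_of_adapted {κ : Type} [Fintype κ] [DecidableEq κ] {g : ↥(Cfsg.isometryGroup F ⇑Q)} {M : Matrix κ κ F}
    (hM : IsUnit M) (A : Adapted g M) : rk g = Fintype.card κ := by
  have hr : LinearMap.range (nmap g) = Submodule.span F (Set.range fun j => nmap g (A.x j)) := by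
    refine le_antisymm ?_ ?_
    · rintro _ ⟨y, rfl⟩; exact A.spans y
    · rw [Submodule.span_le]; rintro _ ⟨j, rfl⟩; exact ⟨_, rfl⟩
  rw [rk, hr, finrank_span_eq_card (linearIndependent_of_adapted hM A)]

theorem form_sum {κ : Type} (s : Finset κ) (c : κ → F) (w : κ → ι → F)
    (hw : ∀ i j, i ≠ j → polar ⇑Q (w i) (w j) = 0) :
    Q (∑ i ∈ s, c i • w i) = ∑ i ∈ s, c i * c i * Q (w i) := by
  classical
  induction s using Finset.induction_on with
  | empty => simp
  | insert a s ha ih =>
    rw [Finset.sum_insert ha, Finset.sum_insert ha, QuadraticMap.map_add ⇑Q, QuadraticMap.map_smul, ih, smul_eq_mul]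
    have : polar ⇑Q (c a • w a) (∑ i ∈ s, c i • w i) = 0 := by
      show QuadraticMap.polarBilin Q (c a • w a) (∑ i ∈ s, c i • w i) = 0
      rw [map_sum]
      refine Finset.sum_eq_zero fun i hi => ?_
      rw [map_smul, map_smul, LinearMap.smul_apply, QuadraticMap.polarBilin_apply_apply,
        hw a i (by rintro rfl; exact ha hi), smul_zero, smul_zero]
    rw [this, add_zero]

/-- Involutions with the same adapted Gram matrix are conjugate. -/
theorem isConj_of_adapted (hQ : (QuadraticMap.polarBilin Q).Nondegenerate) {κ : Type} [Fintype κ] [DecidableEq κ]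
    {M : Matrix κ κ F} (hM : IsUnit M) {g g' : ↥(Cfsg.isometryGroup F ⇑Q)} (hg : g * g = 1) (hg' : g' * g' = 1)
    (A : Adapted g M) (A' : Adapted g' M) : IsConj g g' := by
  classical
  let b := Module.Basis.span (linearIndependent_of_adapted hM A)
  let b' := Module.Basis.span (linearIndependent_of_adapted hM A')
  let e := b.equiv b' (Equiv.refl κ)
  have hb : ∀ j, (b j : ι → F) = nmap g (A.x j) := fun j => by simp [b, Module.Basis.span_apply]
  have hb' : ∀ j, (b' j : ι → F) = nmap g' (A'.x j) := fun j => by simp [b', Module.Basis.span_apply]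
  have heq : ∀ x, Q (e x : ι → F) = Q (x : ι → F) := by
    intro x
    have h1 : (x : ι → F) = ∑ j, b.repr x j • nmap g (A.x j) := by
      conv_lhs => rw [← b.sum_repr x]
      simp only [Submodule.coe_sum, Submodule.coe_smul, hb]
    have h2 : (e x : ι → F) = ∑ j, b.repr x j • nmap g' (A'.x j) := by
      conv_lhs => rw [← b.sum_repr x, map_sum]
      simp [e, hb']
    rw [h1, h2, form_sum _ _ _ fun i j _ => range_polar hg ⟨_, rfl⟩ ⟨_, rfl⟩,
      form_sum _ _ _ fun i j _ => range_polar hg' ⟨_, rfl⟩ ⟨_, rfl⟩]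
    refine Finset.sum_congr rfl fun i _ => ?_
    rw [form_nmap, form_nmap, A.gram, A'.gram]
  obtain ⟨h₀, hh₀, hW⟩ := Forms.witt_quadratic Q hQ _ _ e heq
  obtain ⟨h, hh⟩ := exists_of_linearEquiv (Q := Q) h₀ hh₀
  have hw : ∀ j, act h (nmap g (A.x j)) = nmap g' (A'.x j) := fun j => by
    rw [hh, ← hb, hW, ← hb']
    congr 1
    simp [e]
  refine isConj_iff.2 ⟨h, isom_ext fun y => ?_⟩
  have hg1 : h * g * h⁻¹ * (h * g * h⁻¹) = 1 := by
    rw [show h * g * h⁻¹ * (h * g * h⁻¹) = h * (g * g) * h⁻¹ by group, hg]; group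
  have hspan : ∀ z, nmap (h * g * h⁻¹) z ∈ Submodule.span F (Set.range fun j => nmap g' (A'.x j)) := by
    intro z
    obtain ⟨y, rfl⟩ : ∃ y, act h y = z := ⟨act h⁻¹ z, by rw [← act_mul, mul_inv_cancel, act_one]⟩
    rw [nmap_conj]
    have hmem : act h (nmap g y) ∈ (Submodule.span F (Set.range fun j => nmap g (A.x j))).map
        (Matrix.mulVecLin (mat h)) := ⟨_, A.spans y, rfl⟩
    rw [Submodule.map_span, ← Set.range_comp] at hmem
    have : (⇑(Matrix.mulVecLin (mat h)) ∘ fun j => nmap g (A.x j)) = fun j => nmap g' (A'.x j) := funext hw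
    rwa [this] at hmem
  obtain ⟨c, hc⟩ := (Submodule.mem_span_range_iff_exists_fun F).1 (hspan y)
  obtain ⟨c', hc'⟩ := (Submodule.mem_span_range_iff_exists_fun F).1 (A'.spans y)
  have e1 : M *ᵥ c = fun i => polar ⇑Q (nmap g' (A'.x i)) y := by
    funext i
    rw [← hw, ← nmap_conj, ← polar_nmap hg1, ← hc]
    show _ = QuadraticMap.polarBilin Q (act h (A.x i)) _
    rw [map_sum]
    refine Finset.sum_congr rfl fun j _ => ?_
    rw [map_smul, QuadraticMap.polarBilin_apply_apply, ← hw, act_polar, A.gram, smul_eq_mul, mul_comm]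
  have e2 : M *ᵥ c' = fun i => polar ⇑Q (nmap g' (A'.x i)) y := by
    funext i
    rw [← polar_nmap hg', ← hc']
    show _ = QuadraticMap.polarBilin Q (A'.x i) _
    rw [map_sum]
    refine Finset.sum_congr rfl fun j _ => ?_
    rw [map_smul, QuadraticMap.polarBilin_apply_apply, A'.gram, smul_eq_mul, mul_comm]
  have := Matrix.mulVec_injective_of_isUnit hM (e1.trans e2.symm)
  subst this
  rw [act_eq_add, act_eq_add g' y, ← hc, ← hc']

/-- The form `(x, y) ↦ B(x, N y)`. -/
noncomputable def gform (g : ↥(Cfsg.isometryGroup F ⇑Q)) : LinearMap.BilinForm F (ι → F) :=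
  (QuadraticMap.polarBilin Q).compl₂ (nmap g)

theorem gform_apply (g : ↥(Cfsg.isometryGroup F ⇑Q)) (x y : ι → F) :
    gform g x y = polar ⇑Q x (nmap g y) := rfl

theorem nmap_eq_zero_of_rad (hQ : (QuadraticMap.polarBilin Q).Nondegenerate) {g : ↥(Cfsg.isometryGroup F ⇑Q)}
    (hg : g * g = 1) {r : ι → F} (h : ∀ v, gform g r v = 0) : nmap g r = 0 :=
  hQ.1 _ fun v => by
    rw [QuadraticMap.polarBilin_apply_apply, ← polar_nmap hg, ← gform_apply]; exact h v

theorem exists_adapted_alt (hQ : (QuadraticMap.polarBilin Q).Nondegenerate) {g : ↥(Cfsg.isometryGroup F ⇑Q)}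
    (hg : g * g = 1) (ha : IsAltInv g) :
    ∃ k, rk g = 2 * k ∧ Nonempty (Adapted g (Matrix.J (Fin k) F)) := by
  obtain ⟨k, r, b, hef, hee, hff, hrad⟩ := Cfsg.Agent.Forms.exists_symplectic_basis_with_radical (gform g)
    (fun x => by rw [gform_apply, ← form_nmap, ha])
  let A : Adapted g (Matrix.J (Fin k) F) :=
    { x := fun i => b (Sum.inl i)
      gram := fun i j => by
        rw [← gform_apply]
        rcases i with i | i <;> rcases j with j | j
        · simp [hee, Matrix.J]
        · simp [hef, Matrix.J, Matrix.one_apply, CharTwo.neg_eq]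
        · rw [gform_apply, polar_nmap hg, polar_comm, ← gform_apply, hef]
          simp [Matrix.J, Matrix.one_apply, eq_comm]
        · simp [hff, Matrix.J]
      spans := fun y => by
        rw [← b.sum_repr y, map_sum]
        refine Submodule.sum_mem _ fun i _ => ?_
        rw [map_smul]
        refine Submodule.smul_mem _ _ ?_
        rcases i with i | i
        · exact Submodule.subset_span ⟨i, rfl⟩
        · rw [nmap_eq_zero_of_rad hQ hg (hrad i)]; exact zero_mem _ }
  refine ⟨k, ?_, ⟨A⟩⟩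
  rw [rk_of_adapted ((Matrix.isUnit_iff_isUnit_det _).2 (Matrix.isUnit_det_J _ _)) A,
    Fintype.card_sum, Fintype.card_fin]
  omega

theorem exists_adapted_orth (hQ : (QuadraticMap.polarBilin Q).Nondegenerate) {g : ↥(Cfsg.isometryGroup F ⇑Q)}
    (hg : g * g = 1) (ha : ¬ IsAltInv g) : Nonempty (Adapted g (1 : Matrix (Fin (rk g)) (Fin (rk g)) F)) := by
  simp only [IsAltInv, not_forall] at ha
  obtain ⟨v, hv⟩ := ha
  have hsym : ∀ x y, gform g x y = gform g y x := fun x y => by
    rw [gform_apply, gform_apply, polar_nmap hg, polar_comm]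
  obtain ⟨l, x, -, hx, hrad⟩ := exists_orthonormal (gform g) hsym _ ⊤ le_rfl
    ⟨v, trivial, by rwa [gform_apply, ← form_nmap]⟩
  let A : Adapted g (1 : Matrix (Fin l) (Fin l) F) :=
    { x := x
      gram := fun i j => by rw [← gform_apply, hx, Matrix.one_apply]
      spans := fun y => by
        have hr : nmap g (y - ∑ i, gform g (x i) y • x i) = 0 := by
          refine nmap_eq_zero_of_rad hQ hg fun w => hrad _ trivial (fun i => ?_) w trivial
          rw [map_sub, map_sum, Finset.sum_eq_single i]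
          · simp [hx]
          · intro j _ hj; simp [hx, Ne.symm hj]
          · simp
        rw [map_sub, sub_eq_zero] at hr
        rw [hr, map_sum]
        exact Submodule.sum_mem _ fun i _ => by
          rw [map_smul]; exact Submodule.smul_mem _ _ (Submodule.subset_span ⟨i, rfl⟩) }
  have hl : rk g = l := by rw [rk_of_adapted isUnit_one A, Fintype.card_fin]
  rw [hl]
  exact ⟨A⟩

/-- The conjugacy class of an involution is determined by its invariants. -/
theorem isConj_of_inv (hQ : (QuadraticMap.polarBilin Q).Nondegenerate) {g g' : ↥(Cfsg.isometryGroup F ⇑Q)}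
    (hg : g * g = 1) (hg' : g' * g' = 1) (hl : rk g = rk g') (ha : IsAltInv g ↔ IsAltInv g') : IsConj g g' := by
  by_cases h : IsAltInv g
  · obtain ⟨k, hk, ⟨A⟩⟩ := exists_adapted_alt hQ hg h
    obtain ⟨k', hk', ⟨A'⟩⟩ := exists_adapted_alt hQ hg' (ha.1 h)
    obtain rfl : k = k' := by omega
    exact isConj_of_adapted hQ ((Matrix.isUnit_iff_isUnit_det _).2 (Matrix.isUnit_det_J _ _)) hg hg' A A'
  · obtain ⟨A⟩ := exists_adapted_orth hQ hg h
    obtain ⟨A'⟩ := exists_adapted_orth hQ hg' (fun e => h (ha.2 e))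
    obtain ⟨l, hlA⟩ : ∃ l, l = rk g := ⟨_, rfl⟩
    rw [← hlA] at A
    rw [← hl, ← hlA] at A'
    exact isConj_of_adapted hQ isUnit_one hg hg' A A'

/-- A fixed nonsingular vector gives a commuting reflection. -/
theorem refl_comm {g : ↥(Cfsg.isometryGroup F ⇑Q)} {v : ι → F} (hv : Q v ≠ 0) (hfix : act g v = v) :
    refl Q v * g = g * refl Q v := by
  refine isom_ext fun y => ?_
  rw [act_mul, act_mul, act_refl hv, act_refl hv, act_sub, act_smul, hfix]
  congr 2
  rw [show polar ⇑Q v (act g y) = polar ⇑Q (act g v) (act g y) by rw [hfix], act_polar]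

/-! ### Standard involutions -/

theorem exists_refl_prod {l : ℕ} (w : Fin l → ι → F) (hQw : ∀ i, Q (w i) = 1)
    (hw : ∀ i j, i ≠ j → polar ⇑Q (w i) (w j) = 0) :
    ∃ g : ↥(Cfsg.isometryGroup F ⇑Q), g = reflProd Q (List.ofFn w) ∧
      ∀ y, nmap g y = ∑ i, polar ⇑Q (w i) y • w i := by
  refine ⟨_, rfl, ?_⟩
  induction l with
  | zero => intro y; simp [nmap_apply, reflProd, add_self_vec]
  | succ l ih =>
    intro y
    have h := ih (fun i => w i.succ) (fun i => hQw _) fun i j hij => hw _ _ fun e => hij (Fin.succ_injective _ e)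
    rw [List.ofFn_succ, show reflProd Q (w 0 :: List.ofFn fun i => w i.succ) =
      refl Q (w 0) * reflProd Q (List.ofFn fun i => w i.succ) by simp [reflProd], nmap_apply, act_mul,
      act_eq_add (reflProd Q _) y, h y, act_refl (by rw [hQw]; exact one_ne_zero), hQw, inv_one, one_mul,
      Fin.sum_univ_succ]
    have hz : polar ⇑Q (w 0) (∑ i : Fin l, polar ⇑Q (w i.succ) y • w i.succ) = 0 := by
      show QuadraticMap.polarBilin Q (w 0) _ = 0
      rw [map_sum]
      refine Finset.sum_eq_zero fun i _ => ?_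
      rw [map_smul, QuadraticMap.polarBilin_apply_apply, hw 0 i.succ (Fin.succ_ne_zero i).symm, smul_zero]
    rw [polar_add_right, hz, add_zero]
    funext k
    simp only [Pi.add_apply, Pi.sub_apply, CharTwo.sub_eq_add]
    linear_combination CharTwo.add_self_eq_zero (y k)

theorem exists_dual (hQ : (QuadraticMap.polarBilin Q).Nondegenerate) {l : ℕ} (w : Fin l → ι → F)
    (hli : LinearIndependent F w) (j : Fin l) : ∃ y, ∀ i, polar ⇑Q (w i) y = if i = j then 1 else 0 := by
  let f : (ι → F) →ₗ[F] (Fin l → F) := LinearMap.pi fun i => QuadraticMap.polarBilin Q (w i)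
  have hf : Function.Surjective f := by
    rw [← LinearMap.range_eq_top, ← Submodule.dualAnnihilator_eq_bot_iff, Submodule.eq_bot_iff]
    intro φ hφ
    rw [Submodule.mem_dualAnnihilator] at hφ
    have hc : ∑ i, φ (Pi.single i 1) • w i = 0 := hQ.1 _ fun y => by
      have := hφ _ ⟨y, rfl⟩
      rw [pi_eq_sum_univ' (f y), map_sum] at this
      rw [map_sum, LinearMap.sum_apply, ← this]
      refine Finset.sum_congr rfl fun i _ => ?_
      rw [map_smul, map_smul, LinearMap.smul_apply]
      show φ (Pi.single i 1) * polar ⇑Q (w i) y = polar ⇑Q (w i) y * φ _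
      rw [mul_comm]
    have h0 := Fintype.linearIndependent_iff.1 hli _ hc
    refine LinearMap.ext fun v => ?_
    rw [pi_eq_sum_univ' v, map_sum, LinearMap.zero_apply]
    refine Finset.sum_eq_zero fun i _ => ?_
    rw [map_smul]
    convert smul_zero (v i)
    convert h0 i using 2
  obtain ⟨y, hy⟩ := hf (fun i => if i = j then 1 else 0)
  exact ⟨y, fun i => congrFun hy i⟩

/-- The standard involution with non-alternating form. -/
theorem exists_orth_inv (hQ : (QuadraticMap.polarBilin Q).Nondegenerate) {l : ℕ} (hl : 1 ≤ l) (w : Fin l → ι → F)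
    (hli : LinearIndependent F w) (hQw : ∀ i, Q (w i) = 1) (hw : ∀ i j, i ≠ j → polar ⇑Q (w i) (w j) = 0) :
    ∃ g : ↥(Cfsg.isometryGroup F ⇑Q), g * g = 1 ∧ rk g = l ∧ ¬ IsAltInv g ∧ g = reflProd Q (List.ofFn w) ∧ act g (w ⟨0, hl⟩) = w ⟨0, hl⟩ := by
  obtain ⟨g, hgdef, hg⟩ := exists_refl_prod w hQw hw
  have hww : ∀ i j, polar ⇑Q (w i) (w j) = 0 := fun i j => by
    by_cases h : i = j
    · subst h; rw [QuadraticMap.polar_self, two_nsmul, CharTwo.add_self_eq_zero]
    · exact hw i j h
  have hfix : ∀ j, act g (w j) = w j := fun j => by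
    rw [act_eq_add, hg]; simp [hww]
  have hNfix : ∀ y, act g (nmap g y) = nmap g y := fun y => by
    rw [hg, act, Matrix.mulVec_sum]
    refine Finset.sum_congr rfl fun i _ => ?_
    rw [Matrix.mulVec_smul]
    exact congrArg _ (hfix i)
  have hsq : g * g = 1 := by
    refine isom_ext fun y => ?_
    rw [act_mul, act_one, act_eq_add g y, act_add, hNfix, act_eq_add g y, add_assoc, add_self_vec, add_zero]
  refine ⟨g, hsq, ?_, ?_, hgdef, hfix _⟩
  · have hr : LinearMap.range (nmap g) = Submodule.span F (Set.range w) := by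
      refine le_antisymm ?_ ?_
      · rintro _ ⟨y, rfl⟩
        rw [hg]
        exact Submodule.sum_mem _ fun i _ => Submodule.smul_mem _ _ (Submodule.subset_span ⟨i, rfl⟩)
      · rw [Submodule.span_le]
        rintro _ ⟨j, rfl⟩
        obtain ⟨y, hy⟩ := exists_dual hQ w hli j
        exact ⟨y, by rw [hg]; simp [hy]⟩
    rw [rk, hr, finrank_span_eq_card hli, Fintype.card_fin]
  · intro ha
    obtain ⟨y, hy⟩ := exists_dual hQ w hli ⟨0, hl⟩
    have := ha y
    rw [hg] at this
    simp [hy, hQw] at this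

/-- The standard involution with alternating form. -/
theorem exists_alt_inv (hQ : (QuadraticMap.polarBilin Q).Nondegenerate) {l : ℕ} (w : Fin l → ι → F)
    (π : Fin l → Fin l) (hπ : ∀ i, π (π i) = i) (hπ' : ∀ i, π i ≠ i) (hli : LinearIndependent F w)
    (hQw : ∀ i, Q (w i) = 0) (hw : ∀ i j, polar ⇑Q (w i) (w j) = 0) :
    ∃ g : ↥(Cfsg.isometryGroup F ⇑Q), g * g = 1 ∧ rk g = l ∧ IsAltInv g ∧ ∀ y, nmap g y = ∑ i, polar ⇑Q (w (π i)) y • w i := by
  let N : (ι → F) →ₗ[F] (ι → F) := ∑ i, (QuadraticMap.polarBilin Q (w (π i))).smulRight (w i)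
  have hN : ∀ y, N y = ∑ i, polar ⇑Q (w (π i)) y • w i := fun y => by simp [N]
  have hQN : ∀ y, Q (N y) = 0 := fun y => by
    rw [hN, form_sum _ _ _ fun i j _ => hw i j]
    exact Finset.sum_eq_zero fun i _ => by rw [hQw, mul_zero]
  have hBN : ∀ y, polar ⇑Q y (N y) = 0 := fun y => by
    rw [← QuadraticMap.polarBilin_apply_apply, hN, map_sum]
    refine Finset.sum_involution (fun i _ => π i) (fun i _ => ?_) (fun i _ _ => hπ' i) (fun _ _ => Finset.mem_univ _)
      (fun i _ => hπ i)
    rw [map_smul, map_smul, QuadraticMap.polarBilin_apply_apply, QuadraticMap.polarBilin_apply_apply,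
      smul_eq_mul, smul_eq_mul, polar_comm _ y, polar_comm _ y, hπ, mul_comm]
    exact CharTwo.add_self_eq_zero _
  have hNN : ∀ y, N (N y) = 0 := fun y => by
    rw [hN]
    refine Finset.sum_eq_zero fun i _ => ?_
    have : polar ⇑Q (w (π i)) (N y) = 0 := by
      rw [← QuadraticMap.polarBilin_apply_apply, hN, map_sum]
      exact Finset.sum_eq_zero fun j _ => by rw [map_smul, QuadraticMap.polarBilin_apply_apply, hw, smul_zero]
    rw [this, zero_smul]
  let T : (ι → F) →ₗ[F] (ι → F) := LinearMap.id + N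
  have hTT : ∀ y, T (T y) = y := fun y => by
    show y + N y + N (y + N y) = y
    rw [map_add, hNN, add_zero, add_assoc, add_self_vec, add_zero]
  let e : (ι → F) ≃ₗ[F] (ι → F) := LinearEquiv.ofLinear T T (LinearMap.ext hTT) (LinearMap.ext hTT)
  obtain ⟨g, hg⟩ := exists_of_linearEquiv (Q := Q) e (fun y => by
    show Q (y + N y) = Q y
    rw [QuadraticMap.map_add ⇑Q, hQN, hBN, add_zero, add_zero])
  have hn : ∀ y, nmap g y = N y := fun y => by
    rw [nmap_apply, hg]
    show y + N y + y = N y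
    rw [add_comm, ← add_assoc, add_self_vec, zero_add]
  refine ⟨g, ?_, ?_, fun y => by rw [hn, hQN], fun y => by rw [hn, hN]⟩
  · refine isom_ext fun y => ?_
    rw [act_mul, act_one, hg, hg]
    exact hTT y
  · have hr : LinearMap.range (nmap g) = Submodule.span F (Set.range w) := by
      refine le_antisymm ?_ ?_
      · rintro _ ⟨y, rfl⟩
        rw [hn, hN]
        exact Submodule.sum_mem _ fun i _ => Submodule.smul_mem _ _ (Submodule.subset_span ⟨i, rfl⟩)
      · rw [Submodule.span_le]
        rintro _ ⟨j, rfl⟩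
        obtain ⟨y, hy⟩ := exists_dual hQ w hli (π j)
        refine ⟨y, ?_⟩
        rw [hn, hN, Finset.sum_eq_single j]
        · simp [hy]
        · intro i _ hij
          rw [hy, if_neg fun e => hij (by rw [← hπ i, e, hπ]), zero_smul]
        · simp
    rw [rk, hr, finrank_span_eq_card hli, Fintype.card_fin]

theorem act_of_perp {g : ↥(Cfsg.isometryGroup F ⇑Q)} {l : ℕ} {w : Fin l → ι → F} {π : Fin l → Fin l}
    (hg : ∀ y, nmap g y = ∑ i, polar ⇑Q (w (π i)) y • w i) {v : ι → F} (hv : ∀ i, polar ⇑Q (w i) v = 0) :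
    act g v = v := by
  rw [act_eq_add, hg]; simp [hv]

end Cfsg.Agent.Forms59.Inv
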