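import Cfsg.Agent.Forms59.Hilbert90

set_option autoImplicit false

namespace Cfsg.Agent.Forms59

open Matrix

/-- Two forms preserved by `A`, where `A` has no eigenvalue `±1`, differ by a change of variables commuting with `A`. -/
theorem exists_isometry_commute {F : Type*} [Field F] [Finite F] {ι : Type*} [Fintype ι] [DecidableEq ι]
    (A M M' : Matrix ι ι F) (ε : F) (hMT : Mᵀ = ε • M) (hMT' : M'ᵀ = ε • M') (hMu : IsUnit M)
    (hMu' : IsUnit M') (hA : Aᵀ * M * A = M) (hA' : Aᵀ * M' * A = M') (hfix : IsUnit (A * A - 1)) :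
    ∃ c : Matrix ι ι F, IsUnit c ∧ A * c = c * A ∧ cᵀ * M * c = M' := by
  classical
  cases isEmpty_or_nonempty ι
  · exact ⟨1, isUnit_one, by simp, Subsingleton.elim _ _⟩
  obtain ⟨m, rfl⟩ := hMu
  obtain ⟨m', rfl⟩ := hMu'
  set M : Matrix ι ι F := (m : Matrix ι ι F)
  set M' : Matrix ι ι F := (m' : Matrix ι ι F)
  set Mi : Matrix ι ι F := ((m⁻¹ : (Matrix ι ι F)ˣ) : Matrix ι ι F)
  have hMM : M * Mi = 1 := m.mul_inv
  have hMiM : Mi * M = 1 := m.inv_mul
  have hε : ε * ε = 1 := by
    have h := congr_arg Matrix.transpose hMT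
    rw [transpose_transpose, transpose_smul, hMT, smul_smul] at h
    have hne : M ≠ 0 := m.ne_zero
    obtain ⟨i, j, hij⟩ : ∃ i j, M i j ≠ 0 := by
      by_contra hall
      push Not at hall
      exact hne (Matrix.ext hall)
    have h2 := congr_fun (congr_fun h i) j
    rw [Matrix.smul_apply, smul_eq_mul] at h2
    exact mul_right_cancel₀ hij (by rw [one_mul]; exact h2.symm)
  have hMiT : Miᵀ = ε • Mi := by
    have h : (ε • Mi) * Mᵀ = 1 := by rw [hMT, Matrix.smul_mul, Matrix.mul_smul, smul_smul, hε, one_smul, hMiM]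
    have h2 : Mᵀ * Miᵀ = 1 := by rw [← transpose_mul, hMiM, transpose_one]
    calc Miᵀ = (ε • Mi) * Mᵀ * Miᵀ := by rw [h, one_mul]
      _ = ε • Mi := by rw [mul_assoc, h2, mul_one]
  let Ai : Matrix ι ι F := Mi * Aᵀ * M
  let h : Matrix ι ι F := Mi * M'
  have hAiA : Ai * A = 1 := by
    show Mi * Aᵀ * M * A = 1
    rw [mul_assoc Mi, mul_assoc, hA, hMiM]
  have hAAi : A * Ai = 1 := mul_eq_one_comm.1 hAiA
  have hAh : A * h = h * A := by
    have h1 : M' * A = (M * A * Mi) * M' := by
      have e1 : Aᵀ * (M * A * Mi) = 1 := by rw [← mul_assoc, ← mul_assoc, hA, hMM]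
      calc M' * A = 1 * (M' * A) := by rw [one_mul]
        _ = (M * A * Mi) * (Aᵀ * M' * A) := by rw [← mul_eq_one_comm.1 e1]; simp only [mul_assoc]
        _ = (M * A * Mi) * M' := by rw [hA']
    show A * (Mi * M') = Mi * M' * A
    rw [mul_assoc Mi, h1, ← mul_assoc Mi, ← mul_assoc Mi, ← mul_assoc Mi, hMiM, one_mul, mul_assoc]
  have hAih : Ai * h = h * Ai := by
    calc Ai * h = Ai * h * (A * Ai) := by rw [hAAi, mul_one]
      _ = Ai * (h * A) * Ai := by simp only [mul_assoc]
      _ = (Ai * A) * h * Ai := by rw [← hAh]; simp only [mul_assoc]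
      _ = h * Ai := by rw [hAiA, one_mul]
  let τ0 : Matrix ι ι F → Matrix ι ι F := fun x => Mi * xᵀ * M
  have hτmul : ∀ x y, τ0 (x * y) = τ0 y * τ0 x := by
    intro x y
    show Mi * (x * y)ᵀ * M = Mi * yᵀ * M * (Mi * xᵀ * M)
    rw [transpose_mul, mul_assoc (Mi * yᵀ) M, ← mul_assoc M, ← mul_assoc M, hMM, one_mul]
    simp only [mul_assoc]
  have hτadd : ∀ x y, τ0 (x + y) = τ0 x + τ0 y := fun x y => by
    simp [τ0, transpose_add, mul_add, add_mul]
  have hττ : ∀ x, τ0 (τ0 x) = x := by
    intro x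
    show Mi * (Mi * xᵀ * M)ᵀ * M = x
    rw [transpose_mul, transpose_mul, transpose_transpose, hMT, hMiT]
    simp only [Matrix.smul_mul, Matrix.mul_smul, smul_smul, hε, one_smul]
    rw [mul_assoc, mul_assoc, mul_assoc x, hMiM, mul_one, ← mul_assoc, hMiM, one_mul]
  have hτalg : ∀ r : F, τ0 (algebraMap F (Matrix ι ι F) r) = algebraMap F (Matrix ι ι F) r := by
    intro r
    show Mi * (algebraMap F (Matrix ι ι F) r)ᵀ * M = _
    rw [Algebra.algebraMap_eq_smul_one, transpose_smul, transpose_one]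
    simp [hMiM]
  have hτA : τ0 A = Ai := rfl
  have hτh : τ0 h = h := by
    show Mi * (Mi * M')ᵀ * M = Mi * M'
    rw [transpose_mul, hMT', hMiT]
    simp only [Matrix.smul_mul, Matrix.mul_smul, smul_smul, hε, one_smul]
    rw [mul_assoc, mul_assoc, hMiM, mul_one]
  let gens : Set (Matrix ι ι F) := {A, Ai, h}
  have hcomm : ∀ x ∈ gens, ∀ y ∈ gens, x * y = y * x := by
    simp only [gens, Set.mem_insert_iff, Set.mem_singleton_iff]
    rintro x (rfl | rfl | rfl) y (rfl | rfl | rfl) <;> simp [hAAi, hAiA, hAh, hAih]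
  let S : Subalgebra F (Matrix ι ι F) := Algebra.adjoin F gens
  letI : CommRing S := Algebra.adjoinCommRingOfComm F hcomm
  have hmem : ∀ x ∈ gens, x ∈ S := fun x hx => Algebra.subset_adjoin hx
  have hstab : ∀ x ∈ S, τ0 x ∈ S := by
    intro x hx
    induction hx using Algebra.adjoin_induction with
    | mem x hx =>
      rcases hx with rfl | rfl | rfl
      · rw [hτA]; exact hmem _ (by simp [gens])
      · rw [← hτA, hττ]; exact hmem _ (by simp [gens])
      · rw [hτh]; exact hmem _ (by simp [gens])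
    | algebraMap r => rw [hτalg]; exact S.algebraMap_mem r
    | add x y _ _ hx hy => rw [hτadd]; exact S.add_mem hx hy
    | mul x y _ _ hx hy => rw [hτmul x y]; exact S.mul_mem hy hx
  let τ : S →+* S :=
    { toFun := fun x => ⟨τ0 x, hstab _ x.2⟩
      map_one' := Subtype.ext (by simp [τ0, hMiM])
      map_zero' := Subtype.ext (by simp [τ0])
      map_add' := fun x y => Subtype.ext (hτadd _ _)
      map_mul' := fun x y => Subtype.ext (by
        show τ0 ((x * y : S) : Matrix ι ι F) = _
        rw [mul_comm x y, Subalgebra.coe_mul, hτmul _ _]; rfl) }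
  have hunit : ∀ x : S, IsUnit (x : Matrix ι ι F) → IsUnit x := by
    intro x hx
    have hinj : Function.Injective (fun y : S => y * x) := fun y z hyz => by
      apply Subtype.ext
      have h' := congr_arg S.val hyz
      simp only [map_mul] at h'
      exact hx.mul_right_cancel h'
    obtain ⟨y, hy⟩ := (Finite.injective_iff_surjective.1 hinj) 1
    have hy1 : y * x = 1 := hy
    exact IsUnit.of_mul_eq_one y (by rw [mul_comm]; exact hy1)
  obtain ⟨c, hc, hcc⟩ := exists_norm_eq_finite τ (fun x => Subtype.ext (hττ _)) ⟨A, hmem _ (by simp [gens])⟩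
    (hunit _ (by
      show IsUnit (A - Ai)
      have hcA : A - Ai = Ai * (A * A - 1) := by rw [mul_sub, ← mul_assoc, hAiA, one_mul, mul_one]
      rw [hcA]
      exact (IsUnit.of_mul_eq_one A hAiA).mul hfix))
    ⟨h, hmem _ (by simp [gens])⟩ (hunit _ (m⁻¹.isUnit.mul m'.isUnit)) (Subtype.ext hτh)
  refine ⟨c, hc.map S.val, congr_arg Subtype.val (mul_comm (⟨A, hmem _ (by simp [gens])⟩ : S) c), ?_⟩
  have h2 : (τ c : S) * c = (⟨h, hmem _ (by simp [gens])⟩ : S) := by rw [mul_comm]; exact hcc
  have h3 : Mi * (c : Matrix ι ι F)ᵀ * M * (c : Matrix ι ι F) = Mi * M' := congr_arg Subtype.val h2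
  have h4 := congr_arg (M * ·) h3
  simp only [← mul_assoc, hMM, one_mul] at h4
  exact h4

end Cfsg.Agent.Forms59

namespace Cfsg.Agent.Forms59

/-- Linear-map version of `exists_isometry_commute`. -/
theorem exists_commute_of_forms {F W : Type*} [Field F] [Finite F] [AddCommGroup W] [Module F W]
    [FiniteDimensional F W] (a : Module.End F W) (B1 B2 : LinearMap.BilinForm F W) (ε : F)
    (hs1 : ∀ u v, B1 u v = ε * B1 v u) (hs2 : ∀ u v, B2 u v = ε * B2 v u)
    (h1 : B1.Nondegenerate) (h2 : B2.Nondegenerate)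
    (ha1 : ∀ u v, B1 (a u) (a v) = B1 u v) (ha2 : ∀ u v, B2 (a u) (a v) = B2 u v)
    (hinj : Function.Injective ⇑(a * a - 1)) :
    ∃ c : W ≃ₗ[F] W, (∀ w, c (a w) = a (c w)) ∧ ∀ u v, B2 u v = B1 (c u) (c v) := by
  classical
  let bs := Module.finBasis F W
  have htr : ∀ (T : LinearMap.BilinForm F W), (∀ u v, T u v = ε * T v u) →
      (LinearMap.BilinForm.toMatrix bs T).transpose = ε • LinearMap.BilinForm.toMatrix bs T := by
    intro T hT
    ext i j
    simp only [Matrix.transpose_apply, Matrix.smul_apply, smul_eq_mul, LinearMap.BilinForm.toMatrix_apply]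
    exact hT _ _
  have hunit : ∀ (T : LinearMap.BilinForm F W), T.Nondegenerate → IsUnit (LinearMap.BilinForm.toMatrix bs T) := by
    intro T hT
    rw [Matrix.isUnit_iff_isUnit_det, isUnit_iff_ne_zero]
    exact (LinearMap.BilinForm.nondegenerate_iff_det_ne_zero bs).1 hT
  have hpres : ∀ (T : LinearMap.BilinForm F W), (∀ u v, T (a u) (a v) = T u v) →
      (LinearMap.toMatrix bs bs a).transpose * LinearMap.BilinForm.toMatrix bs T * LinearMap.toMatrix bs bs a =
        LinearMap.BilinForm.toMatrix bs T := by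
    intro T hT
    rw [← LinearMap.BilinForm.toMatrix_comp]
    congr 1
    exact LinearMap.ext fun u => LinearMap.ext fun v => hT u v
  have hfix : IsUnit (LinearMap.toMatrix bs bs a * LinearMap.toMatrix bs bs a - 1) := by
    have h : LinearMap.toMatrix bs bs a * LinearMap.toMatrix bs bs a - 1 =
        LinearMap.toMatrix bs bs (a * a - 1) := by
      rw [map_sub, LinearMap.toMatrix_mul, LinearMap.toMatrix_one]
    rw [h, LinearMap.isUnit_toMatrix_iff, Module.End.isUnit_iff]
    exact ⟨hinj, LinearMap.injective_iff_surjective.1 hinj⟩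
  obtain ⟨c, hc, hcA, hcM⟩ := exists_isometry_commute _ _ _ ε (htr B1 hs1) (htr B2 hs2)
    (hunit B1 h1) (hunit B2 h2) (hpres B1 ha1) (hpres B2 ha2) hfix
  let cW : Module.End F W := Matrix.toLin bs bs c
  have hcM' : B1.comp cW cW = B2 := by
    apply (LinearMap.BilinForm.toMatrix bs).injective
    rw [LinearMap.BilinForm.toMatrix_comp (b := bs), LinearMap.toMatrix_toLin]
    exact hcM
  have hcinj : Function.Injective cW := by
    rw [injective_iff_map_eq_zero]
    intro u hu
    apply h2.1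
    intro v
    rw [← hcM', LinearMap.BilinForm.comp_apply, hu]
    simp
  refine ⟨LinearEquiv.ofInjectiveEndo cW hcinj, fun w => ?_, fun u v => ?_⟩
  · have h : cW ∘ₗ a = a ∘ₗ cW := by
      apply (LinearMap.toMatrix bs bs).injective
      rw [LinearMap.toMatrix_comp bs bs bs, LinearMap.toMatrix_comp bs bs bs, LinearMap.toMatrix_toLin]
      exact hcA.symm
    exact LinearMap.congr_fun h w
  · rw [← hcM']
    rfl

end Cfsg.Agent.Forms59
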