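import Cfsg.Agent.Forms59.Spinor
import Cfsg.Agent.Fusion91.TwoLocal

/-!
The monomial 2-subgroup of order `2 ^ 9` of the seven dimensional orthogonal commutator group on
an orthogonal frame with constant values: fusion and odd order normalizing elements.
-/

set_option autoImplicit false
set_option linter.unusedSectionVars false

namespace Cfsg.Agent.Forms59.OmegaSeven

open Matrix QuadraticMap Cfsg.Agent.Reflections

/-! ### The eight permutations -/

def pa : Equiv.Perm (Fin 7) := Equiv.swap 0 1 * Equiv.swap 2 3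
def pb : Equiv.Perm (Fin 7) := Equiv.swap 0 2 * Equiv.swap 1 3
def pt : Equiv.Perm (Fin 7) := Equiv.swap 0 1 * Equiv.swap 4 5

def pk (k : Bool × Bool × Bool) : Equiv.Perm (Fin 7) :=
  (if k.1 then pa else 1) * (if k.2.1 then pb else 1) * (if k.2.2 then pt else 1)

theorem pk_mul : ∀ k k', ∃ k'', ∀ i, pk k'' i = pk k (pk k' i) := by decide

theorem pk_inv : ∀ k, ∃ k', ∀ i, pk k' (pk k i) = i := by decide

theorem pk_inj_aux : ∀ k k', (∀ i, pk k i = pk k' i) → k = k' := by decide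

theorem pk_injective : Function.Injective pk := fun k k' h =>
  pk_inj_aux k k' fun i => by rw [h]

theorem sign_pk (k : Bool × Bool × Bool) : Equiv.Perm.sign (pk k) = 1 := by
  have h : ∀ i j k l : Fin 7, i ≠ j → k ≠ l →
      Equiv.Perm.sign (Equiv.swap i j * Equiv.swap k l) = 1 := fun i j k l hij hkl => by
    rw [map_mul, Equiv.Perm.sign_swap hij, Equiv.Perm.sign_swap hkl]; rfl
  have ha : Equiv.Perm.sign pa = 1 := h _ _ _ _ (by decide) (by decide)
  have hb : Equiv.Perm.sign pb = 1 := h _ _ _ _ (by decide) (by decide)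
  have ht : Equiv.Perm.sign pt = 1 := h _ _ _ _ (by decide) (by decide)
  rw [pk, map_mul, map_mul]
  split_ifs <;> simp [ha, hb, ht]

def P : Subgroup (Equiv.Perm (Fin 7)) where
  carrier := Set.range pk
  mul_mem' := by
    rintro _ _ ⟨k, rfl⟩ ⟨k', rfl⟩
    obtain ⟨k'', h⟩ := pk_mul k k'
    exact ⟨k'', Equiv.ext h⟩
  one_mem' := ⟨(false, false, false), by simp [pk]⟩
  inv_mem' := by
    rintro _ ⟨k, rfl⟩
    obtain ⟨k', h⟩ := pk_inv k
    exact ⟨k', eq_inv_of_mul_eq_one_left (Equiv.ext h)⟩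

theorem pk_mem (k : Bool × Bool × Bool) : pk k ∈ P := ⟨k, rfl⟩

theorem pa_mem : pa ∈ P := ⟨(true, false, false), by simp [pk]⟩

theorem pb_mem : pb ∈ P := ⟨(false, true, false), by simp [pk]⟩

theorem pt_mem : pt ∈ P := ⟨(false, false, true), by simp [pk]⟩

theorem sign_of_mem {p : Equiv.Perm (Fin 7)} (h : p ∈ P) : Equiv.Perm.sign p = 1 := by
  obtain ⟨k, rfl⟩ := h; exact sign_pk k

theorem center_aux : ∀ k, (∀ k', ∀ i, pk k (pk k' i) = pk k' (pk k i)) →
    (∀ i, pk k i = i) ∨ (∀ i, pk k i = pa i) := by decide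

theorem fixed_aux : ∀ i, (∀ k, pk k i = i) → i = 6 := by decide

theorem pa_comm : ∀ k i, pa (pk k i) = pk k (pa i) := by decide

theorem six_fixed : ∀ k, pk k 6 = 6 := by decide

theorem small_aux : ∀ i : Fin 7, pa i ≠ i → ∃ x : Fin 4, i = Fin.castLE (by decide) x := by decide

theorem involution_aux : ∀ k, (∀ i, pk k (pk k i) = i) → (∀ i, pk k i = i) ∨
    ∃ i j, pk k i ≠ i ∧ pk k j ≠ j ∧ i ≠ j ∧ pk k i ≠ j := by decide

theorem centralizer_aux : ∀ (x y : Fin 4) (u v : Bool),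
    let f : Fin 7 → Fin 7 := ![(x.castLE (by omega) : Fin 7), pa (x.castLE (by omega)),
      y.castLE (by omega), pa (y.castLE (by omega)), cond u 5 4, cond v 5 4, 6]
    Function.Injective f → ∀ i, f (f (f (f i))) = i := by decide

/-- An element of odd order normalizing `P` is trivial. -/
theorem eq_one_of_normalizes {π : Equiv.Perm (Fin 7)} (h1 : ∀ p ∈ P, π * p * π⁻¹ ∈ P)
    (h2 : ∀ p ∈ P, π⁻¹ * p * π ∈ P) {n : ℕ} (hn : Odd n) (hπ : π ^ n = 1) : π = 1 := by
  have hca : π * pa = pa * π := by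
    obtain ⟨k, hk⟩ := h1 pa pa_mem
    have hc : ∀ p ∈ P, pk k * p = p * pk k := by
      intro p hp
      obtain ⟨k', hk'⟩ := h2 p hp
      have hcomm : ∀ i, pa (pk k' i) = pk k' (pa i) := pa_comm k'
      have : pa * pk k' = pk k' * pa := Equiv.ext hcomm
      rw [hk, show p = π * pk k' * π⁻¹ by rw [hk']; group,
        show π * pa * π⁻¹ * (π * pk k' * π⁻¹) = π * (pa * pk k') * π⁻¹ by group, this]
      group
    rcases center_aux k (fun k' i => by
      have := congrArg (fun f : Equiv.Perm (Fin 7) => f i) (hc _ (pk_mem k'))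
      simpa using this) with h | h
    · exfalso
      have e : pk k = 1 := Equiv.ext h
      rw [hk, conj_eq_one_iff] at e
      exact absurd (congrArg (fun f : Equiv.Perm (Fin 7) => f 0) e) (by decide)
    · have e : pk k = pa := Equiv.ext h
      rw [hk] at e
      calc π * pa = π * pa * π⁻¹ * π := by group
        _ = pa * π := by rw [e]
  have hc : ∀ i, π (pa i) = pa (π i) := fun i => congrArg (fun f : Equiv.Perm (Fin 7) => f i) hca
  have h6 : π 6 = 6 := by
    refine fixed_aux _ fun k => ?_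
    obtain ⟨k', hk'⟩ := h2 _ (pk_mem k)
    have hfix : pk k' 6 = 6 := six_fixed k'
    rw [hk'] at hfix
    simp only [Equiv.Perm.mul_apply] at hfix
    exact Equiv.Perm.inv_eq_iff_eq.mp hfix |>.symm |> fun h => by simpa using h.symm
  have hfix : ∀ i, pa i = i → pa (π i) = π i := fun i hi => by rw [← hc, hi]
  have hmov : ∀ i, pa i ≠ i → pa (π i) ≠ π i := fun i hi h => hi (π.injective (by rw [hc, h]))
  have hsmall := small_aux
  have hbig : ∀ i : Fin 7, pa i = i → i ≠ 6 → ∃ u : Bool, i = cond u 5 4 := by decide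
  have hne6 : ∀ i : Fin 7, i ≠ 6 → π i ≠ 6 := fun i hi h => hi (π.injective (h.trans h6.symm))
  obtain ⟨x, hx⟩ := hsmall _ (hmov 0 (by decide))
  obtain ⟨y, hy⟩ := hsmall _ (hmov 2 (by decide))
  obtain ⟨u, hu⟩ := hbig _ (hfix 4 (by decide)) (hne6 4 (by decide))
  obtain ⟨v, hv⟩ := hbig _ (hfix 5 (by decide)) (hne6 5 (by decide))
  have hf : (π : Fin 7 → Fin 7) = ![(x.castLE (by omega) : Fin 7), pa (x.castLE (by omega)),
      y.castLE (by omega), pa (y.castLE (by omega)), cond u 5 4, cond v 5 4, 6] := by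
    have e1 : π 1 = pa (π 0) := by rw [← hc]; congr 1
    have e3 : π 3 = pa (π 2) := by rw [← hc]; congr 1
    funext i
    fin_cases i
    · exact hx
    · exact e1.trans (congrArg pa hx)
    · exact hy
    · exact e3.trans (congrArg pa hy)
    · exact hu
    · exact hv
    · exact h6
  have h4 := centralizer_aux x y u v (by rw [← hf]; exact π.injective)
  simp only [← hf] at h4
  have hp4 : π ^ 4 = 1 := Equiv.ext fun i => by
    simp only [pow_succ, pow_zero, one_mul, Equiv.Perm.mul_apply, Equiv.Perm.one_apply]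
    exact h4 i
  have hd4 : orderOf π ∣ 4 := orderOf_dvd_of_pow_eq_one hp4
  have hdn : orderOf π ∣ n := orderOf_dvd_of_pow_eq_one hπ
  have h2n : Nat.Coprime 4 n := Nat.Coprime.pow_left 2 (Nat.coprime_two_left.mpr hn)
  exact orderOf_eq_one_iff.mp (Nat.eq_one_of_dvd_coprimes h2n hd4 hdn)

/-! ### Frames -/

variable {ι : Type} [Fintype ι] [DecidableEq ι] {F : Type*} [Field F]

/-- An orthogonal frame of seven vectors all of value `c`. -/
structure Frame (Q : QuadraticForm F (ι → F)) where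
  B : Module.Basis (Fin 7) F (ι → F)
  c : F
  c_ne : c ≠ 0
  two : (2 : F) ≠ 0
  Q_eq : ∀ x : Fin 7 → F, Q (∑ i, x i • B i) = c * ∑ i, x i ^ 2

variable {Q : QuadraticForm F (ι → F)} (Φ : Frame Q)

namespace Frame

theorem Q_B (i : Fin 7) : Q (Φ.B i) = Φ.c := by
  have h := Φ.Q_eq (Pi.single i 1)
  rw [Finset.sum_eq_single i (fun j _ hj => by simp [hj]) (by simp)] at h
  rw [Finset.sum_eq_single i (fun j _ hj => by simp [hj]) (by simp)] at h
  simpa using h

theorem polar_B {i j : Fin 7} (h : i ≠ j) : polar ⇑Q (Φ.B i) (Φ.B j) = 0 := by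
  have e := Φ.Q_eq (Pi.single i 1 + Pi.single j 1)
  rw [Fintype.sum_eq_add i j h (fun k hk => by simp [hk.1, hk.2]),
    Fintype.sum_eq_add i j h (fun k hk => by simp [hk.1, hk.2])] at e
  simp [h, h.symm] at e
  rw [polar, e, Φ.Q_B, Φ.Q_B]
  ring

theorem polar_self_B (i : Fin 7) : polar ⇑Q (Φ.B i) (Φ.B i) = 2 * Φ.c := by
  rw [polar_self', Φ.Q_B]

theorem Q_B_ne (i : Fin 7) : Q (Φ.B i) ≠ 0 := by rw [Φ.Q_B]; exact Φ.c_ne

include Φ in
theorem card_eq : Fintype.card ι = 7 := by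
  rw [← Module.finrank_fintype_fun_eq_card F (η := ι), Module.finrank_eq_card_basis Φ.B,
    Fintype.card_fin]

include Φ in
theorem nondeg : Q.polarBilin.Nondegenerate :=
  polarBilin_nondegenerate_of_orth Φ.two Φ.B (by rw [Φ.card_eq, Fintype.card_fin])
    (fun _ _ h => Φ.polar_B h) Φ.Q_B_ne

theorem B_inj {i j : Fin 7} (h : Φ.B i = Φ.B j ∨ Φ.B i = -Φ.B j) : i = j := by
  by_contra hne
  rcases h with h | h
  · exact hne (Φ.B.injective h)
  · have := congrArg (fun v => Φ.B.repr v i) h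
    simp [Ne.symm hne] at this

theorem B_ne_neg (i : Fin 7) : Φ.B i ≠ -Φ.B i := by
  intro h
  have h1 := congrArg (fun v => Φ.B.repr v i) h
  simp at h1
  exact Φ.two (by linear_combination h1)

theorem ext_basis {g h : ↥(Cfsg.isometryGroup F ⇑Q)}
    (H : ∀ i, act g (Φ.B i) = act h (Φ.B i)) : g = h := by
  refine isom_ext fun x => ?_
  have : (mat g).mulVecLin = (mat h).mulVecLin := Φ.B.ext H
  exact LinearMap.congr_fun this x

theorem repr_act_diag {g : ↥(Cfsg.isometryGroup F ⇑Q)} {s : Fin 7 → F}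
    (h : ∀ i, act g (Φ.B i) = s i • Φ.B i) (x : ι → F) (i : Fin 7) :
    Φ.B.repr (act g x) i = s i * Φ.B.repr x i := by
  have e : (Finsupp.lapply i).comp (Φ.B.repr.toLinearMap.comp (mat g).mulVecLin) =
      s i • (Finsupp.lapply i).comp Φ.B.repr.toLinearMap := by
    refine Φ.B.ext fun j => ?_
    show Φ.B.repr (act g (Φ.B j)) i = s i * Φ.B.repr (Φ.B j) i
    rw [h j, map_smul]
    by_cases hji : j = i
    · subst hji; simp
    · simp [hji]
  exact LinearMap.congr_fun e x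

theorem act_sum (g : ↥(Cfsg.isometryGroup F ⇑Q)) (x : Fin 7 → F) :
    act g (∑ i, x i • Φ.B i) = ∑ i, x i • act g (Φ.B i) := by
  show (mat g).mulVecLin _ = _
  rw [map_sum]
  exact Finset.sum_congr rfl fun i _ => act_smul g (x i) _

/-- `g` permutes the frame up to signs by `p`. -/
def Mon (g : ↥(Cfsg.isometryGroup F ⇑Q)) (p : Equiv.Perm (Fin 7)) : Prop :=
  ∀ i, act g (Φ.B i) = Φ.B (p i) ∨ act g (Φ.B i) = -Φ.B (p i)

variable {Φ}

theorem Mon.unique {g : ↥(Cfsg.isometryGroup F ⇑Q)} {p r : Equiv.Perm (Fin 7)}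
    (hp : Φ.Mon g p) (hr : Φ.Mon g r) : p = r := by
  refine Equiv.ext fun i => Φ.B_inj ?_
  rcases hp i with h | h <;> rcases hr i with h' | h' <;> rw [h] at h'
  · exact Or.inl h'
  · exact Or.inr h'
  · exact Or.inr (by rw [← h', neg_neg])
  · exact Or.inl (neg_inj.mp h')

theorem Mon.one : Φ.Mon 1 1 := fun i => Or.inl (by simp)

theorem Mon.mul {g h : ↥(Cfsg.isometryGroup F ⇑Q)} {p r : Equiv.Perm (Fin 7)}
    (hp : Φ.Mon g p) (hr : Φ.Mon h r) : Φ.Mon (g * h) (p * r) := by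
  intro i
  rw [act_mul, Equiv.Perm.mul_apply]
  rcases hr i with h' | h' <;> rw [h']
  · exact hp (r i)
  · rw [act_neg]
    rcases hp (r i) with h | h <;> rw [h]
    · exact Or.inr rfl
    · exact Or.inl (neg_neg _)

theorem Mon.inv {g : ↥(Cfsg.isometryGroup F ⇑Q)} {p : Equiv.Perm (Fin 7)} (hp : Φ.Mon g p) :
    Φ.Mon g⁻¹ p⁻¹ := by
  intro i
  have hi : p (p⁻¹ i) = i := by simp
  rcases hp (p⁻¹ i) with h | h <;> rw [hi] at h
  · exact Or.inl (by rw [← h, act_inv_act])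
  · exact Or.inr (by
      have e := congrArg (act g⁻¹) h
      rw [act_inv_act, act_neg] at e
      rw [e, neg_neg])

theorem Mon.pow {g : ↥(Cfsg.isometryGroup F ⇑Q)} {p : Equiv.Perm (Fin 7)} (hp : Φ.Mon g p) :
    ∀ n : ℕ, Φ.Mon (g ^ n) (p ^ n)
  | 0 => by simpa using Mon.one
  | n + 1 => by rw [pow_succ, pow_succ]; exact (Mon.pow hp n).mul hp

variable (Φ)

theorem act_refl_sub {x y : Fin 7} (hxy : x ≠ y) (k : Fin 7) :
    Q (Φ.B x - Φ.B y) = 2 * Φ.c ∧
      act (refl Q (Φ.B x - Φ.B y)) (Φ.B k) = Φ.B (Equiv.swap x y k) := by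
  have hQ : Q (Φ.B x - Φ.B y) = 2 * Φ.c := by
    rw [Reflections.map_sub', Φ.Q_B, Φ.Q_B, Φ.polar_B hxy]; ring
  have hne : Q (Φ.B x - Φ.B y) ≠ 0 := by rw [hQ]; exact mul_ne_zero Φ.two Φ.c_ne
  refine ⟨hQ, ?_⟩
  rw [act_refl hne, polar_sub_left', hQ]
  rcases eq_or_ne k x with rfl | hkx
  · rw [Φ.polar_self_B, Φ.polar_B hxy.symm, Equiv.swap_apply_left, sub_zero,
      inv_mul_cancel₀ (mul_ne_zero Φ.two Φ.c_ne), one_smul]
    abel
  rcases eq_or_ne k y with rfl | hky
  · rw [Φ.polar_self_B, Φ.polar_B hxy, Equiv.swap_apply_right, zero_sub, mul_neg,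
      inv_mul_cancel₀ (mul_ne_zero Φ.two Φ.c_ne), neg_smul, one_smul]
    abel
  · rw [Φ.polar_B hkx.symm, Φ.polar_B hky.symm, Equiv.swap_apply_of_ne_of_ne hkx hky]
    simp
where
  polar_sub_left' {a b z : ι → F} : polar ⇑Q (a - b) z = polar ⇑Q a z - polar ⇑Q b z := by
    rw [sub_eq_add_neg, QuadraticMap.polar_add_left, QuadraticMap.polar_neg_left, sub_eq_add_neg]

theorem exists_perm_list (p : Equiv.Perm (Fin 7)) :
    ∃ vs : List (ι → F), (∀ v ∈ vs, Q v = 2 * Φ.c) ∧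
      (-1 : ℤˣ) ^ vs.length = Equiv.Perm.sign p ∧
      ∀ i, act (reflProd Q vs) (Φ.B i) = Φ.B (p i) := by
  induction p using Equiv.Perm.swap_induction_on with
  | one => exact ⟨[], by simp, by simp, fun i => by simp [reflProd]⟩
  | swap_mul f x y hxy ih =>
    obtain ⟨vs, hvs, hs, hact⟩ := ih
    refine ⟨(Φ.B x - Φ.B y) :: vs, ?_, ?_, fun i => ?_⟩
    · intro v hv
      rcases List.mem_cons.mp hv with rfl | hv
      · exact (Φ.act_refl_sub hxy x).1
      · exact hvs v hv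
    · rw [List.length_cons, pow_succ, hs, map_mul, Equiv.Perm.sign_swap hxy, mul_comm]
    · rw [reflProd_cons, act_mul, hact, (Φ.act_refl_sub hxy _).2, Equiv.Perm.mul_apply]

theorem exists_diag_list (A : Finset (Fin 7)) :
    ∃ vs : List (ι → F), (∀ v ∈ vs, Q v = Φ.c) ∧ vs.length = A.card ∧
      ∀ i, act (reflProd Q vs) (Φ.B i) = if i ∈ A then -Φ.B i else Φ.B i := by
  induction A using Finset.induction_on with
  | empty => exact ⟨[], by simp, by simp, fun i => by simp [reflProd]⟩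
  | insert j A hj ih =>
    obtain ⟨vs, hvs, hl, hact⟩ := ih
    refine ⟨Φ.B j :: vs, ?_, by simp [hl, hj], fun i => ?_⟩
    · intro v hv
      rcases List.mem_cons.mp hv with rfl | hv
      · exact Φ.Q_B j
      · exact hvs v hv
    · rw [reflProd_cons, act_mul, hact]
      rcases eq_or_ne i j with rfl | hij
      · simp [hj, refl_self (Φ.Q_B_ne i)]
      · have hf : act (refl Q (Φ.B j)) (Φ.B i) = Φ.B i :=
          refl_fix (Φ.Q_B_ne j) (Φ.polar_B hij.symm)
        by_cases hi : i ∈ A <;> simp [hi, hij, act_neg, hf]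

/-- The isometry permuting the frame. -/
noncomputable def pg (p : Equiv.Perm (Fin 7)) : ↥(Cfsg.isometryGroup F ⇑Q) :=
  reflProd Q (Φ.exists_perm_list p).choose

theorem act_pg (p : Equiv.Perm (Fin 7)) (i : Fin 7) : act (Φ.pg p) (Φ.B i) = Φ.B (p i) :=
  (Φ.exists_perm_list p).choose_spec.2.2 i

/-- The isometry negating the frame vectors in `A`. -/
noncomputable def dg (A : Finset (Fin 7)) : ↥(Cfsg.isometryGroup F ⇑Q) :=
  reflProd Q (Φ.exists_diag_list A).choose

theorem act_dg (A : Finset (Fin 7)) (i : Fin 7) :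
    act (Φ.dg A) (Φ.B i) = if i ∈ A then -Φ.B i else Φ.B i :=
  (Φ.exists_diag_list A).choose_spec.2.2 i

theorem mon_pg (p : Equiv.Perm (Fin 7)) : Φ.Mon (Φ.pg p) p := fun i => Or.inl (Φ.act_pg p i)

theorem mon_dg (A : Finset (Fin 7)) : Φ.Mon (Φ.dg A) 1 := fun i => by
  rw [Φ.act_dg]; split_ifs
  · exact Or.inr rfl
  · exact Or.inl rfl

theorem pg_mul (p r : Equiv.Perm (Fin 7)) : Φ.pg p * Φ.pg r = Φ.pg (p * r) :=
  Φ.ext_basis fun i => by rw [act_mul, act_pg, act_pg, act_pg, Equiv.Perm.mul_apply]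

theorem pg_one : Φ.pg 1 = 1 := Φ.ext_basis fun i => by simp [act_pg]

theorem pg_dg (p : Equiv.Perm (Fin 7)) (A : Finset (Fin 7)) :
    Φ.pg p * Φ.dg A = Φ.dg (A.image p) * Φ.pg p := by
  refine Φ.ext_basis fun i => ?_
  rw [act_mul, act_mul, act_dg, act_pg, act_dg]
  by_cases hi : i ∈ A <;> simp [hi, act_neg, act_pg]

theorem dg_mul (A A' : Finset (Fin 7)) : Φ.dg A * Φ.dg A' = Φ.dg (symmDiff A A') := by
  refine Φ.ext_basis fun i => ?_
  rw [act_mul, act_dg, act_dg]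
  by_cases hi : i ∈ A <;> by_cases hi' : i ∈ A' <;>
    simp [hi, hi', Finset.mem_symmDiff, act_neg, act_dg]

theorem dg_empty : Φ.dg ∅ = 1 := Φ.ext_basis fun i => by simp [act_dg]

theorem dg_inj : Function.Injective Φ.dg := by
  intro A A' h
  ext i
  have := Φ.act_dg A i
  rw [h, Φ.act_dg] at this
  by_cases hi : i ∈ A <;> by_cases hi' : i ∈ A' <;> simp [hi, hi'] at this ⊢
  · exact Φ.B_ne_neg i this
  · exact Φ.B_ne_neg i this.symm

variable [Fintype F]

theorem pg_mem {p : Equiv.Perm (Fin 7)} (hp : Equiv.Perm.sign p = 1) :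
    Φ.pg p ∈ Cfsg.Omega F ⇑Q := by
  classical
  obtain ⟨hv, hs, -⟩ := (Φ.exists_perm_list p).choose_spec
  replace hs := (neg_one_pow_eq_one_iff_even (show (-1 : ℤˣ) ≠ 1 by decide)).1 (hs.trans hp)
  refine (reflProd_mem_omega_iff Φ.two Φ.nondeg (by rw [Φ.card_eq]; omega) _
    fun v h => by rw [hv v h]; exact mul_ne_zero Φ.two Φ.c_ne).mpr ⟨hs, ?_⟩
  rw [List.map_eq_replicate_iff.mpr hv, List.prod_replicate]
  exact hs.isSquare_pow _

theorem dg_mem_iff (A : Finset (Fin 7)) : Φ.dg A ∈ Cfsg.Omega F ⇑Q ↔ Even A.card := by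
  classical
  obtain ⟨hv, hl, -⟩ := (Φ.exists_diag_list A).choose_spec
  refine (reflProd_mem_omega_iff Φ.two Φ.nondeg (by rw [Φ.card_eq]; omega) _
    fun v h => by rw [hv v h]; exact Φ.c_ne).trans ?_
  rw [List.map_eq_replicate_iff.mpr hv, List.prod_replicate, hl]
  exact ⟨And.left, fun h => ⟨h, h.isSquare_pow _⟩⟩

/-- The 2-subgroup. -/
noncomputable def S0 : Subgroup ↥(Cfsg.Omega F ⇑Q) where
  carrier := {g | ∃ p ∈ P, Φ.Mon g.1 p}
  mul_mem' := fun ⟨p, hp, h⟩ ⟨r, hr, h'⟩ => ⟨p * r, P.mul_mem hp hr, h.mul h'⟩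
  one_mem' := ⟨1, P.one_mem, Mon.one⟩
  inv_mem' := fun ⟨p, hp, h⟩ => ⟨p⁻¹, P.inv_mem hp, h.inv⟩

theorem mem_S0 {g : ↥(Cfsg.Omega F ⇑Q)} : g ∈ Φ.S0 ↔ ∃ p ∈ P, Φ.Mon g.1 p := Iff.rfl

noncomputable def pO (p : Equiv.Perm (Fin 7)) (hp : Equiv.Perm.sign p = 1) : ↥(Cfsg.Omega F ⇑Q) :=
  ⟨Φ.pg p, Φ.pg_mem hp⟩

noncomputable def dO (A : Finset (Fin 7)) (hA : Even A.card) : ↥(Cfsg.Omega F ⇑Q) :=
  ⟨Φ.dg A, (Φ.dg_mem_iff A).mpr hA⟩

theorem dO_mem (A : Finset (Fin 7)) (hA : Even A.card) : Φ.dO A hA ∈ Φ.S0 :=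
  ⟨1, P.one_mem, Φ.mon_dg A⟩

theorem exists_eq_dg {g : ↥(Cfsg.Omega F ⇑Q)} (h : Φ.Mon g.1 1) :
    ∃ A, ∃ hA : Even A.card, g = Φ.dO A hA := by
  classical
  set A := Finset.univ.filter fun i => act g.1 (Φ.B i) = -Φ.B i with hA'
  have e : g.1 = Φ.dg A := by
    refine Φ.ext_basis fun i => ?_
    rw [Φ.act_dg]
    by_cases hi : i ∈ A
    · rw [if_pos hi]; exact (Finset.mem_filter.mp hi).2
    · rw [if_neg hi]
      rcases h i with h | h
      · simpa using h
      · exact absurd (by simpa [hA'] using h) hi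
  exact ⟨A, (Φ.dg_mem_iff A).mp (e ▸ g.2), Subtype.ext e⟩

theorem card_S0 : Nat.card ↥Φ.S0 = 512 := by
  classical
  let f : (Bool × Bool × Bool) × {A : Finset (Fin 7) // Even A.card} → ↥Φ.S0 := fun x =>
    ⟨Φ.dO x.2.1 x.2.2 * Φ.pO (pk x.1) (sign_pk x.1),
      ⟨1 * pk x.1, P.mul_mem P.one_mem (pk_mem _), (Φ.mon_dg _).mul (Φ.mon_pg _)⟩⟩
  have hf : Function.Bijective f := by
    constructor
    · rintro ⟨k, A, hA⟩ ⟨k', A', hA'⟩ e
      have e' : Φ.dg A * Φ.pg (pk k) = Φ.dg A' * Φ.pg (pk k') :=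
        congrArg (fun z : ↥Φ.S0 => z.1.1) e
      have hp := ((Φ.mon_dg A).mul (Φ.mon_pg (pk k))).unique
        (e' ▸ (Φ.mon_dg A').mul (Φ.mon_pg (pk k')))
      simp only [one_mul] at hp
      obtain rfl := pk_injective hp
      obtain rfl := Φ.dg_inj (mul_right_cancel e')
      rfl
    · rintro ⟨g, p, hp, hg⟩
      obtain ⟨k, rfl⟩ := hp
      have h1 : Φ.Mon ((g * (Φ.pO (pk k) (sign_pk k))⁻¹ : ↥(Cfsg.Omega F ⇑Q)) : _).1 1 := by
        have := hg.mul (Φ.mon_pg (pk k)).inv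
        rwa [mul_inv_cancel] at this
      obtain ⟨A, hA, e⟩ := Φ.exists_eq_dg h1
      refine ⟨⟨k, A, hA⟩, Subtype.ext ?_⟩
      show Φ.dO A hA * Φ.pO (pk k) (sign_pk k) = g
      rw [← e, inv_mul_cancel_right]
  rw [← Nat.card_eq_of_bijective f hf, Nat.card_prod, Nat.card_eq_fintype_card,
    Nat.card_eq_fintype_card]
  rfl

/-! ### Closed subgroups -/

omit [Fintype F] in
theorem exists_pair {A : Finset (Fin 7)} (hA : Even A.card) (hne : A.Nonempty) :
    A.card = 2 ∨ ∃ i k m n : Fin 7, i ≠ k ∧ m ≠ n ∧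
      symmDiff A (A.image (Equiv.swap i k * Equiv.swap m n)) = {i, k} := by
  by_cases h2 : A.card = 2
  · exact Or.inl h2
  refine Or.inr ?_
  obtain ⟨i, hi⟩ := hne
  obtain ⟨k, hk⟩ : ∃ k, k ∉ A := by
    by_contra hc
    push Not at hc
    rw [Finset.eq_univ_of_forall hc] at hA
    exact absurd hA (by decide)
  have h0 : 0 < A.card := Finset.card_pos.mpr ⟨i, hi⟩
  have h4 : 1 < (A.erase i).card := by
    rw [Finset.card_erase_of_mem hi]
    obtain ⟨r, hr⟩ := hA
    omega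
  obtain ⟨m, hm, n, hn, hmn⟩ := Finset.one_lt_card.mp h4
  obtain ⟨hmi, hm⟩ := Finset.mem_erase.mp hm
  obtain ⟨hni, hn⟩ := Finset.mem_erase.mp hn
  have hki : i ≠ k := fun h => hk (h ▸ hi)
  have hkm : m ≠ k := fun h => hk (h ▸ hm)
  have hkn : n ≠ k := fun h => hk (h ▸ hn)
  set π := Equiv.swap i k * Equiv.swap m n with hπ
  have hk' : π k = i := by simp [hπ, Equiv.swap_apply_of_ne_of_ne hkm.symm hkn.symm]
  have hi' : π i = k := by simp [hπ, Equiv.swap_apply_of_ne_of_ne hmi.symm hni.symm]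
  have hm' : π m = n := by simp [hπ, Equiv.swap_apply_of_ne_of_ne hni hkn]
  have hn' : π n = m := by simp [hπ, Equiv.swap_apply_of_ne_of_ne hmi hkm]
  have ho : ∀ j, j ≠ i → j ≠ k → j ≠ m → j ≠ n → π j = j := fun j a b c d => by
    simp [hπ, Equiv.swap_apply_of_ne_of_ne c d, Equiv.swap_apply_of_ne_of_ne a b]
  refine ⟨i, k, m, n, hki, hmn, ?_⟩
  ext j
  have himg : j ∈ A.image π ↔ π j ∈ A := by
    have hinv : ∀ z, π (π z) = z := fun z => by
      by_cases a : z = i; · subst a; rw [hi', hk']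
      by_cases b : z = k; · subst b; rw [hk', hi']
      by_cases c : z = m; · subst c; rw [hm', hn']
      by_cases d : z = n; · subst d; rw [hn', hm']
      rw [ho z a b c d, ho z a b c d]
    exact ⟨fun h => by obtain ⟨z, hz, rfl⟩ := Finset.mem_image.mp h; rwa [hinv],
      fun h => Finset.mem_image.mpr ⟨π j, h, hinv j⟩⟩
  rw [Finset.mem_symmDiff, himg, Finset.mem_insert, Finset.mem_singleton]
  by_cases a : j = i; · subst a; simp [hi', hi, hk]
  by_cases b : j = k; · subst b; simp [hk', hi, hk]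
  by_cases c : j = m; · subst c; simp [hm', hm, hn, hmi, hkm]
  by_cases d : j = n; · subst d; simp [hn', hm, hn, hni, hkn]
  simp [ho j a b c d, a, b]

omit [Fintype F] in
theorem exists_even_perm {i k i' k' : Fin 7} (h : i ≠ k) (h' : i' ≠ k') :
    ∃ π : Equiv.Perm (Fin 7), Equiv.Perm.sign π = 1 ∧ π i = i' ∧ π k = k' := by
  set π₀ := Equiv.swap (Equiv.swap i i' k) k' * Equiv.swap i i' with hπ₀
  have hk₀ : π₀ k = k' := by simp [hπ₀]
  have hi₀ : π₀ i = i' := by
    rw [hπ₀, Equiv.Perm.mul_apply, Equiv.swap_apply_left]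
    refine Equiv.swap_apply_of_ne_of_ne (fun e => ?_) h'
    rw [← Equiv.swap_apply_left i i'] at e
    exact h ((Equiv.swap i i').injective (by simpa using e))
  rcases Int.units_eq_one_or (Equiv.Perm.sign π₀) with hs | hs
  · exact ⟨π₀, hs, hi₀, hk₀⟩
  · obtain ⟨m, n, hmn, h1, h2, h3, h4⟩ : ∃ m n : Fin 7, m ≠ n ∧ m ≠ i' ∧ m ≠ k' ∧ n ≠ i' ∧ n ≠ k' := by
      have : ∀ i' k' : Fin 7, ∃ m n : Fin 7, m ≠ n ∧ m ≠ i' ∧ m ≠ k' ∧ n ≠ i' ∧ n ≠ k' := by decide
      exact this i' k'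
    refine ⟨Equiv.swap m n * π₀, by rw [map_mul, hs, Equiv.Perm.sign_swap hmn]; rfl, ?_, ?_⟩
    · rw [Equiv.Perm.mul_apply, hi₀, Equiv.swap_apply_of_ne_of_ne h1.symm h3.symm]
    · rw [Equiv.Perm.mul_apply, hk₀, Equiv.swap_apply_of_ne_of_ne h2.symm h4.symm]

theorem exists_fuse : ∃ g : ↥(Cfsg.Omega F ⇑Q),
    g.1 * Φ.dg {0, 1} = Φ.pg pa * g.1 := by
  classical
  set x : Fin 7 → F := ![1, 1, -1, 1, 0, 0, 0] with hx
  set v := ∑ i, x i • Φ.B i with hv
  have h4 : (4 : F) ≠ 0 := by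
    have := mul_ne_zero Φ.two Φ.two; intro h; exact this (by rw [← h]; norm_num)
  have hQv : Q v = 4 * Φ.c := by
    rw [hv, Φ.Q_eq, hx]; simp [Fin.sum_univ_seven]; ring
  have hne : Q v ≠ 0 := by rw [hQv]; exact mul_ne_zero h4 Φ.c_ne
  have hpol : ∀ i, polar ⇑Q v (Φ.B i) = x i * (2 * Φ.c) := by
    intro i
    show Q.polarBilin v (Φ.B i) = _
    rw [hv, map_sum, LinearMap.sum_apply, Finset.sum_eq_single i (fun j _ hj => by
      rw [map_smul, LinearMap.smul_apply]
      show x j • polar ⇑Q (Φ.B j) (Φ.B i) = 0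
      rw [Φ.polar_B hj, smul_zero]) (by simp), map_smul, LinearMap.smul_apply]
    show x i • polar ⇑Q (Φ.B i) (Φ.B i) = _
    rw [Φ.polar_self_B, smul_eq_mul]
  have hR : ∀ i, act (refl Q v) (Φ.B i) = Φ.B i - (x i / 2) • v := by
    intro i
    rw [act_refl hne, hpol, hQv]
    congr 2
    have := Φ.c_ne; have := Φ.two
    field_simp
    ring
  refine ⟨⟨reflProd Q [v, Φ.B 4], (reflProd_mem_omega_iff Φ.two Φ.nondeg
    (by rw [Φ.card_eq]; omega) _ ?_).mpr ⟨by simp, ?_⟩⟩, ?_⟩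
  · simp [hne, Φ.Q_B_ne]
  · exact ⟨2 * Φ.c, by simp [hQv, Φ.Q_B]; ring⟩
  · show reflProd Q [v, Φ.B 4] * _ = _ * reflProd Q [v, Φ.B 4]
    rw [reflProd_cons, reflProd_cons, show reflProd Q ([] : List (ι → F)) = 1 from rfl, mul_one]
    have hva : act (Φ.pg pa) v = Φ.B 1 + Φ.B 0 - Φ.B 3 + Φ.B 2 := by
      rw [hv, Φ.act_sum, hx]
      simp [Fin.sum_univ_seven, Φ.act_pg, show pa 0 = 1 from rfl, show pa 1 = 0 from rfl,
        show pa 2 = 3 from rfl, show pa 3 = 2 from rfl]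
      abel
    have hve : v = Φ.B 0 + Φ.B 1 - Φ.B 2 + Φ.B 3 := by
      rw [hv, hx]; simp [Fin.sum_univ_seven]; abel
    have h44 : act (refl Q (Φ.B 4)) (Φ.B 4) = -Φ.B 4 := refl_self (Φ.Q_B_ne 4)
    have h4i : ∀ i, i ≠ 4 → act (refl Q (Φ.B 4)) (Φ.B i) = Φ.B i := fun i hi =>
      refl_fix (Φ.Q_B_ne 4) (Φ.polar_B (Ne.symm hi))
    refine Φ.ext_basis fun i => ?_
    simp only [act_mul, Φ.act_dg]
    have := Φ.two
    fin_cases i <;>
      simp [h4i, h44, act_neg, hR, act_sub, act_smul, Φ.act_pg, hva, hx,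
        show pa 0 = 1 from rfl, show pa 1 = 0 from rfl, show pa 2 = 3 from rfl,
        show pa 3 = 2 from rfl, show pa 4 = 4 from rfl, show pa 5 = 5 from rfl,
        show pa 6 = 6 from rfl] <;>
      rw [hve] <;> match_scalars <;> field_simp <;> ring

theorem noClosed : Fusion91.NoClosed Φ.S0 := by
  classical
  intro T hT hne hcl
  have hnorm : ∀ x ∈ T, ∀ s ∈ Φ.S0, s * x * s⁻¹ ∈ T := fun x hx s hs =>
    hcl x hx s (Φ.S0.mul_mem (Φ.S0.mul_mem hs (hT hx)) (Φ.S0.inv_mem hs))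
  -- a nontrivial diagonal element
  obtain ⟨d, hd, hd1, hdm⟩ : ∃ d ∈ T, d ≠ 1 ∧ Φ.Mon d.1 1 := by
    obtain ⟨t, ht1⟩ := (T.ne_bot_iff_exists_ne_one.mp hne)
    obtain ⟨p, hp, htm⟩ := hT t.2
    by_cases hp1 : p = 1
    · exact ⟨t, t.2, fun h => ht1 (Subtype.ext h), hp1 ▸ htm⟩
    obtain ⟨i, hi⟩ : ∃ i, p i ≠ i := by
      by_contra hc; push Not at hc; exact hp1 (Equiv.ext hc)
    obtain ⟨k, hki, hkp⟩ : ∃ k, k ≠ i ∧ k ≠ p i := by
      have : ∀ i j : Fin 7, ∃ k, k ≠ i ∧ k ≠ j := by decide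
      exact this _ _
    have hA : Even ({i, k} : Finset (Fin 7)).card := by
      rw [Finset.card_pair hki.symm]; exact even_two
    set e := Φ.dO {i, k} hA
    refine ⟨t.1 * (e * t.1⁻¹ * e⁻¹), T.mul_mem t.2 (hnorm _ (T.inv_mem t.2) e (Φ.dO_mem _ hA)),
      fun h => ?_, ?_⟩
    · have hc : t.1 * e = e * t.1 := by
        have := congrArg (fun z => z * e * t.1) h
        simpa [mul_assoc] using this
      have h1 : act t.1.1 (act (Φ.dg {i, k}) (Φ.B i)) = act (Φ.dg {i, k}) (act t.1.1 (Φ.B i)) := by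
        rw [← act_mul, ← act_mul]
        exact congrArg (fun z : ↥(Cfsg.Omega F ⇑Q) => act z.1 (Φ.B i)) hc
      rw [Φ.act_dg, if_pos (by simp), act_neg] at h1
      have hpi : act (Φ.dg {i, k}) (Φ.B (p i)) = Φ.B (p i) := by
        rw [Φ.act_dg, if_neg (by simp [hi, hkp.symm])]
      rcases htm i with h2 | h2 <;> rw [h2] at h1
      · rw [hpi] at h1; exact Φ.B_ne_neg _ h1.symm
      · rw [act_neg, hpi, neg_neg] at h1; exact Φ.B_ne_neg _ h1
    · have := htm.mul (((Φ.mon_dg {i, k}).mul htm.inv).mul (Φ.mon_dg {i, k}).inv)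
      simp at this ⊢
      exact this
  obtain ⟨A, hA, rfl⟩ := Φ.exists_eq_dg hdm
  have hAne : A.Nonempty := by
    rw [Finset.nonempty_iff_ne_empty]
    rintro rfl
    exact hd1 (Subtype.ext Φ.dg_empty)
  have himg : ∀ (B : Finset (Fin 7)) (hB : Even B.card), Φ.dO B hB ∈ T →
      ∀ π : Equiv.Perm (Fin 7), Equiv.Perm.sign π = 1 → ∀ h, Φ.dO (B.image π) h ∈ T := by
    intro B hB hm π hπ h
    have e : Φ.pO π hπ * Φ.dO B hB * (Φ.pO π hπ)⁻¹ = Φ.dO (B.image π) h := by
      rw [mul_inv_eq_iff_eq_mul]; exact Subtype.ext (Φ.pg_dg π B)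
    rw [← e]
    exact hcl _ hm _ (e ▸ Φ.dO_mem _ h)
  have hsd : ∀ (B B' : Finset (Fin 7)) (hB : Even B.card) (hB' : Even B'.card)
      (h : Even (symmDiff B B').card), Φ.dO B hB ∈ T → Φ.dO B' hB' ∈ T →
      Φ.dO (symmDiff B B') h ∈ T := by
    intro B B' hB hB' h m m'
    have e : Φ.dO B hB * Φ.dO B' hB' = Φ.dO (symmDiff B B') h := Subtype.ext (Φ.dg_mul B B')
    exact e ▸ T.mul_mem m m'
  obtain ⟨i₀, k₀, h₀, hP₀⟩ : ∃ i k, i ≠ k ∧
      ∀ h : Even ({i, k} : Finset (Fin 7)).card, Φ.dO {i, k} h ∈ T := by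
    rcases exists_pair hA hAne with h | ⟨i, k, m, n, hik, hmn, e⟩
    · obtain ⟨i, k, hik, rfl⟩ := Finset.card_eq_two.mp h
      exact ⟨i, k, hik, fun _ => hd⟩
    · refine ⟨i, k, hik, fun h => ?_⟩
      have hs : Equiv.Perm.sign (Equiv.swap i k * Equiv.swap m n) = 1 := by
        rw [map_mul, Equiv.Perm.sign_swap hik, Equiv.Perm.sign_swap hmn]; rfl
      have hc : Even (A.image (Equiv.swap i k * Equiv.swap m n)).card := by
        rwa [Finset.card_image_of_injective _ (Equiv.injective _)]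
      have := hsd A _ hA hc (e ▸ h) hd (himg A hA hd _ hs hc)
      simpa only [e] using this
  have hpair : ∀ i k, i ≠ k → ∀ h : Even ({i, k} : Finset (Fin 7)).card, Φ.dO {i, k} h ∈ T := by
    intro i k hik h
    obtain ⟨π, hπ, hi, hk⟩ := exists_even_perm h₀ hik
    have e : ({i₀, k₀} : Finset (Fin 7)).image π = {i, k} := by simp [Finset.image_insert, hi, hk]
    have h' : Even ({i₀, k₀} : Finset (Fin 7)).card := by
      rw [Finset.card_pair h₀]; exact even_two
    have := himg _ h' (hP₀ h') π hπ (e ▸ h)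
    simpa only [e] using this
  have hall : ∀ (B : Finset (Fin 7)) (hB : Even B.card), Φ.dO B hB ∈ T := by
    intro B
    induction B using Finset.strongInduction with
    | H B ih =>
      intro hB
      by_cases h0 : B = ∅
      · subst h0
        have : Φ.dO ∅ hB = 1 := Subtype.ext Φ.dg_empty
        exact this ▸ T.one_mem
      have h1 : 1 < B.card := by
        obtain ⟨r, hr⟩ := hB
        have : B.card ≠ 0 := fun h => h0 (Finset.card_eq_zero.mp h)
        omega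
      obtain ⟨i, hi, k, hk, hik⟩ := Finset.one_lt_card.mp h1
      have hsub : ({i, k} : Finset (Fin 7)) ⊆ B := by
        simp [Finset.insert_subset_iff, hi, hk]
      have h' : Even ({i, k} : Finset (Fin 7)).card := by
        rw [Finset.card_pair hik]; exact even_two
      have hlt : B \ {i, k} ⊂ B := Finset.sdiff_ssubset hsub ⟨i, by simp⟩
      have hB' : Even (B \ {i, k}).card := by
        rw [Finset.card_sdiff_of_subset hsub, Nat.even_sub (Finset.card_le_card hsub)]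
        exact iff_of_true hB h'
      have e : symmDiff {i, k} (B \ {i, k}) = B := by
        ext j
        simp only [Finset.mem_symmDiff, Finset.mem_sdiff]
        constructor
        · rintro (⟨h, -⟩ | ⟨⟨h, -⟩, -⟩)
          · exact hsub h
          · exact h
        · intro h
          by_cases hj : j ∈ ({i, k} : Finset (Fin 7))
          · exact Or.inl ⟨hj, fun h => h.2 hj⟩
          · exact Or.inr ⟨⟨h, hj⟩, hj⟩
      have := hsd _ _ h' hB' (e.symm ▸ hB) (hpair i k hik h') (ih _ hlt hB')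
      simpa only [e] using this
  have hσ : ∀ (σ p r : Equiv.Perm (Fin 7)) (hσ : Equiv.Perm.sign σ = 1) (hp : p ∈ P)
      (hr : r ∈ P), σ * p = r * σ → Φ.pO p (sign_of_mem hp) ∈ T →
      Φ.pO r (sign_of_mem hr) ∈ T := by
    intro σ p r hσ hp hr e hm
    have e' : Φ.pO σ hσ * Φ.pO p (sign_of_mem hp) * (Φ.pO σ hσ)⁻¹ = Φ.pO r (sign_of_mem hr) := by
      rw [mul_inv_eq_iff_eq_mul]
      exact Subtype.ext (by
        show Φ.pg σ * Φ.pg p = Φ.pg r * Φ.pg σ
        rw [Φ.pg_mul, Φ.pg_mul, e])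
    exact e' ▸ hcl _ hm _ (e' ▸ ⟨r, hr, Φ.mon_pg r⟩)
  have ha : Φ.pO pa (sign_of_mem pa_mem) ∈ T := by
    obtain ⟨g, hg⟩ := Φ.exists_fuse
    have h01 : Even ({0, 1} : Finset (Fin 7)).card := by decide
    have e : g * Φ.dO {0, 1} h01 * g⁻¹ = Φ.pO pa (sign_of_mem pa_mem) := by
      rw [mul_inv_eq_iff_eq_mul]; exact Subtype.ext hg
    exact e ▸ hcl _ (hall _ h01) g (e ▸ ⟨pa, pa_mem, Φ.mon_pg pa⟩)
  have hb : Φ.pO pb (sign_of_mem pb_mem) ∈ T :=
    hσ (Equiv.swap 1 2 * Equiv.swap 4 5) pa pb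
      (by rw [map_mul, Equiv.Perm.sign_swap (by decide), Equiv.Perm.sign_swap (by decide)]; rfl)
      pa_mem pb_mem (Equiv.ext (by decide)) ha
  have ht : Φ.pO pt (sign_of_mem pt_mem) ∈ T :=
    hσ (Equiv.swap 2 4 * Equiv.swap 3 5) pa pt
      (by rw [map_mul, Equiv.Perm.sign_swap (by decide), Equiv.Perm.sign_swap (by decide)]; rfl)
      pa_mem pt_mem (Equiv.ext (by decide)) ha
  refine le_antisymm hT fun g hg => ?_
  obtain ⟨p, hp, hgm⟩ := hg
  have hpT : Φ.pO p (sign_of_mem hp) ∈ T := by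
    have key : ∀ (b : Bool) (x : Equiv.Perm (Fin 7)) (hx : x ∈ P),
        Φ.pO x (sign_of_mem hx) ∈ T → ∀ h, Φ.pO (if b then x else 1) h ∈ T := by
      intro b x hx hm h
      cases b
      · have : Φ.pO (if false then x else 1) h = 1 := Subtype.ext (by
          show Φ.pg (if false then x else 1) = 1
          simpa using Φ.pg_one)
        exact this ▸ T.one_mem
      · exact hm
    obtain ⟨⟨b1, b2, b3⟩, rfl⟩ := hp
    have s1 : Equiv.Perm.sign (if b1 then pa else 1) = 1 := by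
      cases b1 <;> simp [sign_of_mem pa_mem]
    have s2 : Equiv.Perm.sign (if b2 then pb else 1) = 1 := by
      cases b2 <;> simp [sign_of_mem pb_mem]
    have s3 : Equiv.Perm.sign (if b3 then pt else 1) = 1 := by
      cases b3 <;> simp [sign_of_mem pt_mem]
    have e : Φ.pO _ s1 * Φ.pO _ s2 * Φ.pO _ s3 = Φ.pO (pk (b1, b2, b3)) (sign_pk _) :=
      Subtype.ext (by
        show Φ.pg _ * Φ.pg _ * Φ.pg _ = Φ.pg _
        rw [Φ.pg_mul, Φ.pg_mul]; rfl)
    exact e ▸ T.mul_mem (T.mul_mem (key b1 pa pa_mem ha s1) (key b2 pb pb_mem hb s2))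
      (key b3 pt pt_mem ht s3)
  have hdiag : Φ.Mon (g * (Φ.pO p (sign_of_mem hp))⁻¹ : ↥(Cfsg.Omega F ⇑Q)).1 1 := by
    have := hgm.mul (Φ.mon_pg p).inv
    rwa [mul_inv_cancel] at this
  obtain ⟨B, hB, e⟩ := Φ.exists_eq_dg hdiag
  rw [mul_inv_eq_iff_eq_mul] at e
  exact e ▸ T.mul_mem (hall B hB) hpT

/-! ### Elements of odd order normalizing -/

theorem exists_image_of_normalizer {g : ↥(Cfsg.Omega F ⇑Q)}
    (hg : g ∈ Subgroup.normalizer (Φ.S0 : Set ↥(Cfsg.Omega F ⇑Q))) (j : Fin 7) :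
    ∃ i, act g.1 (Φ.B j) = Φ.B i ∨ act g.1 (Φ.B j) = -Φ.B i := by
  classical
  have hA : Even (Finset.univ.erase j).card := by
    rw [Finset.card_erase_of_mem (Finset.mem_univ j), Finset.card_univ, Fintype.card_fin]
    decide
  set x := Φ.dO _ hA with hx
  obtain ⟨p, hp, hm⟩ := (Subgroup.mem_normalizer_iff.mp hg x).mp (Φ.dO_mem _ hA)
  set h := g * x * g⁻¹ with hh
  have hxs : ∀ i, act x.1 (Φ.B i) = (if i = j then (1 : F) else -1) • Φ.B i := by
    intro i
    show act (Φ.dg _) _ = _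
    rw [Φ.act_dg]
    by_cases hij : i = j <;> simp [hij]
  set u := act g.1 (Φ.B j) with hu
  have hune : u ≠ 0 := fun e => Φ.B.ne_zero j (act_injective g.1 (e.trans (act_zero _).symm))
  have hufix : act h.1 u = u := by
    show act (g.1 * x.1 * (g.1)⁻¹) u = u
    rw [hu, act_mul, act_inv_act, act_mul, hxs]
    simp
  have huniq : ∀ w, act h.1 w = w → ∃ t : F, w = t • u := by
    intro w hw
    set z := act (g.1)⁻¹ w with hz
    have hzf : act x.1 z = z := by
      have := congrArg (act (g.1)⁻¹) hw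
      rw [show h.1 = g.1 * x.1 * (g.1)⁻¹ from rfl, act_mul, act_mul, act_inv_act] at this
      exact this
    refine ⟨Φ.B.repr z j, ?_⟩
    have hzz : z = Φ.B.repr z j • Φ.B j := by
      refine Φ.B.ext_elem fun i => ?_
      rcases eq_or_ne i j with rfl | hij
      · simp
      · have e := Φ.repr_act_diag hxs z i
        rw [hzf, if_neg hij] at e
        have : Φ.B.repr z i = 0 := by
          have h2 : 2 * Φ.B.repr z i = 0 := by linear_combination e
          exact (mul_eq_zero.mp h2).resolve_left Φ.two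
        simp [this, Ne.symm hij]
    rw [hu, ← act_smul, ← hzz, hz, act_act_inv]
  have hhh : act h.1 ∘ act h.1 = id := funext fun w => by
    show act h.1 (act h.1 w) = w
    rw [← act_mul]
    have : h * h = 1 := by
      have hxx : x * x = 1 := Subtype.ext (by
        show Φ.dg _ * Φ.dg _ = 1
        rw [Φ.dg_mul, symmDiff_self]; exact Φ.dg_empty)
      rw [hh, show g * x * g⁻¹ * (g * x * g⁻¹) = g * (x * x) * g⁻¹ by group, hxx]; group
    rw [show h.1 * h.1 = 1 from congrArg Subtype.val this, act_one]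
  obtain ⟨k, rfl⟩ := hp
  have hpp : ∀ i, pk k (pk k i) = i := by
    intro i
    have h2 : Φ.Mon (h.1 * h.1) 1 := fun i => Or.inl (by
      rw [act_mul]; exact congrFun hhh _)
    exact congrArg (fun f : Equiv.Perm (Fin 7) => f i) ((hm.mul hm).unique h2)
  rcases involution_aux k hpp with hp1 | ⟨a, b, ha, hb, hab, hab'⟩
  · have e1 : pk k = 1 := Equiv.ext hp1
    rw [e1] at hm
    obtain ⟨i, hi⟩ : ∃ i, Φ.B.repr u i ≠ 0 := by
      by_contra hc; push Not at hc
      exact hune (Φ.B.ext_elem fun i => by simp [hc i])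
    set s : Fin 7 → F := fun i => if act h.1 (Φ.B i) = Φ.B i then 1 else -1
    have hs : ∀ i, act h.1 (Φ.B i) = s i • Φ.B i := by
      intro i
      by_cases e : act h.1 (Φ.B i) = Φ.B i
      · simp [s, e]
      · rcases hm i with h' | h'
        · exact absurd h' e
        · simp only [s, if_neg e, neg_smul, one_smul]; exact h'
    have hplus : ∀ i, Φ.B.repr u i ≠ 0 → act h.1 (Φ.B i) = Φ.B i := by
      intro i hi
      by_contra e
      have e' := Φ.repr_act_diag hs u i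
      rw [hufix] at e'
      simp only [s, if_neg e] at e'
      have h2 : 2 * Φ.B.repr u i = 0 := by linear_combination e'
      exact hi ((mul_eq_zero.mp h2).resolve_left Φ.two)
    obtain ⟨t, ht⟩ := huniq _ (hplus i hi)
    have hother : ∀ i', i' ≠ i → Φ.B.repr u i' = 0 := by
      intro i' hi'
      have e := congrArg (fun w => Φ.B.repr w i') ht
      have ht0 : t ≠ 0 := by rintro rfl; rw [zero_smul] at ht; exact Φ.B.ne_zero i ht
      simp [Ne.symm hi'] at e
      exact e.resolve_left ht0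
    have hu' : u = Φ.B.repr u i • Φ.B i := Φ.B.ext_elem fun i' => by
      rcases eq_or_ne i' i with rfl | hi'
      · simp
      · simp [hother i' hi', Ne.symm hi']
    have hQ : Φ.B.repr u i * Φ.B.repr u i = 1 := by
      have e := act_Q g.1 (Φ.B j)
      rw [← hu, hu', Reflections.map_smul', Φ.Q_B, Φ.Q_B] at e
      exact mul_right_cancel₀ Φ.c_ne (e.trans (one_mul _).symm)
    refine ⟨i, ?_⟩
    rcases mul_self_eq_one_iff.mp hQ with e | e <;> rw [e] at hu'
    · exact Or.inl (by rw [hu', one_smul])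
    · exact Or.inr (by rw [hu', neg_smul, one_smul])
  · exfalso
    have hfix : ∀ a, act h.1 (Φ.B a + act h.1 (Φ.B a)) = Φ.B a + act h.1 (Φ.B a) := fun a => by
      rw [act_add, show act h.1 (act h.1 (Φ.B a)) = Φ.B a from congrFun hhh _, add_comm]
    have hr : ∀ a c, pk k a ≠ c → Φ.B.repr (act h.1 (Φ.B a)) c = 0 := fun a c hc => by
      rcases hm a with e | e <;> simp [e, hc]
    obtain ⟨t, ht⟩ := huniq _ (hfix a)
    obtain ⟨r, hr'⟩ := huniq _ (hfix b)
    have hba : pk k b ≠ a := fun e => hab' (by rw [← e, hpp])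
    have e1 := congrArg (fun w => Φ.B.repr w a) ht
    have e2 := congrArg (fun w => Φ.B.repr w a) hr'
    have e3 := congrArg (fun w => Φ.B.repr w b) hr'
    simp [hr a a ha] at e1
    simp [hr b a hba, Ne.symm hab] at e2
    simp [hr b b hb] at e3
    rcases e2 with e2 | e2
    · subst e2; simp at e3
    · rw [e2, mul_zero] at e1; exact one_ne_zero e1

theorem oddNormCentral : Fusion91.OddNormCentral Φ.S0 := by
  classical
  intro g hg ho x hx
  suffices g = 1 by subst this; simp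
  choose f hf using Φ.exists_image_of_normalizer hg
  have hinj : Function.Injective f := by
    intro a b hab
    apply Φ.B_inj
    rcases hf a with ea | ea <;> rcases hf b with eb | eb <;> rw [hab] at ea
    · exact Or.inl (act_injective g.1 (ea.trans eb.symm))
    · exact Or.inr (act_injective g.1 (by rw [act_neg, ea, eb, neg_neg]))
    · exact Or.inr (act_injective g.1 (by rw [act_neg, ea, eb]))
    · exact Or.inl (act_injective g.1 (ea.trans eb.symm))
  set π : Equiv.Perm (Fin 7) := Equiv.ofBijective f (Finite.injective_iff_bijective.mp hinj)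
  have hm : Φ.Mon g.1 π := hf
  have hn : π ^ orderOf g = 1 := by
    refine (hm.pow (orderOf g)).unique ?_
    rw [← SubgroupClass.coe_pow, pow_orderOf_eq_one]
    exact Mon.one
  have h1 : π = 1 := by
    refine eq_one_of_normalizes ?_ ?_ ho hn
    · intro p hp
      have hp' : Φ.pO p (sign_of_mem hp) ∈ Φ.S0 := ⟨p, hp, Φ.mon_pg p⟩
      obtain ⟨r, hr, hrm⟩ := (Subgroup.mem_normalizer_iff.mp hg _).mp hp'
      exact ((hm.mul (Φ.mon_pg p)).mul hm.inv).unique hrm ▸ hr
    · intro p hp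
      have hp' : Φ.pO p (sign_of_mem hp) ∈ Φ.S0 := ⟨p, hp, Φ.mon_pg p⟩
      have hg' := (Subgroup.normalizer (Φ.S0 : Set ↥(Cfsg.Omega F ⇑Q))).inv_mem hg
      obtain ⟨r, hr, hrm⟩ := (Subgroup.mem_normalizer_iff.mp hg' _).mp hp'
      have := ((hm.inv.mul (Φ.mon_pg p)).mul hm.inv.inv).unique hrm
      rw [inv_inv] at this
      exact this ▸ hr
  rw [h1] at hm
  have hsq : g ^ 2 = 1 := Subtype.ext (Φ.ext_basis fun i => by
    rw [pow_two]
    show act (g.1 * g.1) _ = act 1 _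
    rw [act_mul, act_one]
    rcases hm i with e | e <;> simp only [Equiv.Perm.one_apply] at e <;>
      simp [e, act_neg])
  have h2 : orderOf g ∣ 2 := orderOf_dvd_of_pow_eq_one hsq
  exact orderOf_eq_one_iff.mp (Nat.eq_one_of_dvd_coprimes
    (Nat.coprime_two_left.mpr ho) h2 dvd_rfl)

end Frame

end Cfsg.Agent.Forms59.OmegaSeven
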