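import Cfsg.Agent.KnownSimple58.RegularNilpotent

/-!
Regular unipotent isometries of a bilinear form in odd characteristic.
-/

set_option autoImplicit false
set_option linter.unusedSectionVars false

namespace Cfsg.Agent.Forms59

open Matrix KS58
open scoped Matrix

variable {F : Type*} [Field F] {n : ℕ}

/-- `X` is skew-adjoint for the form `J`. -/
def SkewFor (J X : Matrix (Fin n) (Fin n) F) : Prop := Xᵀ * J + J * X = 0

theorem cayley_skew {J U V : Matrix (Fin n) (Fin n) F} (hU : Uᵀ * J * U = J)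
    (hV1 : (U + 1) * V = 1) : SkewFor J ((U - 1) * V) := by
  have hc : Commute (U - 1) (U + 1) :=
    ((Commute.refl U).add_right (Commute.one_right U)).sub_left (Commute.one_left _)
  have hV2 : V * (U + 1) = 1 := mul_eq_one_comm.1 hV1
  obtain ⟨M, hMdef⟩ : ∃ M, M = (U - 1) * V := ⟨_, rfl⟩
  have hM : M * (U + 1) = U - 1 := by rw [hMdef, mul_assoc, hV2, mul_one]
  rw [← hMdef]
  unfold SkewFor
  have key : (U + 1)ᵀ * (Mᵀ * J + J * M) * (U + 1) = 0 := by
    calc (U + 1)ᵀ * (Mᵀ * J + J * M) * (U + 1)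
        = (M * (U + 1))ᵀ * J * (U + 1) + (U + 1)ᵀ * J * (M * (U + 1)) := by
          rw [transpose_mul]; noncomm_ring
      _ = (U - 1)ᵀ * J * (U + 1) + (U + 1)ᵀ * J * (U - 1) := by rw [hM]
      _ = 2 • (Uᵀ * J * U) - 2 • J := by
          simp only [transpose_sub, transpose_add, transpose_one]; noncomm_ring
      _ = 0 := by rw [hU, sub_self]
  calc Mᵀ * J + J * M = ((U + 1) * V)ᵀ * (Mᵀ * J + J * M) * ((U + 1) * V) := by
        rw [hV1, transpose_one, one_mul, mul_one]
    _ = Vᵀ * ((U + 1)ᵀ * (Mᵀ * J + J * M) * (U + 1)) * V := by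
        rw [transpose_mul]; noncomm_ring
    _ = 0 := by rw [key, mul_zero, zero_mul]

theorem cayley_preserves {J S W : Matrix (Fin n) (Fin n) F} (hS : SkewFor J S)
    (hW : (1 - S) * W = 1) : ((1 + S) * W)ᵀ * J * ((1 + S) * W) = J := by
  have hS' : Sᵀ * J = -(J * S) := eq_neg_of_add_eq_zero_left hS
  have key : (1 + S)ᵀ * J * (1 + S) = (1 - S)ᵀ * J * (1 - S) := by
    simp only [transpose_add, transpose_sub, transpose_one, add_mul, sub_mul, mul_add, mul_sub,
      one_mul, mul_one, hS']
    abel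
  calc ((1 + S) * W)ᵀ * J * ((1 + S) * W) = Wᵀ * ((1 + S)ᵀ * J * (1 + S)) * W := by
        rw [transpose_mul]; noncomm_ring
    _ = ((1 - S) * W)ᵀ * J * ((1 - S) * W) := by rw [key, transpose_mul]; noncomm_ring
    _ = J := by rw [hW, transpose_one, one_mul, mul_one]

theorem isUnit_two_add {N : Matrix (Fin n) (Fin n) F} (h2 : (2 : F) ≠ 0) (hN : IsNilpotent N) :
    IsUnit (1 + (1 + N)) := by
  have : (1 : Matrix (Fin n) (Fin n) F) + (1 + N) = (2 : F) • 1 + N := by
    rw [← add_assoc, two_smul]
  rw [this]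
  rw [add_comm]
  refine hN.isUnit_add_right_of_commute ?_ ((Commute.one_right N).smul_right (2 : F))
  rw [Matrix.isUnit_iff_isUnit_det, det_smul, det_one, mul_one]
  exact isUnit_iff_ne_zero.2 (pow_ne_zero _ h2)

/-- The Cayley transform of a regular unipotent isometry. -/
theorem exists_cayley {J U : Matrix (Fin n) (Fin n) F} (h2 : (2 : F) ≠ 0) (hU : Uᵀ * J * U = J)
    (hN : IsRegNil (U - 1)) :
    ∃ M, IsRegNil M ∧ SkewFor J M ∧ ∀ X, Commute X U ↔ Commute X M := by
  obtain ⟨V, hV1⟩ : ∃ V, (U + 1) * V = 1 := by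
    have h := isUnit_two_add h2 (⟨n, hN.1⟩ : IsNilpotent (U - 1))
    rw [add_sub_cancel, add_comm] at h
    exact ⟨_, h.mul_val_inv⟩
  have hV2 : V * (U + 1) = 1 := mul_eq_one_comm.1 hV1
  have hcV : ∀ X, Commute X U → Commute X V := by
    intro X hX
    have h1 : X * (U + 1) = (U + 1) * X := (hX.add_right (Commute.one_right X)).eq
    calc X * V = V * (U + 1) * X * V := by rw [hV2, one_mul]
      _ = V * (X * (U + 1)) * V := by rw [h1]; noncomm_ring
      _ = V * X * ((U + 1) * V) := by noncomm_ring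
      _ = V * X := by rw [hV1, mul_one]
  refine ⟨(U - 1) * V, ⟨?_, ?_⟩, cayley_skew hU hV1, fun X => ⟨fun hX => ?_, fun hX => ?_⟩⟩
  · rw [(hcV _ ((Commute.refl U).sub_left (Commute.one_left U))).mul_pow, hN.1, zero_mul]
  · rw [Matrix.rank_mul_eq_left_of_isUnit_det _ _
      ((Matrix.isUnit_iff_isUnit_det _).1 (IsUnit.of_mul_eq_one _ hV2))]
    exact hN.2
  · exact (hX.sub_right (Commute.one_right X)).mul_right (hcV X hX)
  · set M := (U - 1) * V with hMdef
    have hM : M * (U + 1) = U - 1 := by rw [hMdef, mul_assoc, hV2, mul_one]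
    have h1 : (1 - M) * U = 1 + M := by
      have : M * U + M = U - 1 := by rw [← hM, mul_add, mul_one]
      rw [sub_mul, one_mul]
      linear_combination (norm := noncomm_ring) -this
    have hu : IsUnit (1 - M) := by
      refine IsNilpotent.isUnit_one_sub ⟨n, ?_⟩
      rw [hMdef, (hcV _ ((Commute.refl U).sub_left (Commute.one_left U))).mul_pow, hN.1, zero_mul]
    have h2' : (1 - M) * (X * U) = (1 - M) * (U * X) := by
      rw [← mul_assoc, ← ((Commute.one_right X).sub_right hX).eq, mul_assoc, h1,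
        ((Commute.one_right X).add_right hX).eq, ← mul_assoc, h1]
    exact hu.mul_left_cancel h2'

/-- Polynomials in `M` of degree below `n`. -/
noncomputable def poly (M : Matrix (Fin n) (Fin n) F) (c : Fin n → F) : Matrix (Fin n) (Fin n) F :=
  ∑ i, c i • M ^ (i : ℕ)

theorem poly_commute (M : Matrix (Fin n) (Fin n) F) (c : Fin n → F) : Commute (poly M c) M :=
  Commute.sum_left _ _ _ fun _ _ => ((Commute.refl M).pow_left _).smul_left _

theorem poly_injective {M : Matrix (Fin n) (Fin n) F} (hM : IsRegNil M) :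
    Function.Injective (poly M) := by
  rcases Nat.eq_zero_or_pos n with rfl | hn
  · exact fun a b _ => Subsingleton.elim _ _
  obtain ⟨v, hv⟩ := hM.exists_cyclic hn
  intro a b hab
  have h := congrArg (fun X => X *ᵥ v) hab
  simp only [poly, Matrix.sum_mulVec, Matrix.smul_mulVec] at h
  have hli := linearIndependent_krylov hM.1 hv
  rw [Fintype.linearIndependent_iff] at hli
  funext i
  refine sub_eq_zero.1 (hli (fun i => a i - b i) ?_ i)
  simp only [sub_smul, Finset.sum_sub_distrib, h, sub_self]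

theorem poly_eq_const_add (M : Matrix (Fin n) (Fin n) F) (hn : 0 < n) (c : Fin n → F) :
    ∃ P, Commute P M ∧ poly M c = c ⟨0, hn⟩ • 1 + M * P := by
  obtain ⟨m, rfl⟩ : ∃ m, n = m + 1 := ⟨n - 1, by omega⟩
  refine ⟨∑ i : Fin m, c i.succ • M ^ (i : ℕ),
    Commute.sum_left _ _ _ fun _ _ => ((Commute.refl M).pow_left _).smul_left _, ?_⟩
  rw [poly, Fin.sum_univ_succ]
  simp only [Fin.val_zero, pow_zero, Fin.val_succ, pow_succ', ← mul_smul_comm, ← Finset.mul_sum]
  rfl

theorem pow_skew {J M : Matrix (Fin n) (Fin n) F} (hM : SkewFor J M) :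
    ∀ k : ℕ, (M ^ k)ᵀ * J = (-1 : F) ^ k • (J * M ^ k)
  | 0 => by simp
  | k + 1 => by
    rw [pow_succ' M, transpose_mul, mul_assoc, eq_neg_of_add_eq_zero_left hM, mul_neg, ← mul_assoc,
      pow_skew hM k, smul_mul_assoc, mul_assoc, ← pow_succ, ← pow_succ', pow_succ (-1 : F),
      mul_neg_one, neg_smul]

/-- The adjoint polynomial. -/
noncomputable def alt (c : Fin n → F) : Fin n → F := fun i => (-1) ^ (i : ℕ) * c i

theorem poly_adjoint {J M : Matrix (Fin n) (Fin n) F} (hM : SkewFor J M) (c : Fin n → F) :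
    (poly M c)ᵀ * J = J * poly M (alt c) := by
  simp only [poly, alt, transpose_sum, transpose_smul, Finset.sum_mul, Finset.mul_sum,
    smul_mul_assoc, pow_skew hM, mul_smul_comm, smul_smul]
  exact Finset.sum_congr rfl fun i _ => by rw [mul_comm]

theorem skew_poly_iff {J M : Matrix (Fin n) (Fin n) F} (h2 : (2 : F) ≠ 0) (hJ : IsUnit J)
    (hM : IsRegNil M) (hS : SkewFor J M) (c : Fin n → F) :
    SkewFor J (poly M c) ↔ ∀ i : Fin n, Even (i : ℕ) → c i = 0 := by
  unfold SkewFor
  rw [poly_adjoint hS, ← mul_add, hJ.mul_right_eq_zero]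
  have e : poly M (alt c) + poly M c = poly M (alt c + c) := by
    simp [poly, add_smul, Finset.sum_add_distrib]
  have e0 : poly M (0 : Fin n → F) = 0 := by simp [poly]
  rw [e, ← e0, (poly_injective hM).eq_iff, funext_iff]
  refine forall_congr' fun i => ?_
  simp only [alt, Pi.add_apply, Pi.zero_apply]
  rcases Nat.even_or_odd (i : ℕ) with h | h
  · rw [h.neg_one_pow, one_mul, ← two_mul, mul_eq_zero]
    simp [h, h2]
  · rw [h.neg_one_pow]
    simp [Nat.not_even_iff_odd.2 h]

theorem isUnit_add_one_of_const {M : Matrix (Fin n) (Fin n) F} (hn : 0 < n) (hM : M ^ n = 0)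
    (c : Fin n → F) (h : c ⟨0, hn⟩ + 1 ≠ 0) : IsUnit (poly M c + 1) := by
  obtain ⟨P, hP, e⟩ := poly_eq_const_add M hn c
  have : poly M c + 1 = (c ⟨0, hn⟩ + 1) • 1 + M * P := by rw [e, add_smul, one_smul]; abel
  rw [this]
  rw [add_comm]
  refine (hP.symm.isNilpotent_mul_right ⟨n, hM⟩).isUnit_add_right_of_commute ?_
    ((Commute.one_right _).smul_right (c ⟨0, hn⟩ + 1))
  rw [Matrix.isUnit_iff_isUnit_det, det_smul, det_one, mul_one]
  exact isUnit_iff_ne_zero.2 (pow_ne_zero _ h)

theorem const_sq_of_preserves {J M : Matrix (Fin n) (Fin n) F} (hn : 0 < n) (hM : M ^ n = 0)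
    (hS : SkewFor J M) (hJ : IsUnit J) (c : Fin n → F) {μ : F}
    (h : (poly M c)ᵀ * J * poly M c = μ • J) : c ⟨0, hn⟩ * c ⟨0, hn⟩ = μ := by
  rw [poly_adjoint hS, mul_assoc, ← mul_one (μ • J), smul_mul_assoc, ← mul_smul_comm,
    hJ.mul_right_inj] at h
  obtain ⟨P, hP, e⟩ := poly_eq_const_add M hn c
  obtain ⟨P', hP', e'⟩ := poly_eq_const_add M hn (alt c)
  rw [e, e'] at h
  simp only [alt, Fin.val_zero, pow_zero, one_mul] at h
  set a := c ⟨0, hn⟩
  set R := a • P + a • P' + P' * (M * P)
  have key : (μ - a * a) • (1 : Matrix (Fin n) (Fin n) F) = M * R := by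
    rw [sub_smul, ← h]
    simp only [R, add_mul, mul_add, smul_mul_assoc, mul_smul_comm, one_mul, mul_one, smul_smul,
      ← mul_assoc]
    try rw [show P' * M = M * P' from hP'.eq]
    simp only [mul_assoc]
    module
  have hR : Commute M R := by
    refine (((hP.symm.smul_right _).add_right (hP'.symm.smul_right _))).add_right ?_
    exact hP'.symm.mul_right ((Commute.refl M).mul_right hP.symm)
  by_contra hne
  obtain ⟨k, hk⟩ : IsNilpotent (M * R) := hR.isNilpotent_mul_right ⟨n, hM⟩
  rw [← key, smul_pow, one_pow] at hk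
  have := congr_fun (congr_fun hk ⟨0, hn⟩) ⟨0, hn⟩
  simp at this
  exact hne (sub_eq_zero.1 this.1).symm

/-- An isometry in the centraliser is `± ` a Cayley transform. -/
theorem exists_skew_of_preserves {J M : Matrix (Fin n) (Fin n) F} (h2 : (2 : F) ≠ 0) (hn : 0 < n)
    (hM : IsRegNil M) (hS : SkewFor J M) (hJ : IsUnit J) (c : Fin n → F)
    (h : (poly M c)ᵀ * J * poly M c = J) :
    ∃ (ε : F) (S : Matrix (Fin n) (Fin n) F), (ε = 1 ∨ ε = -1) ∧ SkewFor J S ∧ Commute S M ∧
      poly M c * (1 - S) = ε • (1 + S) := by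
  have hsq := const_sq_of_preserves hn hM.1 hS hJ c (μ := 1) (by rwa [one_smul])
  set a := c ⟨0, hn⟩
  set Z := poly M (a • c) with hZ
  have hZ' : Z = a • poly M c := by
    simp [hZ, poly, Finset.smul_sum, smul_smul]
  have hZp : Zᵀ * J * Z = J := by
    rw [hZ', transpose_smul, smul_mul_assoc, smul_mul_assoc, mul_smul_comm, smul_smul, h, hsq,
      one_smul]
  have hu : IsUnit (Z + 1) := isUnit_add_one_of_const hn hM.1 (a • c) (by
    rw [Pi.smul_apply, smul_eq_mul, hsq, one_add_one_eq_two]; exact h2)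
  obtain ⟨V, hV⟩ : ∃ V, (Z + 1) * V = 1 := ⟨_, hu.mul_val_inv⟩
  have hV2 : V * (Z + 1) = 1 := mul_eq_one_comm.1 hV
  have hMV : Commute M V := by
    have h1 : M * (Z + 1) = (Z + 1) * M := ((poly_commute M _).symm.add_right (Commute.one_right M)).eq
    calc M * V = V * (Z + 1) * M * V := by rw [hV2, one_mul]
      _ = V * (M * (Z + 1)) * V := by rw [h1]; noncomm_ring
      _ = V * M * ((Z + 1) * V) := by noncomm_ring
      _ = V * M := by rw [hV, mul_one]
  refine ⟨a, (Z - 1) * V, mul_self_eq_one_iff.1 hsq, cayley_skew hZp hV,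
    ((((poly_commute M _).sub_left (Commute.one_left M))).mul_left hMV.symm), ?_⟩
  have hT : (Z - 1) * V * (Z + 1) = Z - 1 := by rw [mul_assoc, hV2, mul_one]
  have hcomm : Z * ((Z - 1) * V) = (Z - 1) * V * Z := by
    have hZV : Commute Z V := by
      have h1 : Z * (Z + 1) = (Z + 1) * Z := by noncomm_ring
      calc Z * V = V * (Z + 1) * Z * V := by rw [hV2, one_mul]
        _ = V * (Z * (Z + 1)) * V := by rw [h1]; noncomm_ring
        _ = V * Z * ((Z + 1) * V) := by noncomm_ring
        _ = V * Z := by rw [hV, mul_one]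
    exact (((Commute.refl Z).sub_right (Commute.one_right Z)).mul_right hZV).eq
  have e : Z * (1 - (Z - 1) * V) = 1 + (Z - 1) * V := by
    rw [mul_sub, mul_one, hcomm]
    linear_combination (norm := noncomm_ring) -hT
  have hc : poly M c = a • Z := by rw [hZ', smul_smul, hsq, one_smul]
  rw [hc, smul_mul_assoc, e]

/-- Coefficients of the odd polynomial with given coefficients. -/
noncomputable def oddCoeff (m : ℕ) (h : n = 2 * m) (a : Fin m → F) : Fin n → F :=
  fun i => if (i : ℕ) % 2 = 1 then a ⟨(i : ℕ) / 2, by omega⟩ else 0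

theorem oddCoeff_injective {m : ℕ} (h : n = 2 * m) :
    Function.Injective (oddCoeff (F := F) m h) := by
  intro a b hab
  funext j
  have := congrFun hab ⟨2 * (j : ℕ) + 1, by omega⟩
  simp only [oddCoeff, show (2 * (j : ℕ) + 1) % 2 = 1 by omega, if_true] at this
  convert this using 2 <;> exact Fin.ext (by simp; omega)

theorem exists_oddCoeff {m : ℕ} (h : n = 2 * m) (c : Fin n → F)
    (hc : ∀ i : Fin n, Even (i : ℕ) → c i = 0) : ∃ a, oddCoeff m h a = c := by
  refine ⟨fun j => c ⟨2 * (j : ℕ) + 1, by omega⟩, funext fun i => ?_⟩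
  unfold oddCoeff
  by_cases hi : (i : ℕ) % 2 = 1
  · rw [if_pos hi]
    exact congrArg c (Fin.ext (show 2 * ((i : ℕ) / 2) + 1 = (i : ℕ) by omega))
  · rw [if_neg hi, hc i (Nat.even_iff.2 (by omega))]

/-- The number of isometries commuting with a regular skew nilpotent matrix. -/
theorem card_preserves_commute [Fintype F] {J M : Matrix (Fin n) (Fin n) F} (h2 : (2 : F) ≠ 0)
    {m : ℕ} (hnm : n = 2 * m) (hn : 0 < n) (hM : IsRegNil M) (hS : SkewFor J M) (hJ : IsUnit J) :
    Nat.card {X : Matrix (Fin n) (Fin n) F // Commute X M ∧ Xᵀ * J * X = J} =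
      2 * Fintype.card F ^ m := by
  classical
  let S : (Fin m → F) → Matrix (Fin n) (Fin n) F := fun a => poly M (oddCoeff m hnm a)
  have hskew : ∀ a, SkewFor J (S a) := fun a => (skew_poly_iff h2 hJ hM hS _).2 fun i hi => by
    simp [oddCoeff, Nat.even_iff.1 hi]
  have hunit : ∀ a, IsUnit (1 - S a) := fun a => by
    obtain ⟨P, hP, e⟩ := poly_eq_const_add M hn (oddCoeff m hnm a)
    refine IsNilpotent.isUnit_one_sub ?_
    show IsNilpotent (poly M _)
    rw [e, show oddCoeff m hnm a ⟨0, hn⟩ = 0 by simp [oddCoeff], zero_smul, zero_add]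
    exact hP.symm.isNilpotent_mul_right ⟨n, hM.1⟩
  have hSM : ∀ a, Commute (S a) M := fun a => poly_commute M _
  let W : (Fin m → F) → Matrix (Fin n) (Fin n) F := fun a =>
    (((hunit a).unit⁻¹ : (Matrix (Fin n) (Fin n) F)ˣ) : Matrix (Fin n) (Fin n) F)
  have hW : ∀ a, (1 - S a) * W a = 1 := fun a => (hunit a).mul_val_inv
  have hW2 : ∀ a, W a * (1 - S a) = 1 := fun a => mul_eq_one_comm.1 (hW a)
  have hWM : ∀ a, Commute (W a) M := fun a => by
    have h1 : M * (1 - S a) = (1 - S a) * M := ((Commute.one_right M).sub_right (hSM a).symm).eq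
    show W a * M = M * W a
    calc W a * M = W a * M * ((1 - S a) * W a) := by rw [hW, mul_one]
      _ = W a * (M * (1 - S a)) * W a := by noncomm_ring
      _ = W a * (1 - S a) * M * W a := by rw [h1]; noncomm_ring
      _ = M * W a := by rw [hW2, one_mul]
  let sg : Bool → F := fun b => if b then 1 else -1
  have hsg : ∀ b, sg b * sg b = 1 := fun b => by cases b <;> simp [sg]
  let f : Bool × (Fin m → F) → {X : Matrix (Fin n) (Fin n) F // Commute X M ∧ Xᵀ * J * X = J} :=
    fun p => ⟨sg p.1 • ((1 + S p.2) * W p.2),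
      ((((Commute.one_left M).add_left (hSM p.2))).mul_left (hWM p.2)).smul_left _, by
        rw [transpose_smul, smul_mul_assoc, smul_mul_assoc, mul_smul_comm, smul_smul, hsg,
          one_smul, cayley_preserves (hskew p.2) (hW p.2)]⟩
  have hf : Function.Bijective f := by
    constructor
    · rintro ⟨b, a⟩ ⟨b', a'⟩ he
      have he' := congrArg (fun X => (1 - S a') * X.1 * (1 - S a)) he
      have hca : ∀ a a', Commute (S a) (S a') := fun a a' =>
        Commute.sum_left _ _ _ fun i _ => (((hSM a').symm).pow_left _).smul_left _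
      have hcW : ∀ a a', Commute (1 - S a') ((1 + S a) : Matrix (Fin n) (Fin n) F) := fun a a' =>
        ((Commute.one_right _).add_right
          ((Commute.one_left _).sub_left (hca a' a)))
      simp only [f, mul_smul_comm, smul_mul_assoc] at he'
      rw [show (1 - S a') * ((1 + S a) * W a) * (1 - S a) =
          (1 - S a') * (1 + S a) * (W a * (1 - S a)) by noncomm_ring, hW2, mul_one,
        show (1 - S a') * ((1 + S a') * W a') * (1 - S a) =
          (1 + S a') * ((1 - S a') * W a') * (1 - S a) by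
            rw [← mul_assoc, (hcW a' a').eq, mul_assoc (1 + S a')],
        hW, mul_one] at he'
      obtain ⟨P, hP, eP⟩ := poly_eq_const_add M hn (oddCoeff m hnm a)
      obtain ⟨P', hP', eP'⟩ := poly_eq_const_add M hn (oddCoeff m hnm a')
      have hbb : sg b = sg b' := by
        by_contra hne
        have hs : sg b' = -sg b := by
          cases b <;> cases b' <;> simp [sg] at hne ⊢
        rw [hs, neg_smul, ← smul_neg] at he'
        have h0 := smul_right_injective _ (left_ne_zero_of_mul_eq_one (hsg b)) he'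
        have h3 : (2 : F) • (1 : Matrix (Fin n) (Fin n) F) = (2 : F) • (S a' * S a) := by
          simp only [sub_mul, mul_add, mul_sub, add_mul, one_mul, mul_one] at h0
          rw [two_smul, two_smul]
          linear_combination (norm := noncomm_ring) h0
        have h4 := smul_right_injective _ h2 h3
        have hnil : IsNilpotent (S a' * S a) := by
          refine (hca a' a).isNilpotent_mul_right ?_
          show IsNilpotent (poly M _)
          rw [eP', show oddCoeff m hnm a' ⟨0, hn⟩ = 0 by simp [oddCoeff], zero_smul, zero_add]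
          exact hP'.symm.isNilpotent_mul_right ⟨n, hM.1⟩
        rw [← h4] at hnil
        obtain ⟨k, hk⟩ := hnil
        rw [one_pow] at hk
        have := congr_fun (congr_fun hk ⟨0, hn⟩) ⟨0, hn⟩
        simp at this
      rw [hbb] at he'
      have h0 := smul_right_injective _ (left_ne_zero_of_mul_eq_one (hsg b')) he'
      have h3 : (2 : F) • S a = (2 : F) • S a' := by
        simp only [sub_mul, mul_add, mul_sub, add_mul, one_mul, mul_one, (hca a' a).eq] at h0
        rw [two_smul, two_smul]
        linear_combination (norm := noncomm_ring) h0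
      have h4 := oddCoeff_injective hnm (poly_injective hM (smul_right_injective _ h2 h3))
      have hb : b = b' := by
        have h2' : (-1 : F) ≠ 1 := fun h => h2 (by linear_combination -h)
        cases b <;> cases b' <;> simp [sg, h2', h2'.symm] at hbb ⊢
      exact Prod.ext hb h4
    · rintro ⟨X, hXM, hX⟩
      obtain ⟨c, hc⟩ := hM.commute_eq_sum hXM
      have hc' : X = poly M c := hc
      subst hc'
      obtain ⟨ε, T, hε, hT, hTM, hXT⟩ := exists_skew_of_preserves h2 hn hM hS hJ c hX
      obtain ⟨d, hd⟩ := hM.commute_eq_sum hTM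
      have hd' : T = poly M d := hd
      subst hd'
      obtain ⟨a, ha⟩ := exists_oddCoeff hnm d ((skew_poly_iff h2 hJ hM hS d).1 hT)
      refine ⟨(decide (ε = 1), a), Subtype.ext ?_⟩
      have hs : sg (decide (ε = 1)) = ε := by
        rcases hε with rfl | rfl
        · simp [sg]
        · have : (-1 : F) ≠ 1 := fun h => h2 (by linear_combination -h)
          simp [sg, this]
      show sg _ • ((1 + S a) * W a) = poly M c
      have hSa : S a = poly M d := by show poly M _ = _; rw [ha]
      rw [hs, ← smul_mul_assoc, hSa, ← hXT, mul_assoc, ← hSa, hW, mul_one]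
  rw [← Nat.card_eq_of_bijective f hf]
  simp [Nat.card_eq_fintype_card]

end Cfsg.Agent.Forms59
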