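import Cfsg.Agent.Lib.GLSemisimple.PrimeOrder
import Cfsg.Agent.Lib.GLSemisimple.DualPoly

/-!
Self-dual polynomials whose irreducible factors divide `X^r - 1`, `r` an odd prime, and their number.
-/

set_option autoImplicit false
set_option linter.unusedSectionVars false

namespace Cfsg.Agent.Forms59.SelfDual

open Polynomial UniqueFactorizationMonoid

/-- Tuples with exact sum. -/
theorem card_sum_eq (α : Type*) [Fintype α] (M : ℕ) :
    Nat.card {a : α → ℕ // ∑ x, a x = M} = Nat.multichoose (Fintype.card α) M := by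
  classical
  rw [← Nat.card_congr (Sym.equivNatSumOfFintype α M), Nat.card_eq_fintype_card, Sym.card_sym_eq_multichoose]

/-- Tuples with bounded sum. -/
theorem card_sum_le (α : Type*) [Fintype α] (M : ℕ) :
    Nat.card {a : α → ℕ // ∑ x, a x ≤ M} = Nat.choose (M + Fintype.card α) (Fintype.card α) := by
  classical
  let e : {a : α → ℕ // ∑ x, a x ≤ M} ≃ {b : Option α → ℕ // ∑ x, b x = M} :=
    { toFun := fun a => ⟨fun o => o.elim (M - ∑ x, a.1 x) a.1, by
        have := a.2
        rw [Fintype.sum_option]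
        simp only [Option.elim_none, Option.elim_some]
        omega⟩
      invFun := fun b => ⟨fun x => b.1 (some x), by
        have := b.2
        rw [Fintype.sum_option] at this
        show ∑ x, b.1 (some x) ≤ M
        omega⟩
      left_inv := fun a => rfl
      right_inv := fun b => Subtype.ext <| funext fun o => by
        have := b.2
        rw [Fintype.sum_option] at this
        cases o with
        | none => show M - ∑ x, b.1 (some x) = b.1 none; omega
        | some x => rfl }
  rw [Nat.card_congr e, card_sum_eq, Fintype.card_option, Nat.multichoose_eq]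
  rw [Nat.add_right_comm, Nat.add_sub_cancel, Nat.add_comm (Fintype.card α) M, Nat.choose_symm_add]

/-- A representative of every two-element orbit of an involution. -/
noncomputable def reps {α : Type*} [Fintype α] (d : α → α) : Finset α :=
  Finset.univ.filter fun x => Fintype.equivFin α x < Fintype.equivFin α (d x)

/-- Functions invariant under a fixed point free involution are functions on representatives. -/
theorem exists_reps_equiv {α : Type*} [Fintype α] [DecidableEq α] (d : α → α) (hd : ∀ x, d (d x) = x)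
    (hfree : ∀ x, d x ≠ x) :
    2 * (reps d).card = Fintype.card α ∧ ∃ e : {a : α → ℕ // ∀ x, a (d x) = a x} ≃ (↥(reps d) → ℕ),
      ∀ a, ∑ x, a.1 x = 2 * ∑ y, e a y := by
  classical
  set u := Fintype.equivFin α
  have hne : ∀ x, u x ≠ u (d x) := fun x h => hfree x (u.injective h).symm
  have hmem : ∀ x, x ∈ reps d ↔ u x < u (d x) := fun x => by simp [reps, u]
  have hor : ∀ x, x ∉ reps d ↔ d x ∈ reps d := fun x => by
    rw [hmem, hmem, hd]
    exact ⟨fun h => lt_of_le_of_ne (le_of_not_gt h) (hne x).symm, fun h => h.not_gt⟩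
  have hcompl : Finset.univ.filter (fun x => x ∉ reps d) = (reps d).image d := by
    ext x
    simp only [Finset.mem_filter, Finset.mem_univ, true_and, Finset.mem_image]
    refine ⟨fun h => ⟨d x, (hor x).1 h, hd x⟩, ?_⟩
    rintro ⟨y, hy, rfl⟩
    rw [hor, hd]
    exact hy
  have hsum : ∀ a : α → ℕ, (∀ x, a (d x) = a x) → ∑ x, a x = 2 * ∑ y ∈ reps d, a y := by
    intro a ha
    have hu : Finset.univ.filter (fun x => x ∈ reps d) = reps d := by ext; simp
    rw [← Finset.sum_filter_add_sum_filter_not Finset.univ (fun x => x ∈ reps d) a, hu, hcompl,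
      Finset.sum_image fun x _ y _ h => by rw [← hd x, h, hd], two_mul]
    exact congrArg _ (Finset.sum_congr rfl fun x _ => ha x)
  refine ⟨?_, ⟨{
    toFun := fun a y => a.1 y.1
    invFun := fun b => ⟨fun x => if h : x ∈ reps d then b ⟨x, h⟩ else b ⟨d x, (hor x).1 h⟩, fun x => by
      by_cases h : x ∈ reps d
      · have h' : d x ∉ reps d := by rw [hor, hd]; exact h
        simp only
        rw [dif_pos h, dif_neg h']
        simp only [hd]
      · simp only
        rw [dif_neg h, dif_pos ((hor x).1 h)]⟩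
    left_inv := fun a => Subtype.ext <| funext fun x => by
      by_cases h : x ∈ reps d
      · simp only [dif_pos h]
      · simp only [dif_neg h, a.2]
    right_inv := fun b => funext fun y => by simp only [dif_pos y.2] }, fun a => ?_⟩⟩
  · have := hsum (fun _ => 1) fun _ => rfl
    simpa using this.symm
  · rw [hsum a.1 a.2, ← Finset.sum_coe_sort]
    rfl

variable (F : Type*) [Field F] [Fintype F] (r : ℕ) [Fact r.Prime]

/-- The monic irreducible factors of the `r`-th cyclotomic polynomial. -/
noncomputable def factors : Finset F[X] :=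
  haveI := Classical.decEq F
  (normalizedFactors (cyclotomic r F)).toFinset

variable {F r}

local notation "σ" => RingHom.id F

/-- The hypotheses on `r`. -/
structure Good (F : Type*) [Field F] [Fintype F] (r i : ℕ) : Prop where
  ne_two : r ≠ 2
  cast_ne : (r : F) ≠ 0
  order : i = orderOf (Fintype.card F : ZMod r)

variable {i : ℕ}

theorem exists_prime_power (h : Good F r i) :
    ∃ p f : ℕ, p.Prime ∧ Nat.card F = p ^ f ∧ Fintype.card F = p ^ f ∧ p.Coprime r := by
  obtain ⟨p, hc⟩ := CharP.exists F
  obtain ⟨f, hp, hK⟩ := FiniteField.card F p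
  refine ⟨p, f, hp, by rw [Nat.card_eq_fintype_card, hK], hK, (Nat.coprime_primes hp Fact.out).mpr fun e => ?_⟩
  exact h.cast_ne (by rw [← e, CharP.cast_eq_zero])

theorem i_pos (h : Good F r i) : 0 < i := by
  obtain ⟨p, f, -, -, hK, hcop⟩ := exists_prime_power h
  have hq0 : ((Fintype.card F : ℕ) : ZMod r) ≠ 0 := by
    rw [Ne, ZMod.natCast_eq_zero_iff, hK]
    exact fun hd => (Fact.out : r.Prime).ne_one (Nat.dvd_one.1 ((Nat.Coprime.pow_left f hcop).symm.gcd_eq_one ▸ Nat.dvd_gcd dvd_rfl hd))
  rw [h.order, Nat.pos_iff_ne_zero, ne_eq, orderOf_eq_zero_iff, not_not, isOfFinOrder_iff_pow_eq_one]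
  exact ⟨r - 1, by have := (Fact.out : r.Prime).two_le; omega, ZMod.pow_card_sub_one_eq_one hq0⟩

theorem factor_spec (h : Good F r i) {g : F[X]} (hg : g ∈ factors F r) :
    g.Monic ∧ Irreducible g ∧ g.natDegree = i ∧ g ≠ X - C 1 ∧ g ∣ cyclotomic r F := by
  classical
  obtain ⟨p, f, hp, hN, hK, hcop⟩ := exists_prime_power h
  haveI : Fact p.Prime := ⟨hp⟩
  have hg' : g ∈ normalizedFactors (cyclotomic r F) := by
    unfold factors at hg; exact Multiset.mem_toFinset.1 hg
  refine ⟨?_, irreducible_of_normalized_factor g hg', ?_, ?_, dvd_of_mem_normalizedFactors hg'⟩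
  · rw [← normalize_normalized_factor g hg']
    exact monic_normalize (prime_of_normalized_factor g hg').ne_zero
  · rw [natDegree_of_mem_normalizedFactors_cyclotomic hK hcop hg', ← orderOf_units, ZMod.coe_unitOfCoprime,
      h.order, hK]
  · rintro rfl
    have h0 := dvd_iff_isRoot.mp (dvd_of_mem_normalizedFactors hg')
    rw [IsRoot, eval_one_cyclotomic_prime] at h0
    exact h.cast_ne h0

theorem card_factors (h : Good F r i) {t : ℕ} (ht : t * i = r - 1) : (factors F r).card = t := by
  classical
  obtain ⟨p, f, hp, hN, hK, hcop⟩ := exists_prime_power h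
  haveI : Fact p.Prime := ⟨hp⟩
  have hiu : orderOf (ZMod.unitOfCoprime _ (hcop.pow_left f)) = i := by
    rw [← orderOf_units, ZMod.coe_unitOfCoprime, h.order, hK]
  have he : factors F r = (normalizedFactors (cyclotomic r F)).toFinset := by simp [factors]
  rw [he, normalizedFactors_cyclotomic_card hK hcop, hiu, Nat.totient_prime (Fact.out : r.Prime), ← ht,
    Nat.mul_div_cancel _ (i_pos h)]

theorem dvd_iff (h : Good F r i) {g : F[X]} (hgm : g.Monic) (hgi : Irreducible g) :
    g ∣ X ^ r - 1 ↔ g = X - C 1 ∨ g ∈ factors F r := by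
  classical
  rw [← cyclotomic_prime_mul_X_sub_one F r, hgi.prime.dvd_mul, or_comm]
  refine or_congr ⟨fun hd => ?_, fun hd => ?_⟩ ⟨fun hd => ?_, fun hd => (factor_spec h hd).2.2.2.2⟩
  · exact eq_of_monic_of_associated hgm (monic_X_sub_C 1)
      (hgi.associated_of_dvd (irreducible_X_sub_C 1) (by simpa using hd))
  · rw [hd]; simp
  · obtain ⟨g', hg', hass⟩ := exists_mem_normalizedFactors_of_dvd (cyclotomic_ne_zero r F) hgi hd
    have hg'' : g' ∈ factors F r := by unfold factors; exact Multiset.mem_toFinset.2 hg'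
    rwa [eq_of_monic_of_associated hgm (factor_spec h hg'').1 hass]

theorem dvd_X_pow_sub_one (h : Good F r i) {g : F[X]} (hg : g ∈ factors F r) : g ∣ X ^ r - 1 :=
  (dvd_iff h (factor_spec h hg).1 (factor_spec h hg).2.1).2 (Or.inr hg)

theorem coeff_zero_ne (h : Good F r i) {g : F[X]} (hg : g ∈ factors F r) : g.coeff 0 ≠ 0 :=
  GLSemi.coeff_zero_ne_of_dvd (dvd_X_pow_sub_one h hg) (by
    simp [coeff_X_pow, (Fact.out : r.Prime).pos.ne])

theorem dual_one : GLSemi.dual σ (1 : F[X]) = 1 := by
  simp [GLSemi.dual, Polynomial.reverse]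

theorem dual_pow (P : F[X]) (k : ℕ) : GLSemi.dual σ (P ^ k) = GLSemi.dual σ P ^ k := by
  induction k with
  | zero => rw [pow_zero, pow_zero, dual_one]
  | succ k ih => rw [pow_succ, pow_succ, GLSemi.dual_mul, ih]

theorem dual_prod {β : Type*} (s : Finset β) (g : β → F[X]) :
    GLSemi.dual σ (∏ x ∈ s, g x) = ∏ x ∈ s, GLSemi.dual σ (g x) := by
  classical
  induction s using Finset.induction_on with
  | empty => simp [dual_one]
  | insert a s ha ih => rw [Finset.prod_insert ha, Finset.prod_insert ha, GLSemi.dual_mul, ih]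

theorem dual_linear : GLSemi.dual σ (X - C (1 : F)) = X - C 1 := by
  have h0 : (X - C (1 : F)).coeff 0 ≠ 0 := by simp
  rw [(GLSemi.monic_dual σ h0).eq_X_add_C (by rw [GLSemi.natDegree_dual _ h0, natDegree_X_sub_C]),
    GLSemi.coeff_zero_dual _ (monic_X_sub_C 1)]
  simp [sub_eq_add_neg, inv_neg]

theorem dual_mem (h : Good F r i) {g : F[X]} (hg : g ∈ factors F r) : GLSemi.dual σ g ∈ factors F r := by
  obtain ⟨hm, hi, -, hne, -⟩ := factor_spec h hg
  have h0 := coeff_zero_ne h hg
  have hm' := GLSemi.monic_dual σ h0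
  have hi' := GLSemi.irreducible_dual σ (fun _ => rfl) hi hm h0
  have hd : GLSemi.dual σ g ∣ X ^ r - 1 := by
    have := GLSemi.dual_dvd σ (dvd_X_pow_sub_one h hg)
    refine this.trans ?_
    have hrev : GLSemi.dual σ (X ^ r - 1 : F[X]) = X ^ r - 1 := by
      apply Polynomial.ext
      intro n
      rw [GLSemi.coeff_dual, show (X ^ r - 1 : F[X]).natDegree = r by rw [← map_one C]; exact natDegree_X_pow_sub_C]
      have hr0 := (Fact.out : r.Prime).pos
      by_cases hn : n ≤ r
      · simp only [revAt_le hn, coeff_sub, coeff_X_pow, coeff_one, RingHom.id_apply]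
        split_ifs <;> first | omega | (field_simp; done) | simp
      · rw [show revAt r n = n from if_neg hn]
        simp only [coeff_sub, coeff_X_pow, coeff_one, RingHom.id_apply]
        split_ifs <;> first | omega | simp
    rw [hrev]
  rcases (dvd_iff h hm' hi').1 hd with h1 | h1
  · exact absurd (by rw [← GLSemi.dual_dual σ (fun _ => rfl) hm h0, h1, dual_linear]) hne
  · exact h1

/-- The duality on the factors. -/
noncomputable def dualF (h : Good F r i) (g : ↥(factors F r)) : ↥(factors F r) :=
  ⟨GLSemi.dual σ g.1, dual_mem h g.2⟩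

theorem dualF_dualF (h : Good F r i) (g : ↥(factors F r)) : dualF h (dualF h g) = g :=
  Subtype.ext (GLSemi.dual_dual σ (fun _ => rfl) (factor_spec h g.2).1 (coeff_zero_ne h g.2))

theorem aeval_dual {K : Type*} [Field K] [Algebra F K] (g : F[X]) {x : K} (hx : x ≠ 0) (hg : aeval x g = 0) :
    aeval x⁻¹ (GLSemi.dual σ g) = 0 := by
  rw [GLSemi.dual, map_mul, aeval_def, aeval_def, Polynomial.map_id]
  haveI : Invertible x := invertibleOfNonzero hx
  rw [← invOf_eq_inv x]
  have := eval₂_reverse_mul_pow (algebraMap F K) x g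
  rw [← aeval_def x g, hg] at this
  rcases mul_eq_zero.1 this with h1 | h1
  · rw [h1, mul_zero]
  · exact absurd h1 (pow_ne_zero _ hx)

theorem dual_eq_iff (h : Good F r i) {g : F[X]} (hg : g ∈ factors F r) : GLSemi.dual σ g = g ↔ Even i := by
  classical
  obtain ⟨hm, hi, hdeg, hne, hd⟩ := factor_spec h hg
  haveI := Fact.mk hi
  haveI : Module.Finite F (AdjoinRoot g) := (AdjoinRoot.powerBasis hi.ne_zero).finite
  haveI : Finite (AdjoinRoot g) := Module.finite_of_finite F
  set α := AdjoinRoot.root g
  have hα : aeval α g = 0 := by rw [AdjoinRoot.aeval_eq, AdjoinRoot.mk_self]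
  have hr : α ^ r = 1 := by
    have := AdjoinRoot.mk_eq_zero.2 (dvd_X_pow_sub_one h hg)
    simpa [sub_eq_zero] using this
  have hα1 : α ≠ 1 := fun e => hne (by
    have h2 : aeval (1 : AdjoinRoot g) g = 0 := e ▸ hα
    rw [← map_one (algebraMap F (AdjoinRoot g)), aeval_algebraMap_apply, map_eq_zero] at h2
    exact (eq_of_monic_of_associated hm (monic_X_sub_C 1)
      ((irreducible_X_sub_C (1 : F)).associated_of_dvd hi (dvd_iff_isRoot.2 h2)).symm))
  have hord : orderOf α = r := orderOf_eq_prime hr hα1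
  have hα0 : α ≠ 0 := fun e => by simp [e, zero_pow (Fact.out : r.Prime).ne_zero] at hr
  constructor
  · intro he
    have hinv : aeval α⁻¹ g = 0 := by
      have := aeval_dual g hα0 hα
      rwa [he] at this
    let τ := AdjoinRoot.liftAlgHom g (Algebra.ofId F (AdjoinRoot g)) α⁻¹ (by simpa [aeval_def] using hinv)
    have hτ : τ α = α⁻¹ := AdjoinRoot.liftAlgHom_root ..
    let τe : AdjoinRoot g ≃ₐ[F] AdjoinRoot g := AlgEquiv.ofBijective τ
      ⟨τ.toRingHom.injective, Finite.surjective_of_injective τ.toRingHom.injective⟩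
    have h2 : orderOf τe = 2 := by
      refine orderOf_eq_prime ?_ fun e => ?_
      · have hroot : (τ.comp τ) α = (AlgHom.id F (AdjoinRoot g)) α := by simp [hτ, map_inv₀]
        have := AdjoinRoot.algHom_ext hroot
        exact AlgEquiv.ext fun x => AlgHom.congr_fun this x
      · have h3 := AlgEquiv.congr_fun e α
        change τ α = α at h3
        rw [hτ] at h3
        have h4 : α ^ 2 = 1 := by
          rw [pow_two]; nth_rewrite 1 [← h3]; exact inv_mul_cancel₀ hα0
        have h5 := orderOf_dvd_of_pow_eq_one h4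
        rw [hord] at h5
        exact h.ne_two ((Nat.prime_dvd_prime_iff_eq Fact.out Nat.prime_two).1 h5)
    have h6 := orderOf_dvd_natCard τe
    rw [h2, IsGalois.card_aut_eq_finrank, (AdjoinRoot.powerBasis hi.ne_zero).finrank, AdjoinRoot.powerBasis_dim, hdeg] at h6
    exact even_iff_two_dvd.2 h6
  · rintro ⟨j, hj⟩
    have hq : ((Fintype.card F : ℕ) : ZMod r) ^ j = -1 := by
      have h2 : (((Fintype.card F : ℕ) : ZMod r) ^ j) ^ 2 = 1 := by
        rw [← pow_mul, mul_two, ← hj, h.order, pow_orderOf_eq_one]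
      rw [pow_two] at h2
      rcases mul_self_eq_one_iff.1 h2 with h1 | h1
      · exfalso
        have := orderOf_dvd_of_pow_eq_one h1
        rw [← h.order] at this
        have hi0 := i_pos h
        have := Nat.le_of_dvd (by omega) this
        omega
      · exact h1
    have hdvd : r ∣ Fintype.card F ^ j + 1 := by
      rw [← ZMod.natCast_eq_zero_iff]
      push_cast
      rw [hq, neg_add_cancel]
    have hαq : α ^ (Fintype.card F ^ j) = α⁻¹ := by
      obtain ⟨c, hc⟩ := hdvd
      apply eq_inv_of_mul_eq_one_left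
      rw [← pow_succ, hc, pow_mul, hr, one_pow]
    have hfrob : ∀ k, aeval (α ^ (Fintype.card F ^ k)) g = 0 := by
      intro k
      induction k with
      | zero => simpa using hα
      | succ k ih =>
        rw [pow_succ, pow_mul, ← expand_aeval, FiniteField.expand_card, map_pow, ih, zero_pow Fintype.card_pos.ne']
    have h1 := hfrob j
    rw [hαq] at h1
    have hdual := aeval_dual g (inv_ne_zero hα0) h1
    rw [inv_inv, AdjoinRoot.aeval_eq, AdjoinRoot.mk_eq_zero] at hdual
    exact (eq_of_monic_of_associated hm (GLSemi.monic_dual σ (coeff_zero_ne h hg))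
      (hi.associated_of_dvd (GLSemi.irreducible_dual σ (fun _ => rfl) hi hm (coeff_zero_ne h hg)) hdual)).symm

/-- The polynomial with given multiplicities. -/
noncomputable def poly (n i : ℕ) (a : ↥(factors F r) → ℕ) : F[X] :=
  (X - C 1) ^ (n - i * ∑ g, a g) * ∏ g : ↥(factors F r), (g.1 : F[X]) ^ a g

theorem dual_poly (h : Good F r i) (n : ℕ) (a : ↥(factors F r) → ℕ) :
    GLSemi.dual σ (poly n i a) = poly n i (fun g => a (dualF h g)) := by
  let e : ↥(factors F r) ≃ ↥(factors F r) := Function.Involutive.toPerm _ (dualF_dualF h)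
  rw [poly, poly, GLSemi.dual_mul, dual_pow, dual_linear, dual_prod]
  have hs : ∑ g, a (dualF h g) = ∑ g, a g := Equiv.sum_comp e a
  rw [hs]
  congr 1
  refine Fintype.prod_equiv e _ _ fun g => ?_
  show GLSemi.dual σ (g.1 ^ a g) = (dualF h g).1 ^ a (dualF h (dualF h g))
  rw [dual_pow, dualF_dualF]
  rfl

theorem count_poly (h : Good F r i) (n : ℕ) (a : ↥(factors F r) → ℕ) [DecidableEq F] (g : ↥(factors F r)) :
    (normalizedFactors (poly n i a)).count g.1 = a g := by
  classical
  let M : Multiset F[X] := Multiset.replicate (n - i * ∑ g, a g) (X - C 1) +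
    ∑ g : ↥(factors F r), Multiset.replicate (a g) g.1
  have hmon : ∀ x ∈ M, x.Monic ∧ Irreducible x := by
    intro x hx
    rcases Multiset.mem_add.1 hx with hx | hx
    · rw [Multiset.eq_of_mem_replicate hx]; exact ⟨monic_X_sub_C 1, irreducible_X_sub_C 1⟩
    · obtain ⟨y, -, hy⟩ := Multiset.mem_sum.1 hx
      rw [Multiset.eq_of_mem_replicate hy]
      exact ⟨(factor_spec h y.2).1, (factor_spec h y.2).2.1⟩
  have hp : poly n i a = M.prod := by
    simp [poly, M, Multiset.prod_sum]
  rw [hp, normalizedFactors_prod_eq _ fun x hx => (hmon x hx).2,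
    Multiset.map_congr rfl fun x hx => (hmon x hx).1.normalize_eq_self, Multiset.map_id']
  simp only [M, Multiset.count_add, Multiset.count_sum', Multiset.count_replicate]
  rw [if_neg (Ne.symm (factor_spec h g.2).2.2.2.1), zero_add, Finset.sum_eq_single g]
  · simp
  · intro y _ hy
    rw [if_neg fun e => hy (Subtype.ext e)]
  · simp

theorem poly_injective (h : Good F r i) (n : ℕ) {a b : ↥(factors F r) → ℕ} (e : poly n i a = poly n i b) :
    a = b := by
  classical
  funext g
  rw [← count_poly h n a g, ← count_poly h n b g, e]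

theorem poly_mem (h : Good F r i) {n : ℕ} {a : ↥(factors F r) → ℕ} (ha : i * ∑ g, a g ≤ n) :
    poly n i a ∈ GLSemi.AdmPoly F n r := by
  have hm : ∀ g ∈ (Finset.univ : Finset ↥(factors F r)), ((g.1 : F[X]) ^ a g).Monic :=
    fun g _ => (factor_spec h g.2).1.pow _
  refine ⟨((monic_X_sub_C 1).pow _).mul (monic_prod_of_monic _ _ hm), ?_, fun f hf hfd => ?_⟩
  · rw [poly, ((monic_X_sub_C 1).pow _).natDegree_mul (monic_prod_of_monic _ _ hm), natDegree_pow,
      natDegree_X_sub_C, mul_one, natDegree_prod_of_monic _ _ hm]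
    rw [Finset.sum_congr rfl fun g _ => show ((g.1 : F[X]) ^ a g).natDegree = a g * i by
      rw [natDegree_pow, (factor_spec h g.2).2.2.1], ← Finset.sum_mul, mul_comm _ i]
    omega
  · rcases hf.prime.dvd_mul.1 hfd with h1 | h1
    · exact (hf.prime.dvd_of_dvd_pow h1).trans ((dvd_iff h (monic_X_sub_C 1) (irreducible_X_sub_C 1)).2 (Or.inl rfl))
    · obtain ⟨g, -, hg⟩ := hf.prime.exists_mem_finset_dvd h1
      exact (hf.prime.dvd_of_dvd_pow hg).trans (dvd_X_pow_sub_one h g.2)

theorem exists_poly (h : Good F r i) {n : ℕ} {P : F[X]} (hP : P ∈ GLSemi.AdmPoly F n r) :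
    ∃ a : ↥(factors F r) → ℕ, i * ∑ g, a g ≤ n ∧ P = poly n i a := by
  classical
  obtain ⟨hm, hdeg, hall⟩ := hP
  set A := normalizedFactors P
  have hA : ∀ f ∈ A, f = X - C 1 ∨ f ∈ factors F r := fun f hf => by
    have hfi := irreducible_of_normalized_factor f hf
    have hfm : f.Monic := by
      rw [← normalize_normalized_factor f hf]; exact monic_normalize hfi.ne_zero
    exact (dvd_iff h hfm hfi).1 (hall f hfi (dvd_of_mem_normalizedFactors hf))
  have hL : X - C (1 : F) ∉ factors F r := fun hh => (factor_spec h hh).2.2.2.1 rfl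
  have hAm : ∀ f ∈ A, f.Monic := fun f hf => by
    rcases hA f hf with rfl | hf'
    exacts [monic_X_sub_C 1, (factor_spec h hf').1]
  have hprod : A.prod = P := by
    refine eq_of_monic_of_associated ?_ hm (prod_normalizedFactors hm.ne_zero)
    have := monic_multiset_prod_of_monic A id hAm
    rwa [Multiset.map_id] at this
  have hsub : A.toFinset ⊆ insert (X - C 1) (factors F r) := fun f hf => by
    rcases hA f (Multiset.mem_toFinset.1 hf) with h1 | h1 <;> simp [h1]
  have hPexp : P = (X - C 1) ^ A.count (X - C 1) * ∏ g : ↥(factors F r), (g.1 : F[X]) ^ A.count g.1 := by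
    rw [← hprod, Finset.prod_multiset_count_of_subset A _ hsub, Finset.prod_insert hL,
      Finset.prod_coe_sort (factors F r) fun f => f ^ A.count f]
  have hd : A.count (X - C (1 : F)) + i * ∑ g : ↥(factors F r), A.count g.1 = n := by
    have hm' : ∀ g ∈ (Finset.univ : Finset ↥(factors F r)), ((g.1 : F[X]) ^ A.count g.1).Monic :=
      fun g _ => (factor_spec h g.2).1.pow _
    rw [← hdeg]
    conv_rhs => rw [hPexp]
    rw [((monic_X_sub_C 1).pow _).natDegree_mul (monic_prod_of_monic _ _ hm'), natDegree_pow,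
      natDegree_X_sub_C, mul_one, natDegree_prod_of_monic _ _ hm']
    rw [Finset.sum_congr rfl fun (g : ↥(factors F r)) _ => show ((g.1 : F[X]) ^ A.count g.1).natDegree = A.count g.1 * i by
        rw [natDegree_pow, (factor_spec h g.2).2.2.1], ← Finset.sum_mul, mul_comm _ i]
  refine ⟨fun g => A.count g.1, (show i * ∑ g : ↥(factors F r), A.count g.1 ≤ n by omega), ?_⟩
  rw [poly, ← show A.count (X - C (1 : F)) = n - i * ∑ g : ↥(factors F r), A.count g.1 by omega]
  exact hPexp

/-- The admissible multiplicities. -/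
def Tup (h : Good F r i) (n : ℕ) : Set (↥(factors F r) → ℕ) :=
  {a | (∀ g, a (dualF h g) = a g) ∧ i * ∑ g, a g ≤ n}

theorem mem_tup_of_dual (h : Good F r i) {n : ℕ} {a : ↥(factors F r) → ℕ} (ha : i * ∑ g, a g ≤ n)
    (hd : GLSemi.dual σ (poly n i a) = poly n i a) : a ∈ Tup h n :=
  ⟨fun g => congrFun (poly_injective h n ((dual_poly h n a).symm.trans hd)) g, ha⟩

theorem card_tup_even (h : Good F r i) (hi : Even i) {t : ℕ} (ht : t * i = r - 1) (n : ℕ) :
    Nat.card ↥(Tup h n) = Nat.choose (n / i + t) t := by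
  have e : Tup h n = {a | ∑ g, a g ≤ n / i} := by
    ext a
    rw [Tup, Set.mem_setOf_eq, Set.mem_setOf_eq, Nat.le_div_iff_mul_le (i_pos h), mul_comm]
    exact and_iff_right fun g => congrArg a (Subtype.ext ((dual_eq_iff h g.2).2 hi))
  rw [e, show Nat.card ↥{a : ↥(factors F r) → ℕ | ∑ g, a g ≤ n / i} =
    Nat.card {a : ↥(factors F r) → ℕ // ∑ g, a g ≤ n / i} from rfl, card_sum_le, Fintype.card_coe, card_factors h ht]

theorem dualF_free (h : Good F r i) (hi : Odd i) (g : ↥(factors F r)) : dualF h g ≠ g := fun e =>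
  Nat.not_even_iff_odd.2 hi ((dual_eq_iff h g.2).1 (congrArg Subtype.val e))

theorem card_tup_odd (h : Good F r i) (hi : Odd i) {t : ℕ} (ht : t * i = r - 1) (m : ℕ) :
    Nat.card ↥(Tup h (2 * m)) = Nat.choose (m / i + t / 2) (t / 2) := by
  classical
  obtain ⟨hc, e, he⟩ := exists_reps_equiv (dualF h) (dualF_dualF h) (dualF_free h hi)
  rw [Fintype.card_coe, card_factors h ht] at hc
  let T : {b : ↥(reps (dualF h)) → ℕ // ∑ y, b y ≤ m / i} ≃ ↥(Tup h (2 * m)) :=
    { toFun := fun b => ⟨(e.symm b.1).1, (e.symm b.1).2, by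
        have := b.2
        rw [Nat.le_div_iff_mul_le (i_pos h)] at this
        rw [he, Equiv.apply_symm_apply]
        nlinarith⟩
      invFun := fun a => ⟨e ⟨a.1, a.2.1⟩, by
        have := a.2.2
        rw [he ⟨a.1, a.2.1⟩] at this
        rw [Nat.le_div_iff_mul_le (i_pos h)]
        nlinarith⟩
      left_inv := fun b => Subtype.ext (by simp)
      right_inv := fun a => Subtype.ext (by simp) }
  rw [← Nat.card_congr T, card_sum_le, Fintype.card_coe]
  rw [show t / 2 = (reps (dualF h)).card by omega]

end Cfsg.Agent.Forms59.SelfDual
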