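import Cfsg.Agent.Forms59.Normal

set_option autoImplicit false

namespace Cfsg.Agent.Forms59

variable {F : Type*} [Field F]

/-- The form `sumForm k (c z²)` bundled as a quadratic form. -/
noncomputable def oddQF (k : ℕ) (c : F) : QuadraticForm F ((Fin k ⊕ Fin k) ⊕ Fin 1 → F) :=
  (plusQF F k).comp (LinearMap.funLeft F F (Sum.inl : Fin k ⊕ Fin k → (Fin k ⊕ Fin k) ⊕ Fin 1))
  + c • QuadraticMap.linMulLin
      (LinearMap.proj (R := F) (φ := fun _ => F) (Sum.inr 0 : (Fin k ⊕ Fin k) ⊕ Fin 1))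
      (LinearMap.proj (R := F) (φ := fun _ => F) (Sum.inr 0 : (Fin k ⊕ Fin k) ⊕ Fin 1))

theorem coe_oddQF (k : ℕ) (c : F) : ⇑(oddQF k c) = sumForm k (fun z : Fin 1 → F => c * (z 0 * z 0)) := by
  funext v
  simp [oddQF, sumForm, coe_plusQF, Cfsg.quadFormPlus, QuadraticMap.linMulLin_apply]

theorem gram_oddQF_det (k : ℕ) (c : F) :
    (gram (oddQF k c) (Pi.basisFun F ((Fin k ⊕ Fin k) ⊕ Fin 1))).det = (-1) ^ k * (2 * c) := by
  have h : gram (oddQF k c) (Pi.basisFun F ((Fin k ⊕ Fin k) ⊕ Fin 1)) =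
      Matrix.fromBlocks (Matrix.fromBlocks 0 1 1 0) 0 0 (Matrix.of fun _ _ => 2 * c) := by
    ext ((i | i) | i) ((j | j) | j) <;>
      try simp [gram, coe_oddQF, sumForm, QuadraticMap.polar, mul_add, add_mul,
        Finset.sum_add_distrib, Pi.single_apply, Matrix.one_apply, eq_comm]
    fin_cases i; fin_cases j
    simp
    ring
  rw [h, Matrix.det_fromBlocks_zero₂₁, det_swapBlocks, Fintype.card_fin]
  simp

/-- Scaling a split part by `c` and any form similarity of the remainder. -/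
theorem exists_similarity_sum {ι : Type*} (k : ℕ) {c : F} (hc : c ≠ 0) (R : (ι → F) → F)
    (g : (ι → F) ≃ₗ[F] (ι → F)) (hg : ∀ z, R (g z) = c * R z) :
    ∃ T : ((Fin k ⊕ Fin k) ⊕ ι → F) ≃ₗ[F] ((Fin k ⊕ Fin k) ⊕ ι → F), ∀ v,
      (∑ i : Fin k, T v (Sum.inl (Sum.inl i)) * T v (Sum.inl (Sum.inr i))) + R (T v ∘ Sum.inr) =
      c * ((∑ i : Fin k, v (Sum.inl (Sum.inl i)) * v (Sum.inl (Sum.inr i))) + R (v ∘ Sum.inr)) := by
  let S : (Fin k ⊕ Fin k → F) ≃ₗ[F] (Fin k ⊕ Fin k → F) :=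
    LinearEquiv.piCongrRight fun i => LinearEquiv.smulOfUnit (R := F)
      (Sum.elim (fun _ => Units.mk0 c hc) (fun _ => 1) i)
  refine ⟨(LinearEquiv.sumArrowLequivProdArrow (Fin k ⊕ Fin k) ι F F).trans
    ((S.prodCongr g).trans (LinearEquiv.sumArrowLequivProdArrow (Fin k ⊕ Fin k) ι F F).symm), fun v => ?_⟩
  rw [mul_add, Finset.mul_sum, ← hg]
  congr 1
  refine Finset.sum_congr rfl fun i _ => ?_
  show (S (fun j => v (Sum.inl j)) (Sum.inl i)) * (S (fun j => v (Sum.inl j)) (Sum.inr i)) = _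
  simp [S, mul_assoc, LinearEquiv.smulOfUnit, Units.smul_def]

/-- Multiplication in the quadratic extension gives a similarity of an elliptic binary form. -/
theorem exists_similarity_binary [Finite F] (ζ : F) (hζ : ∀ t : F, t ^ 2 + t + ζ ≠ 0) {c : F}
    (hc : c ≠ 0) : ∃ g : (Fin 2 → F) ≃ₗ[F] (Fin 2 → F), ∀ z,
      g z 0 ^ 2 + 1 * g z 0 * g z 1 + ζ * g z 1 ^ 2 =
        c * (z 0 ^ 2 + 1 * z 0 * z 1 + ζ * z 1 ^ 2) := by
  let R : QuadraticForm F (Fin 2 → F) :=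
    QuadraticMap.linMulLin (LinearMap.proj 0) (LinearMap.proj 0) +
      QuadraticMap.linMulLin (LinearMap.proj 0) (LinearMap.proj 1) +
      ζ • QuadraticMap.linMulLin (LinearMap.proj 1) (LinearMap.proj 1)
  have hR : ∀ z, R z = z 0 ^ 2 + 1 * z 0 * z 1 + ζ * z 1 ^ 2 := by
    intro z; simp [R, QuadraticMap.linMulLin_apply]; ring
  have haniso : ∀ z, R z = 0 → z = 0 := by
    intro z hz
    rw [hR] at hz
    have : z 0 = 0 ∧ z 1 = 0 := by
      by_cases h1 : z 1 = 0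
      · simp [h1] at hz; exact ⟨hz, h1⟩
      · exact absurd (by field_simp; linear_combination hz) (hζ (z 0 / z 1))
    funext i; fin_cases i
    · exact this.1
    · exact this.2
  obtain ⟨x, hx⟩ := exists_eq_of_binary R (by simp) haniso hc
  let M : (Fin 2 → F) →ₗ[F] (Fin 2 → F) :=
    Matrix.mulVecLin !![x 0, -(ζ * x 1); x 1, x 0 + x 1]
  have hM : ∀ z, R (M z) = R x * R z := by
    intro z; simp [hR, M, dotProduct, Fin.sum_univ_two]; ring
  have hinj : Function.Injective M := by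
    rw [injective_iff_map_eq_zero]
    intro z hz
    have h := hM z
    rw [hz, map_zero, hx] at h
    exact haniso z ((mul_eq_zero.1 h.symm).resolve_left hc)
  refine ⟨LinearEquiv.ofInjectiveEndo M hinj, fun z => ?_⟩
  rw [← hR, ← hR, ← hx]
  exact hM z

end Cfsg.Agent.Forms59
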