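import Cfsg.Agent.Forms59.Gram

set_option autoImplicit false

namespace Cfsg.Agent.Forms59

open Matrix QuadraticMap

variable (F : Type*) [Field F]

/-- `quadFormPlus` bundled as a quadratic form. -/
noncomputable def plusQF (m : ℕ) : QuadraticForm F (Fin m ⊕ Fin m → F) :=
  ∑ i : Fin m, QuadraticMap.linMulLin
    (LinearMap.proj (R := F) (φ := fun _ => F) (Sum.inl i : Fin m ⊕ Fin m))
    (LinearMap.proj (R := F) (φ := fun _ => F) (Sum.inr i : Fin m ⊕ Fin m))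

theorem coe_plusQF (m : ℕ) : ⇑(plusQF F m) = Cfsg.quadFormPlus m F := by
  funext v
  simp [plusQF, Cfsg.quadFormPlus, QuadraticMap.linMulLin_apply]

/-- `quadFormMinus` bundled as a quadratic form. -/
noncomputable def minusQF (k : ℕ) (a b : F) : QuadraticForm F ((Fin k ⊕ Fin k) ⊕ Fin 2 → F) :=
  (plusQF F k).comp (LinearMap.funLeft F F (Sum.inl : Fin k ⊕ Fin k → (Fin k ⊕ Fin k) ⊕ Fin 2))
  + (QuadraticMap.linMulLin
      (LinearMap.proj (R := F) (φ := fun _ => F) (Sum.inr 0 : (Fin k ⊕ Fin k) ⊕ Fin 2))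
      (LinearMap.proj (R := F) (φ := fun _ => F) (Sum.inr 0 : (Fin k ⊕ Fin k) ⊕ Fin 2))
    + a • QuadraticMap.linMulLin
      (LinearMap.proj (R := F) (φ := fun _ => F) (Sum.inr 0 : (Fin k ⊕ Fin k) ⊕ Fin 2))
      (LinearMap.proj (R := F) (φ := fun _ => F) (Sum.inr 1 : (Fin k ⊕ Fin k) ⊕ Fin 2))
    + b • QuadraticMap.linMulLin
      (LinearMap.proj (R := F) (φ := fun _ => F) (Sum.inr 1 : (Fin k ⊕ Fin k) ⊕ Fin 2))
      (LinearMap.proj (R := F) (φ := fun _ => F) (Sum.inr 1 : (Fin k ⊕ Fin k) ⊕ Fin 2)))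

theorem coe_minusQF (k : ℕ) (a b : F) : ⇑(minusQF F k a b) = Cfsg.quadFormMinus k F a b := by
  funext v
  simp [minusQF, Cfsg.quadFormMinus, coe_plusQF, Cfsg.quadFormPlus, QuadraticMap.linMulLin_apply]
  ring

theorem gram_plusQF (m : ℕ) :
    gram (plusQF F m) (Pi.basisFun F (Fin m ⊕ Fin m)) = Matrix.fromBlocks 0 1 1 0 := by
  ext (i | i) (j | j) <;>
    simp [gram, coe_plusQF, Cfsg.quadFormPlus, QuadraticMap.polar, add_mul, mul_add,
      Finset.sum_add_distrib, Pi.single_apply, Matrix.one_apply, eq_comm]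

theorem det_swapBlocks {ι : Type*} [Fintype ι] [DecidableEq ι] :
    (Matrix.fromBlocks 0 1 1 0 : Matrix (ι ⊕ ι) (ι ⊕ ι) F).det = (-1) ^ Fintype.card ι := by
  have h : (Matrix.fromBlocks 0 1 1 0 : Matrix (ι ⊕ ι) (ι ⊕ ι) F) * Matrix.fromBlocks 1 0 1 1 =
      Matrix.fromBlocks 1 1 1 0 := by
    simp [Matrix.fromBlocks_multiply]
  have h2 := congr_arg Matrix.det h
  rw [Matrix.det_mul, Matrix.det_fromBlocks_zero₁₂, Matrix.det_fromBlocks_one₁₁] at h2
  simpa [Matrix.det_neg] using h2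

theorem gram_plusQF_det (m : ℕ) :
    (gram (plusQF F m) (Pi.basisFun F (Fin m ⊕ Fin m))).det = (-1) ^ m := by
  rw [gram_plusQF, det_swapBlocks, Fintype.card_fin]

theorem gram_minusQF (k : ℕ) (a b : F) :
    gram (minusQF F k a b) (Pi.basisFun F ((Fin k ⊕ Fin k) ⊕ Fin 2)) =
      Matrix.fromBlocks (Matrix.fromBlocks 0 1 1 0) 0 0 !![2, a; a, 2 * b] := by
  ext ((i | i) | i) ((j | j) | j) <;>
    try simp [gram, coe_minusQF, Cfsg.quadFormMinus, QuadraticMap.polar, add_mul, mul_add,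
      Finset.sum_add_distrib, Pi.single_apply, Matrix.one_apply, eq_comm]
  fin_cases i <;> fin_cases j <;> simp <;> ring

theorem gram_minusQF_det (k : ℕ) (a b : F) :
    (gram (minusQF F k a b) (Pi.basisFun F ((Fin k ⊕ Fin k) ⊕ Fin 2))).det =
      (-1) ^ k * (4 * b - a ^ 2) := by
  rw [gram_minusQF, Matrix.det_fromBlocks_zero₂₁, det_swapBlocks, Fintype.card_fin, Matrix.det_fin_two]
  simp; ring

theorem even_iff_isSquare_neg_one_pow [Fintype F] {q : ℕ} (hF : Fintype.card F = q) (hq : Odd q)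
    (m : ℕ) : IsSquare ((-1 : F) ^ m) ↔ Even (m * (q - 1) / 2) := by
  obtain ⟨r, rfl⟩ := hq
  have hr : m * (2 * r + 1 - 1) / 2 = m * r := by
    rw [Nat.add_sub_cancel, mul_left_comm, Nat.mul_div_cancel_left _ (by norm_num)]
  rw [hr, Nat.even_mul]
  rcases Nat.even_or_odd m with hm | hm
  · simp [hm.neg_one_pow, hm]
  · rw [hm.neg_one_pow, FiniteField.isSquare_neg_one_iff, hF]
    simp only [Nat.not_even_iff_odd.2 hm, false_or, Nat.even_iff]
    omega

end Cfsg.Agent.Forms59
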