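import Cfsg.Agent.Forms59.OmegaTools
import Cfsg.Agent.S2626

/-!
Omega of an orthogonal sum.
-/

set_option autoImplicit false
set_option linter.unusedSectionVars false

namespace Cfsg.Agent.Forms59

open Matrix QuadraticMap Cfsg.Agent.Reflections
open scoped Matrix commutatorElement

variable {F : Type*} [Field F] {k l : ℕ}

/-- The orthogonal sum of two forms on coordinate spaces. -/
noncomputable def sumQF (Q₁ : QuadraticForm F (Fin k → F)) (Q₂ : QuadraticForm F (Fin l → F)) :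
    QuadraticForm F (Fin k ⊕ Fin l → F) :=
  Q₁.comp (LinearMap.funLeft F F (Sum.inl : Fin k → Fin k ⊕ Fin l)) +
    Q₂.comp (LinearMap.funLeft F F (Sum.inr : Fin l → Fin k ⊕ Fin l))

variable {Q₁ : QuadraticForm F (Fin k → F)} {Q₂ : QuadraticForm F (Fin l → F)}

theorem coe_sumQF : ⇑(sumQF Q₁ Q₂) =
    fun v : Fin k ⊕ Fin l → F => Q₁ (v ∘ Sum.inl) + Q₂ (v ∘ Sum.inr) := rfl

theorem polar_sumQF (x y : Fin k ⊕ Fin l → F) : polar ⇑(sumQF Q₁ Q₂) x y =
    polar ⇑Q₁ (x ∘ Sum.inl) (y ∘ Sum.inl) + polar ⇑Q₂ (x ∘ Sum.inr) (y ∘ Sum.inr) := by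
  show (Q₁ ((x + y) ∘ Sum.inl) + Q₂ ((x + y) ∘ Sum.inr)) - (Q₁ (x ∘ Sum.inl) + Q₂ (x ∘ Sum.inr)) -
    (Q₁ (y ∘ Sum.inl) + Q₂ (y ∘ Sum.inr)) = _
  simp only [QuadraticMap.polar, show (x + y) ∘ (Sum.inl : Fin k → Fin k ⊕ Fin l) =
      x ∘ Sum.inl + y ∘ Sum.inl from rfl,
    show (x + y) ∘ (Sum.inr : Fin l → Fin k ⊕ Fin l) = x ∘ Sum.inr + y ∘ Sum.inr from rfl]
  ring

theorem sumQF_nondegenerate (h₁ : (QuadraticMap.polarBilin Q₁).Nondegenerate)
    (h₂ : (QuadraticMap.polarBilin Q₂).Nondegenerate) :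
    (QuadraticMap.polarBilin (sumQF Q₁ Q₂)).Nondegenerate := by
  have main : ∀ x, (∀ y, polar ⇑(sumQF Q₁ Q₂) x y = 0) → x = 0 := by
    intro x hx
    have e1 : x ∘ Sum.inl = 0 := h₁.1 _ fun y => by
      have h := hx (Sum.elim y 0)
      rwa [polar_sumQF, Sum.elim_comp_inl, Sum.elim_comp_inr, QuadraticMap.polar_zero_right,
        add_zero] at h
    have e2 : x ∘ Sum.inr = 0 := h₂.1 _ fun y => by
      have h := hx (Sum.elim 0 y)
      rwa [polar_sumQF, Sum.elim_comp_inl, Sum.elim_comp_inr, QuadraticMap.polar_zero_right,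
        zero_add] at h
    funext i
    rcases i with i | i
    · exact congrFun e1 i
    · exact congrFun e2 i
  exact ⟨main, fun x hx => main x fun y => by rw [polar_comm]; exact hx y⟩

theorem sumQF_left (v : Fin k → F) : sumQF Q₁ Q₂ (Sum.elim v 0) = Q₁ v := by
  simp [coe_sumQF]

/-- A left block hom sends reflections to reflections. -/
theorem map_left_reflProd
    {f : ↥(Cfsg.isometryGroup F ⇑Q₁) →* ↥(Cfsg.isometryGroup F ⇑(sumQF Q₁ Q₂))}
    (hf : ∀ g, mat (f g) = Matrix.fromBlocks (mat g) 0 0 1) :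
    ∀ vs : List (Fin k → F), (∀ v ∈ vs, Q₁ v ≠ 0) →
      f (reflProd Q₁ vs) = reflProd (sumQF Q₁ Q₂) (vs.map fun v => Sum.elim v 0)
  | [], _ => by simp [reflProd]
  | v :: vs, hvs => by
    have hv : Q₁ v ≠ 0 := hvs v (by simp)
    have hv' : sumQF Q₁ Q₂ (Sum.elim v 0) ≠ 0 := by rwa [sumQF_left]
    rw [reflProd_cons, map_mul, map_left_reflProd hf vs (fun w hw => hvs w (by simp [hw])),
      List.map_cons, reflProd_cons]
    congr 1
    refine isom_ext fun x => ?_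
    rw [act_refl hv', act, hf, Matrix.fromBlocks_mulVec]
    funext i
    rcases i with i | i
    · simp only [Sum.elim_inl, Matrix.zero_mulVec, add_zero, Pi.sub_apply, Pi.smul_apply, smul_eq_mul]
      rw [mat_refl hv, reflectionMatrix_mulVec]
      simp [sumQF_left, polar_sumQF]
    · simp only [Sum.elim_inr, Matrix.zero_mulVec, Matrix.one_mulVec, zero_add, Pi.sub_apply,
        Pi.smul_apply, smul_eq_mul, Function.comp_apply, Pi.zero_apply, mul_zero, sub_zero]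

theorem refl_pow_of_dim_le_one (hk : k ≤ 1) :
    ∀ vs : List (Fin k → F), (∀ v ∈ vs, Q₁ v ≠ 0) → Even vs.length → reflProd Q₁ vs = 1
  | [], _, _ => rfl
  | [_], _, he => absurd he (by simp)
  | u :: v :: vs, hvs, he => by
    have hu : Q₁ u ≠ 0 := hvs u (by simp)
    have hv : Q₁ v ≠ 0 := hvs v (by simp)
    haveI : Subsingleton (Fin k) := Fin.subsingleton_iff_le_one.2 hk
    have hk' : 0 < k := by
      rcases Nat.eq_zero_or_pos k with rfl | h
      · exact absurd (by rw [Subsingleton.elim u 0, QuadraticMap.map_zero]) hu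
      · exact h
    have hne : ∀ w, Q₁ w ≠ 0 → w ⟨0, hk'⟩ ≠ 0 := fun w hw h => hw (by
      rw [show w = 0 from funext fun i => by rw [Subsingleton.elim i ⟨0, hk'⟩]; exact h,
        QuadraticMap.map_zero])
    have e : refl Q₁ u = refl Q₁ v := by
      rw [← refl_smul hv (div_ne_zero (hne u hu) (hne v hv))]
      congr 1
      funext i
      rw [Subsingleton.elim i ⟨0, hk'⟩, Pi.smul_apply, smul_eq_mul, div_mul_cancel₀ _ (hne v hv)]
    rw [reflProd_cons, reflProd_cons, ← mul_assoc, e, refl_mul_self hv, one_mul]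
    refine refl_pow_of_dim_le_one hk vs (fun w hw => hvs w (by simp [hw])) ?_
    simpa [Nat.even_add_one] using he

variable [Fintype F]

/-- An isometry of the first summand lies in Omega of the sum iff in Omega of the summand. -/
theorem left_mem_omega_iff (h : Fintype.card F ≠ 2 ∨ (k ≠ 4 ∧ k + l ≠ 4))
    (h₁ : (QuadraticMap.polarBilin Q₁).Nondegenerate)
    (h₂ : (QuadraticMap.polarBilin Q₂).Nondegenerate)
    {f : ↥(Cfsg.isometryGroup F ⇑Q₁) →* ↥(Cfsg.isometryGroup F ⇑(sumQF Q₁ Q₂))}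
    (hf : ∀ g, mat (f g) = Matrix.fromBlocks (mat g) 0 0 1) (g : ↥(Cfsg.isometryGroup F ⇑Q₁)) :
    f g ∈ Cfsg.Omega F ⇑(sumQF Q₁ Q₂) ↔ g ∈ Cfsg.Omega F ⇑Q₁ := by
  constructor
  · intro hg
    obtain ⟨vs, hvs, rfl⟩ := exists_reflProd h₁
      (by rw [Fintype.card_fin]; exact h.imp_right And.left) g
    rw [map_left_reflProd hf vs hvs] at hg
    obtain ⟨he, hsq⟩ := even_and_square_of_mem_omega (sumQF_nondegenerate h₁ h₂)
      (by rw [Fintype.card_sum, Fintype.card_fin, Fintype.card_fin]; exact h.imp_right And.right)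
      _ (fun v hv => by
        obtain ⟨w, hw, rfl⟩ := List.mem_map.1 hv
        rw [sumQF_left]; exact hvs w hw) hg
    rw [List.length_map] at he
    simp only [List.map_map, Function.comp_def, sumQF_left] at hsq
    by_cases hk : k ≤ 1
    · rw [refl_pow_of_dim_le_one hk vs hvs he]; exact one_mem _
    · exact mem_omega_of_even_square h₁ (by rw [Fintype.card_fin]; exact h.imp_right And.left)
        (by rw [Fintype.card_fin]; omega) vs hvs he hsq
  · intro hg
    exact S2626.map_commutator_eq_of f (Subgroup.mem_map_of_mem f hg)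

/-- `diag(g, g)` lies in Omega of the doubled form. -/
theorem diag_mem_omega (Q : QuadraticForm F (Fin k → F))
    (hQ : (QuadraticMap.polarBilin Q).Nondegenerate) (h : Fintype.card F ≠ 2 ∨ k ≠ 2)
    (g : ↥(Cfsg.isometryGroup F ⇑Q)) :
    ∃ x : ↥(Cfsg.isometryGroup F ⇑(sumQF Q Q)), x ∈ Cfsg.Omega F ⇑(sumQF Q Q) ∧
      mat x = Matrix.fromBlocks (mat g) 0 0 (mat g) := by
  obtain ⟨f₁, hf₁⟩ := S2626.exists_hom_left (l := k) (⇑Q) (⇑Q)
  obtain ⟨f₂, hf₂⟩ := S2626.exists_hom_right (k := k) (⇑Q) (⇑Q)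
  obtain ⟨c, hc⟩ := exists_of_linearEquiv (Q := sumQF Q Q)
    (LinearEquiv.funCongrLeft F F (Equiv.sumComm (Fin k) (Fin k))) fun v => by
      show Q _ + Q _ = Q _ + Q _
      rw [add_comm]; rfl
  let F₁ : ↥(Cfsg.isometryGroup F ⇑Q) →* ↥(Cfsg.isometryGroup F ⇑(sumQF Q Q)) := f₁
  let F₂ : ↥(Cfsg.isometryGroup F ⇑Q) →* ↥(Cfsg.isometryGroup F ⇑(sumQF Q Q)) := f₂
  have hF₁ : mat (F₁ g) = Matrix.fromBlocks (mat g) 0 0 1 := hf₁ g
  have hF₂ : mat (F₂ g) = Matrix.fromBlocks 1 0 0 (mat g) := hf₂ g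
  have key : F₂ g = c * F₁ g * c⁻¹ := by
    rw [eq_mul_inv_iff_mul_eq]
    refine isom_ext fun x => ?_
    rw [act_mul, act_mul, act, hF₂, Matrix.fromBlocks_mulVec, hc, hc]
    funext i
    rcases i with i | i <;>
    · show _ = act (F₁ g) x _
      rw [act, hF₁, Matrix.fromBlocks_mulVec]
      simp [LinearMap.funLeft, Function.comp_def]
  have hbig : Fintype.card F ≠ 2 ∨ Fintype.card (Fin k ⊕ Fin k) ≠ 4 := by
    rw [Fintype.card_sum, Fintype.card_fin]
    omega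
  refine ⟨F₁ g * F₂ g, ?_, ?_⟩
  · have hsq := sq_mem_omega (sumQF_nondegenerate hQ hQ) hbig (F₁ g)
    have hcomm : ⁅(F₁ g)⁻¹, c⁆ ∈ Cfsg.Omega F ⇑(sumQF Q Q) :=
      Subgroup.commutator_mem_commutator (Subgroup.mem_top _) (Subgroup.mem_top _)
    have e : F₁ g * F₂ g = (F₁ g * F₁ g) * ⁅(F₁ g)⁻¹, c⁆ := by
      rw [key, commutatorElement_def]; group
    rw [e]
    exact mul_mem hsq hcomm
  · rw [mat_mul', hF₁, hF₂, Matrix.fromBlocks_multiply]
    simp

end Cfsg.Agent.Forms59
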