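import Cfsg.Agent.Forms59.RegUnipotent

/-!
Regular unipotent elements of the symplectic group in odd characteristic.
-/

set_option autoImplicit false
set_option linter.unusedSectionVars false

namespace Cfsg.Agent.Forms59

open Matrix KS58
open scoped Matrix

variable {F : Type*} [Field F] {m : ℕ}

/-- Coordinates `Fin m ⊕ Fin m ≃ Fin (2m)`. -/
def sumFinTwo (m : ℕ) : Fin m ⊕ Fin m ≃ Fin (2 * m) :=
  finSumFinEquiv.trans (finCongr (two_mul m).symm)

/-- Matrices in those coordinates. -/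
noncomputable def toFinMat (m : ℕ) (F : Type*) [Field F] :
    Matrix (Fin m ⊕ Fin m) (Fin m ⊕ Fin m) F ≃ₐ[F] Matrix (Fin (2 * m)) (Fin (2 * m)) F :=
  Matrix.reindexAlgEquiv F F (sumFinTwo m)

theorem toFinMat_transpose (X : Matrix (Fin m ⊕ Fin m) (Fin m ⊕ Fin m) F) :
    toFinMat m F Xᵀ = (toFinMat m F X)ᵀ := rfl

/-- The symplectic form in those coordinates. -/
noncomputable def finJ (m : ℕ) (F : Type*) [Field F] : Matrix (Fin (2 * m)) (Fin (2 * m)) F :=
  toFinMat m F (Matrix.J (Fin m) F)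

theorem finJ_sq : finJ m F * finJ m F = -1 := by
  rw [finJ, ← map_mul, Matrix.J_squared, map_neg, map_one]

theorem isUnit_finJ : IsUnit (finJ m F) :=
  IsUnit.of_mul_eq_one (-finJ m F) (by rw [mul_neg, finJ_sq, neg_neg])

theorem finJ_transpose : (finJ m F)ᵀ = -finJ m F := by
  rw [finJ, ← toFinMat_transpose, Matrix.J_transpose, map_neg]

theorem mem_symplectic_iff (X : Matrix (Fin m ⊕ Fin m) (Fin m ⊕ Fin m) F) :
    X ∈ Matrix.symplecticGroup (Fin m) F ↔
      (toFinMat m F X)ᵀ * finJ m F * toFinMat m F X = finJ m F := by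
  rw [SymplecticGroup.mem_iff', finJ, ← toFinMat_transpose, ← map_mul, ← map_mul,
    (toFinMat m F).injective.eq_iff]

theorem isRegNil_iff (X : Matrix (Fin m ⊕ Fin m) (Fin m ⊕ Fin m) F) :
    IsRegNil (toFinMat m F X - 1) ↔ (X - 1) ^ (2 * m) = 0 ∧ (X - 1).rank = 2 * m - 1 := by
  rw [IsRegNil, ← map_one (toFinMat m F), ← map_sub, ← map_pow,
    map_eq_zero_iff (toFinMat m F) (toFinMat m F).injective]
  refine and_congr_right fun _ => ?_
  rw [toFinMat, Matrix.reindexAlgEquiv_apply, Matrix.rank_reindex]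

theorem card_centralizer_regular [Fintype F] (h2 : (2 : F) ≠ 0) (hm : 1 ≤ m)
    (u : Matrix.symplecticGroup (Fin m) F)
    (hu : IsRegNil (toFinMat m F (u : Matrix (Fin m ⊕ Fin m) (Fin m ⊕ Fin m) F) - 1)) :
    Nat.card ↥(Subgroup.centralizer ({u} : Set ↥(Matrix.symplecticGroup (Fin m) F))) =
      2 * Fintype.card F ^ m := by
  obtain ⟨M, hM, hS, hc⟩ := exists_cayley h2 ((mem_symplectic_iff _).1 u.2) hu
  rw [← card_preserves_commute h2 (rfl : 2 * m = 2 * m) (by omega) hM hS isUnit_finJ]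
  refine Nat.card_congr
    { toFun := fun g => ⟨toFinMat m F g.1.1, (hc _).1 ?_, (mem_symplectic_iff _).1 g.1.2⟩
      invFun := fun X => ⟨⟨(toFinMat m F).symm X.1, (mem_symplectic_iff _).2
        (by rw [AlgEquiv.apply_symm_apply]; exact X.2.2)⟩, ?_⟩
      left_inv := fun g => Subtype.ext (Subtype.ext ((toFinMat m F).symm_apply_apply _))
      right_inv := fun X => Subtype.ext ((toFinMat m F).apply_symm_apply _) }
  · have h := Subgroup.mem_centralizer_singleton_iff.1 g.2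
    show _ * _ = _ * _
    rw [← map_mul, ← map_mul]
    exact congrArg (fun y : Matrix.symplecticGroup (Fin m) F => toFinMat m F y.1) h
  · refine Subgroup.mem_centralizer_singleton_iff.2 (Subtype.ext ((toFinMat m F).injective ?_))
    show toFinMat m F ((toFinMat m F).symm X.1 * u.1) = toFinMat m F (u.1 * (toFinMat m F).symm X.1)
    rw [map_mul, map_mul, AlgEquiv.apply_symm_apply]
    exact ((hc X.1).2 X.2.1).eq

/-! ### A regular unipotent element -/

/-- The antidiagonal alternating form. -/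
noncomputable def antiForm (m : ℕ) (F : Type*) [Field F] : Matrix (Fin (2 * m)) (Fin (2 * m)) F :=
  Matrix.of fun k l => if (k : ℕ) + l + 1 = 2 * m then (-1) ^ ((k : ℕ) + m) else 0

theorem skew_shift : SkewFor (antiForm m F) (shift F (2 * m)) := by
  unfold SkewFor
  ext k l
  rw [Matrix.add_apply, Matrix.mul_apply, Matrix.mul_apply]
  simp only [Matrix.transpose_apply, shift, antiForm, Matrix.of_apply, ite_mul, mul_ite, one_mul,
    zero_mul, mul_one, mul_zero, Matrix.zero_apply]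
  by_cases hkl : (k : ℕ) + l + 2 = 2 * m
  · rw [Finset.sum_eq_single ⟨(k : ℕ) + 1, by omega⟩, Finset.sum_eq_single ⟨(l : ℕ) + 1, by omega⟩]
    · simp only [if_true, if_pos (show (k : ℕ) + 1 + l + 1 = 2 * m by omega),
        if_pos (show (k : ℕ) + (l + 1) + 1 = 2 * m by omega)]
      rw [add_right_comm, pow_succ]; ring
    · intro j _ hj
      split_ifs <;> first | rfl | exact absurd (Fin.ext (by assumption)) hj
    · simp
    · intro j _ hj
      split_ifs <;> first | rfl | exact absurd (Fin.ext (by assumption)) hj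
    · simp
  · rw [Finset.sum_eq_zero, Finset.sum_eq_zero, add_zero]
    · intro j _
      split_ifs with h1 h3
      · omega
      · rfl
      · rfl
    · intro j _
      split_ifs with h1 h3
      · omega
      · rfl
      · rfl

/-- Signed permutation bringing the antidiagonal form to the standard one. -/
theorem exists_coord (hm : 1 ≤ m) :
    ∃ P : Matrix (Fin (2 * m)) (Fin (2 * m)) F, IsUnit P ∧ Pᵀ * finJ m F * P = antiForm m F := by
  let P₀ : Matrix (Fin m ⊕ Fin m) (Fin (2 * m)) F := Matrix.of fun r k =>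
    Sum.elim (fun i : Fin m => if (k : ℕ) = i then (1 : F) else 0)
      (fun i : Fin m => if (k : ℕ) + i + 1 = 2 * m then (-1 : F) ^ ((k : ℕ) + m) else 0) r
  let P : Matrix (Fin (2 * m)) (Fin (2 * m)) F := P₀.submatrix (sumFinTwo m).symm id
  have key : Pᵀ * finJ m F * P = antiForm m F := by
    have e : Pᵀ * finJ m F * P = P₀ᵀ * Matrix.J (Fin m) F * P₀ := by
      show (P₀.submatrix (sumFinTwo m).symm id)ᵀ *
        (Matrix.J (Fin m) F).submatrix (sumFinTwo m).symm (sumFinTwo m).symm *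
          P₀.submatrix (sumFinTwo m).symm id = _
      rw [Matrix.transpose_submatrix, Matrix.submatrix_mul_equiv, Matrix.submatrix_mul_equiv]
      rfl
    rw [e]
    ext k l
    rw [Matrix.mul_apply, Fintype.sum_sum_type]
    simp only [Matrix.mul_apply, Fintype.sum_sum_type, Matrix.transpose_apply, Matrix.J,
      Matrix.fromBlocks_apply₁₁, Matrix.fromBlocks_apply₁₂, Matrix.fromBlocks_apply₂₁,
      Matrix.fromBlocks_apply₂₂, Matrix.zero_apply, Matrix.neg_apply, Matrix.one_apply, mul_zero,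
      Finset.sum_const_zero, zero_add, add_zero, mul_neg, mul_ite, mul_one, Finset.sum_neg_distrib,
      Finset.sum_ite_eq', Finset.mem_univ, if_true]
    simp only [P₀, antiForm, Matrix.of_apply, Sum.elim_inl, Sum.elim_inr]
    by_cases hkl : (k : ℕ) + l + 1 = 2 * m
    · rw [if_pos hkl]
      by_cases hk : (k : ℕ) < m
      · rw [Finset.sum_eq_zero (fun i _ => by rw [if_neg (show ¬ (l : ℕ) = i by omega), mul_zero]),
          zero_add, Finset.sum_eq_single (⟨k, hk⟩ : Fin m)]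
        · rw [if_pos rfl, if_pos (show (l : ℕ) + k + 1 = 2 * m by omega), neg_mul, one_mul]
          have hodd : Odd ((k : ℕ) + m + ((l : ℕ) + m)) := ⟨2 * m - 1, by omega⟩
          have hpow := hodd.neg_one_pow (α := F)
          rw [pow_add] at hpow
          have hsq : ((-1 : F) ^ ((l : ℕ) + m)) * (-1) ^ ((l : ℕ) + m) = 1 := by
            rw [← mul_pow]; simp
          linear_combination ((-1 : F) ^ ((l : ℕ) + m)) * (-hpow) + ((-1 : F) ^ ((k : ℕ) + m)) * hsq
        · intro i _ hi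
          rw [if_neg (fun h => hi (Fin.ext h.symm))]
          ring
        · simp
      · rw [Finset.sum_eq_single (⟨l, by omega⟩ : Fin m),
          Finset.sum_eq_zero (fun i _ => by rw [if_neg (show ¬ (k : ℕ) = i by omega)]; ring)]
        · rw [add_zero, if_pos (show (k : ℕ) + l + 1 = 2 * m from hkl), if_pos rfl, mul_one]
        · intro i _ hi
          rw [if_neg (fun h => hi (Fin.ext (show (i : ℕ) = l by omega))), zero_mul]
        · simp
    · rw [if_neg hkl, Finset.sum_eq_zero, Finset.sum_eq_zero, add_zero]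
      · intro i _
        split_ifs <;> first | omega | simp
      · intro i _
        split_ifs <;> first | omega | simp
  have hsq : antiForm m F * antiForm m F = -1 := by
    ext k l
    rw [Matrix.mul_apply, Finset.sum_eq_single (⟨2 * m - 1 - k, by omega⟩ : Fin (2 * m))]
    · simp only [antiForm, Matrix.of_apply, Matrix.neg_apply, Matrix.one_apply, Fin.ext_iff]
      rw [if_pos (by omega)]
      by_cases hkl : (k : ℕ) = l
      · rw [if_pos (by omega), if_pos hkl, ← pow_add, Odd.neg_one_pow ⟨2 * m - 1, by omega⟩]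
      · rw [if_neg (by omega), if_neg hkl, mul_zero, neg_zero]
    · intro j _ hj
      simp only [antiForm, Matrix.of_apply]
      rw [if_neg (fun h => hj (Fin.ext (show (j : ℕ) = 2 * m - 1 - k by omega))), zero_mul]
    · simp
  refine ⟨P, (Matrix.isUnit_iff_isUnit_det _).2
    (Matrix.isUnit_det_of_left_inverse (B := -antiForm m F * Pᵀ * finJ m F) ?_), key⟩
  rw [mul_assoc, mul_assoc, ← mul_assoc Pᵀ, key, neg_mul, hsq, neg_neg]

/-- There is a regular unipotent isometry of `finJ`. -/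
theorem exists_regular (h2 : (2 : F) ≠ 0) (hm : 1 ≤ m) :
    ∃ U : Matrix (Fin (2 * m)) (Fin (2 * m)) F,
      Uᵀ * finJ m F * U = finJ m F ∧ IsRegNil (U - 1) := by
  obtain ⟨P, hP, key⟩ := exists_coord (F := F) hm
  obtain ⟨Q, hQ⟩ : ∃ Q, P * Q = 1 := ⟨_, hP.mul_val_inv⟩
  have hQ2 : Q * P = 1 := mul_eq_one_comm.1 hQ
  set N := shift F (2 * m)
  have hN : IsRegNil N := isRegNil_shift F _
  obtain ⟨W, hW⟩ : ∃ W, (1 - N) * W = 1 :=
    ⟨_, (IsNilpotent.isUnit_one_sub ⟨2 * m, hN.1⟩).mul_val_inv⟩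
  have hW2 : W * (1 - N) = 1 := mul_eq_one_comm.1 hW
  refine ⟨P * ((1 + N) * W) * Q, ?_, ?_⟩
  · calc (P * ((1 + N) * W) * Q)ᵀ * finJ m F * (P * ((1 + N) * W) * Q)
        = Qᵀ * (((1 + N) * W)ᵀ * (Pᵀ * finJ m F * P) * ((1 + N) * W)) * Q := by
          rw [transpose_mul, transpose_mul]; noncomm_ring
      _ = Qᵀ * (Pᵀ * finJ m F * P) * Q := by rw [key, cayley_preserves skew_shift hW]
      _ = (P * Q)ᵀ * finJ m F * (P * Q) := by rw [transpose_mul]; noncomm_ring
      _ = finJ m F := by rw [hQ, transpose_one, one_mul, mul_one]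
  · have e : P * ((1 + N) * W) * Q - 1 = P * ((2 : F) • (N * W)) * Q := by
      have e1 : (1 + N) * W - 1 = (2 : F) • (N * W) := by
        calc (1 + N) * W - 1 = (1 + N) * W - (1 - N) * W := by rw [hW]
          _ = (2 : F) • (N * W) := by rw [two_smul]; noncomm_ring
      rw [← e1, mul_sub, sub_mul, mul_one, hQ]
    have hNW : Commute N W := by
      calc N * W = W * (1 - N) * N * W := by rw [hW2, one_mul]
        _ = W * N * ((1 - N) * W) := by noncomm_ring
        _ = W * N := by rw [hW, mul_one]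
    have hpow : ∀ k : ℕ, (P * ((2 : F) • (N * W)) * Q) ^ k =
        P * ((2 : F) • (N * W)) ^ k * Q := by
      intro k
      induction k with
      | zero => rw [pow_zero, pow_zero, mul_one, hQ]
      | succ k ih =>
        rw [pow_succ, ih, pow_succ]
        calc P * ((2 : F) • (N * W)) ^ k * Q * (P * ((2 : F) • (N * W)) * Q)
            = P * ((2 : F) • (N * W)) ^ k * (Q * P) * ((2 : F) • (N * W)) * Q := by noncomm_ring
          _ = _ := by rw [hQ2, mul_one]; noncomm_ring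
    rw [e]
    refine ⟨?_, ?_⟩
    · rw [hpow, smul_pow, hNW.mul_pow, hN.1, zero_mul, smul_zero, mul_zero, zero_mul]
    · rw [Matrix.rank_mul_eq_left_of_isUnit_det _ _
          ((Matrix.isUnit_iff_isUnit_det _).1 (IsUnit.of_mul_eq_one _ hQ2)),
        Matrix.rank_mul_eq_right_of_isUnit_det _ _ ((Matrix.isUnit_iff_isUnit_det _).1 hP),
        ← smul_mul_assoc, Matrix.rank_mul_eq_left_of_isUnit_det _ _
          ((Matrix.isUnit_iff_isUnit_det _).1 (IsUnit.of_mul_eq_one _ hW2)),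
        show (2 : F) • N = ((2 : F) • (1 : Matrix (Fin (2 * m)) (Fin (2 * m)) F)) * N by
          rw [smul_mul_assoc, one_mul],
        Matrix.rank_mul_eq_right_of_isUnit_det _ _ ?_]
      · exact hN.2
      · rw [det_smul, det_one, mul_one]
        exact isUnit_iff_ne_zero.2 (pow_ne_zero _ h2)

/-! ### Two classes -/

/-- Self-adjoint unipotent polynomials have square roots. -/
theorem exists_sqrt [Fintype F] (h2 : (2 : F) ≠ 0) {n : ℕ} {J M : Matrix (Fin n) (Fin n) F}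
    (hM : IsRegNil M) {X : Matrix (Fin n) (Fin n) F} (hXM : Commute X M)
    (hX : Xᵀ * J = J * X) (hX1 : IsNilpotent (X - 1)) :
    ∃ E, Commute E M ∧ Eᵀ * J = J * E ∧ IsUnit E ∧ E * E = X := by
  classical
  let T := {E : Matrix (Fin n) (Fin n) F // Commute E M ∧ Eᵀ * J = J * E ∧ IsNilpotent (E - 1)}
  have hcomm : ∀ A B : T, Commute A.1 B.1 := by
    intro A B
    obtain ⟨c, hc⟩ := hM.commute_eq_sum B.2.1
    rw [hc]
    exact Commute.sum_right _ _ _ fun i _ => (A.2.1.pow_right _).smul_right _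
  let sq : T → T := fun E => ⟨E.1 * E.1, E.2.1.mul_left E.2.1,
    by rw [transpose_mul, mul_assoc, E.2.2.1, ← mul_assoc, E.2.2.1, mul_assoc],
    by
      rw [show E.1 * E.1 - 1 = (E.1 - 1) * (E.1 + 1) by noncomm_ring]
      exact ((((Commute.refl E.1).add_right (Commute.one_right _)).sub_left
        (Commute.one_left _))).isNilpotent_mul_right E.2.2.2⟩
  have hinj : Function.Injective sq := by
    intro A B hAB
    have h := congrArg Subtype.val hAB
    change A.1 * A.1 = B.1 * B.1 at h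
    have h' : (A.1 + B.1) * (A.1 - B.1) = 0 := by
      rw [add_mul, mul_sub, mul_sub, h, (hcomm A B).eq]; abel
    have hu : IsUnit (A.1 + B.1) := by
      have e : A.1 + B.1 = ((A.1 - 1) + (B.1 - 1)) + (2 : F) • 1 := by rw [two_smul]; abel
      rw [e]
      refine (Commute.isNilpotent_add ?_ A.2.2.2 B.2.2.2).isUnit_add_right_of_commute ?_
        ((Commute.one_right _).smul_right (2 : F))
      · exact ((hcomm A B).sub_left (Commute.one_left _)).sub_right
          ((Commute.one_right _).sub_left (Commute.one_left _))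
      · rw [Matrix.isUnit_iff_isUnit_det, det_smul, det_one, mul_one]
        exact isUnit_iff_ne_zero.2 (pow_ne_zero _ h2)
    exact Subtype.ext (sub_eq_zero.1 (hu.mul_right_eq_zero.1 h'))
  haveI : Finite T := Subtype.finite
  obtain ⟨E, hE⟩ := (Finite.injective_iff_surjective.1 hinj) ⟨X, hXM, hX, hX1⟩
  refine ⟨E.1, E.2.1, E.2.2.1, ?_, congrArg Subtype.val hE⟩
  have := E.2.2.2.isUnit_one_add
  rwa [add_sub_cancel] at this

/-- Regular unipotent isometries are conjugate to `U₀` by a similitude of multiplier `1` or `ε`. -/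
theorem exists_similitude [Fintype F] (h2 : (2 : F) ≠ 0) {n : ℕ} (hn : 0 < n)
    {J U₀ U : Matrix (Fin n) (Fin n) F} (hJ : IsUnit J) (hJT : Jᵀ = -J)
    (h0 : U₀ᵀ * J * U₀ = J) (h0r : IsRegNil (U₀ - 1)) (h1 : Uᵀ * J * U = J)
    (h1r : IsRegNil (U - 1)) {ε : F} (hε : ¬ IsSquare ε) :
    ∃ g : Matrix (Fin n) (Fin n) F, IsUnit g ∧ g * U₀ = U * g ∧
      (gᵀ * J * g = J ∨ gᵀ * J * g = ε • J) := by
  obtain ⟨G, hG⟩ := exists_gl_conj h0r h1r
  set g₀ : Matrix (Fin n) (Fin n) F := (G : Matrix (Fin n) (Fin n) F)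
  have hg₀ : g₀ * U₀ = U * g₀ := by
    rw [mul_sub, sub_mul, mul_one, one_mul] at hG
    exact sub_left_injective hG
  obtain ⟨Ji, hJi⟩ : ∃ Ji, J * Ji = 1 := ⟨_, hJ.mul_val_inv⟩
  obtain ⟨h, hh⟩ : ∃ h, J * h = g₀ᵀ * J * g₀ :=
    ⟨Ji * (g₀ᵀ * J * g₀), by rw [← mul_assoc, hJi, one_mul]⟩
  have hhU : Commute h U₀ := by
    have e : U₀ᵀ * (J * h) * U₀ = J * h := by
      rw [hh, show U₀ᵀ * (g₀ᵀ * J * g₀) * U₀ = (g₀ * U₀)ᵀ * J * (g₀ * U₀) by
        rw [transpose_mul]; noncomm_ring, hg₀, transpose_mul]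
      rw [show g₀ᵀ * Uᵀ * J * (U * g₀) = g₀ᵀ * (Uᵀ * J * U) * g₀ by noncomm_ring, h1]
    have hu : IsUnit (U₀ᵀ * J) := IsUnit.of_mul_eq_one (U₀ * Ji) (by
      rw [← mul_assoc, h0, hJi])
    refine hu.mul_left_cancel ?_
    calc U₀ᵀ * J * (h * U₀) = J * h := by rw [← e]; noncomm_ring
      _ = U₀ᵀ * J * U₀ * h := by rw [h0]
      _ = U₀ᵀ * J * (U₀ * h) := by rw [mul_assoc]
  obtain ⟨M, hM, hS, hc⟩ := exists_cayley h2 h0 h0r
  have hhM : Commute h M := (hc h).1 hhU
  have hhJ : hᵀ * J = J * h := by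
    have e := congrArg Matrix.transpose hh
    simp only [transpose_mul, transpose_transpose, hJT, neg_mul, mul_neg, ← mul_assoc] at e
    rw [← hh] at e
    simpa using e
  obtain ⟨c, hc'⟩ := hM.commute_eq_sum hhM
  obtain ⟨P, hP, eP⟩ := poly_eq_const_add M hn c
  change h = poly M c at hc'
  set a := c ⟨0, hn⟩
  have hgu : IsUnit g₀ := G.isUnit
  have hhu : IsUnit h := by
    have hJh : IsUnit (J * h) := by
      rw [hh]
      exact (((Matrix.isUnit_transpose _).2 hgu).mul hJ).mul hgu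
    rw [Matrix.isUnit_iff_isUnit_det, det_mul] at hJh
    rw [Matrix.isUnit_iff_isUnit_det]
    exact (IsUnit.mul_iff.1 hJh).2
  have hnil : IsNilpotent (M * P) := hP.symm.isNilpotent_mul_right ⟨n, hM.1⟩
  have ha : a ≠ 0 := by
    intro ha
    rw [hc', eP, ha, zero_smul, zero_add] at hhu
    obtain ⟨k, hk⟩ := hnil
    have hz := hhu.pow k
    rw [hk] at hz
    haveI : NeZero n := ⟨by omega⟩
    exact not_isUnit_zero hz
  obtain ⟨E, hEM, hEJ, hEu, hE⟩ := exists_sqrt h2 hM (X := a⁻¹ • h) (J := J)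
    (hhM.smul_left _) (by rw [transpose_smul, smul_mul_assoc, hhJ, mul_smul_comm]) (by
      rw [hc', eP, smul_add, smul_smul, inv_mul_cancel₀ ha, one_smul, add_sub_cancel_left]
      exact hnil.smul _)
  have key : ∀ s ν : F, s ≠ 0 → a = ν * (s * s) →
      ∃ g, IsUnit g ∧ g * U₀ = U * g ∧ gᵀ * J * g = ν • J := by
    intro s ν hs hν
    obtain ⟨Ei, hEi⟩ : ∃ Ei, E * Ei = 1 := ⟨_, hEu.mul_val_inv⟩
    have hEi2 : Ei * E = 1 := mul_eq_one_comm.1 hEi
    refine ⟨g₀ * (s⁻¹ • Ei), hgu.mul (IsUnit.of_mul_eq_one (s • E) ?_), ?_, ?_⟩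
    · rw [smul_mul_smul_comm, inv_mul_cancel₀ hs, hEi2, one_smul]
    · have hEU : Commute E U₀ := (hc E).2 hEM
      have : Ei * U₀ = U₀ * Ei := by
        calc Ei * U₀ = Ei * U₀ * (E * Ei) := by rw [hEi, mul_one]
          _ = Ei * (E * U₀) * Ei := by rw [hEU.eq]; noncomm_ring
          _ = U₀ * Ei := by rw [← mul_assoc Ei, hEi2, one_mul]
      rw [mul_assoc, smul_mul_assoc, this, ← mul_smul_comm, ← mul_assoc, hg₀, mul_assoc]
    · have hJh : g₀ᵀ * J * g₀ = a • (Eᵀ * J * E) := by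
        rw [hEJ, mul_assoc J, hE, mul_smul_comm, smul_smul, mul_inv_cancel₀ ha, one_smul, hh]
      calc (g₀ * (s⁻¹ • Ei))ᵀ * J * (g₀ * (s⁻¹ • Ei))
          = (s⁻¹ * s⁻¹) • (Eiᵀ * (g₀ᵀ * J * g₀) * Ei) := by
            rw [transpose_mul, transpose_smul]
            simp only [smul_mul_assoc, mul_smul_comm, smul_smul, mul_assoc]
        _ = (s⁻¹ * s⁻¹ * a) • ((E * Ei)ᵀ * J * (E * Ei)) := by
            rw [hJh, transpose_mul]
            simp only [smul_mul_assoc, mul_smul_comm, smul_smul, mul_assoc]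
        _ = ν • J := by
            rw [hEi, transpose_one, one_mul, mul_one, hν]
            congr 1
            field_simp
  by_cases hsq : IsSquare a
  · obtain ⟨s, hs⟩ := hsq
    obtain ⟨g, g1, g2, g3⟩ := key s 1 (by rintro rfl; exact ha (by rw [hs]; ring)) (by rw [hs]; ring)
    exact ⟨g, g1, g2, Or.inl (by rw [g3, one_smul])⟩
  · classical
    have hε0 : ε ≠ 0 := fun h => hε (h ▸ IsSquare.zero)
    have hsq' : IsSquare (a * ε⁻¹) := by
      have h1 := quadraticChar_neg_one_iff_not_isSquare.mpr hsq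
      have h2' : ¬ IsSquare ε⁻¹ := fun ⟨t, ht⟩ => hε ⟨t⁻¹, by rw [← inv_inv ε, ht, _root_.mul_inv_rev]⟩
      have h3 := quadraticChar_neg_one_iff_not_isSquare.mpr h2'
      refine (quadraticChar_one_iff_isSquare (mul_ne_zero ha (inv_ne_zero hε0))).mp ?_
      rw [map_mul, h1, h3]; norm_num
    obtain ⟨s, hs⟩ := hsq'
    have haε : a = ε * (s * s) := by rw [← hs]; field_simp
    obtain ⟨g, g1, g2, g3⟩ := key s ε
      (by rintro rfl; exact ha (by rw [haε]; ring)) haε
    exact ⟨g, g1, g2, Or.inr g3⟩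

/-- A similitude with non-square multiplier does not centralise a regular unipotent. -/
theorem false_of_commute_similitude {n : ℕ} (h2 : (2 : F) ≠ 0) (hn : 0 < n)
    {J U₀ c : Matrix (Fin n) (Fin n) F} (hJ : IsUnit J) (h0 : U₀ᵀ * J * U₀ = J)
    (h0r : IsRegNil (U₀ - 1)) (hc : Commute c U₀) {ε : F} (hε : ¬ IsSquare ε)
    (hcJ : cᵀ * J * c = ε • J) : False := by
  obtain ⟨M, hM, hS, hcc⟩ := exists_cayley h2 h0 h0r
  obtain ⟨d, hd⟩ := hM.commute_eq_sum ((hcc c).1 hc)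
  change c = poly M d at hd
  subst hd
  exact hε ⟨_, (const_sq_of_preserves hn hM.1 hS hJ d hcJ).symm⟩

/-- `diag(s, 1)` has multiplier `s`. -/
theorem exists_similitude_diag : ∃ T : F → Matrix (Fin (2 * m)) (Fin (2 * m)) F,
    (∀ s t, T s * T t = T (s * t)) ∧ T 1 = 1 ∧ ∀ s, (T s)ᵀ * finJ m F * T s = s • finJ m F := by
  refine ⟨fun s => toFinMat m F (Matrix.fromBlocks (s • 1) 0 0 1), fun s t => ?_, ?_, fun s => ?_⟩
  · rw [← map_mul, Matrix.fromBlocks_multiply]
    simp [smul_smul, mul_comm]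
  · simp [Matrix.fromBlocks_one]
  · rw [finJ, ← toFinMat_transpose, ← map_mul, ← map_mul, ← map_smul]
    congr 1
    simp [Matrix.J, Matrix.fromBlocks_transpose, Matrix.fromBlocks_multiply, Matrix.fromBlocks_smul]

set_option maxHeartbeats 800000 in
/-- There are exactly two classes of regular unipotent elements. -/
theorem card_regular_classes [Fintype F] (h2 : (2 : F) ≠ 0) (hm : 1 ≤ m) :
    Nat.card {C : ConjClasses ↥(Matrix.symplecticGroup (Fin m) F) //
      ∃ u : Matrix.symplecticGroup (Fin m) F, ConjClasses.mk u = C ∧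
        ((u : Matrix (Fin m ⊕ Fin m) (Fin m ⊕ Fin m) F) - 1) ^ (2 * m) = 0 ∧
        ((u : Matrix (Fin m ⊕ Fin m) (Fin m ⊕ Fin m) F) - 1).rank = 2 * m - 1} = 2 := by
  classical
  obtain ⟨J, hJdef⟩ : ∃ J, J = finJ m F := ⟨_, rfl⟩
  have hJT : Jᵀ = -J := hJdef ▸ finJ_transpose
  set Ψ := toFinMat m F
  have hJu : IsUnit J := hJdef ▸ isUnit_finJ
  obtain ⟨ε, hε⟩ : ∃ ε : F, ¬ IsSquare ε := FiniteField.exists_nonsquare (fun h => h2 (by
    have := ringChar.Nat.cast_ringChar (R := F); rw [h] at this; exact_mod_cast this))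
  have hε0 : ε ≠ 0 := fun h => hε (h ▸ IsSquare.zero)
  obtain ⟨U₀, h0, h0r⟩ := exists_regular (F := F) h2 hm
  obtain ⟨T, hT, hT1, hTJ⟩ := exists_similitude_diag (F := F) (m := m)
  have hmem := fun X => mem_symplectic_iff (F := F) (m := m) X
  rw [← hJdef] at hTJ hmem h0
  have hTi : T ε * T ε⁻¹ = 1 := by rw [hT, mul_inv_cancel₀ hε0, hT1]
  have hTi2 : T ε⁻¹ * T ε = 1 := mul_eq_one_comm.1 hTi
  set U₁ := T ε * U₀ * T ε⁻¹
  have h1 : U₁ᵀ * J * U₁ = J := by
    calc U₁ᵀ * J * U₁ = (T ε⁻¹)ᵀ * (U₀ᵀ * ((T ε)ᵀ * J * T ε) * U₀) * T ε⁻¹ := by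
          simp only [U₁, transpose_mul, mul_assoc]
      _ = ε • ((T ε⁻¹)ᵀ * J * T ε⁻¹) := by
          rw [hTJ, mul_smul_comm, smul_mul_assoc, h0, mul_smul_comm, smul_mul_assoc]
      _ = J := by rw [hTJ, smul_smul, mul_inv_cancel₀ hε0, one_smul]
  have h1r : IsRegNil (U₁ - 1) := by
    have e : U₁ - 1 = T ε * (U₀ - 1) * T ε⁻¹ := by rw [mul_sub, sub_mul, mul_one, hTi]
    refine ⟨?_, ?_⟩
    · rw [e]
      have : ∀ k : ℕ, (T ε * (U₀ - 1) * T ε⁻¹) ^ k = T ε * (U₀ - 1) ^ k * T ε⁻¹ := by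
        intro k
        induction k with
        | zero => rw [pow_zero, pow_zero, mul_one, hTi]
        | succ k ih =>
          rw [pow_succ, ih, pow_succ]
          calc T ε * (U₀ - 1) ^ k * T ε⁻¹ * (T ε * (U₀ - 1) * T ε⁻¹)
              = T ε * (U₀ - 1) ^ k * (T ε⁻¹ * T ε) * (U₀ - 1) * T ε⁻¹ := by noncomm_ring
            _ = _ := by rw [hTi2, mul_one]; noncomm_ring
      rw [this, h0r.1, mul_zero, zero_mul]
    · rw [e, Matrix.rank_mul_eq_left_of_isUnit_det _ _
          ((Matrix.isUnit_iff_isUnit_det _).1 (IsUnit.of_mul_eq_one _ hTi2)),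
        Matrix.rank_mul_eq_right_of_isUnit_det _ _
          ((Matrix.isUnit_iff_isUnit_det _).1 (IsUnit.of_mul_eq_one _ hTi))]
      exact h0r.2
  have hmk : ∀ U : Matrix (Fin (2 * m)) (Fin (2 * m)) F, Uᵀ * J * U = J →
      ∃ u : Matrix.symplecticGroup (Fin m) F, Ψ u.1 = U := fun U hU =>
    ⟨⟨Ψ.symm U, (hmem _).2 (by rw [AlgEquiv.apply_symm_apply]; exact hU)⟩,
      Ψ.apply_symm_apply U⟩
  obtain ⟨u₀, hu₀⟩ := hmk U₀ h0
  obtain ⟨u₁, hu₁⟩ := hmk U₁ h1
  have hne : ConjClasses.mk u₀ ≠ ConjClasses.mk u₁ := by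
    intro h
    obtain ⟨x, hx⟩ := isConj_iff.1 (ConjClasses.mk_eq_mk_iff_isConj.1 h)
    have hx' : Ψ x.1 * U₀ = T ε * U₀ * T ε⁻¹ * Ψ x.1 := by
      have := congrArg (fun y : Matrix.symplecticGroup (Fin m) F => Ψ y.1) (mul_inv_eq_iff_eq_mul.1 hx)
      change Ψ (x.1 * u₀.1) = Ψ (u₁.1 * x.1) at this
      rwa [map_mul, map_mul, hu₀, hu₁] at this
    have hcomm : Commute (T ε⁻¹ * Ψ x.1) U₀ := by
      show _ * _ = _ * _
      rw [mul_assoc, hx']
      calc T ε⁻¹ * (T ε * U₀ * T ε⁻¹ * Ψ x.1) = (T ε⁻¹ * T ε) * U₀ * (T ε⁻¹ * Ψ x.1) := by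
            noncomm_ring
        _ = U₀ * (T ε⁻¹ * Ψ x.1) := by rw [hTi2, one_mul]
    refine false_of_commute_similitude h2 (by omega) hJu h0 h0r hcomm
      (ε := ε⁻¹) (fun ⟨t, ht⟩ => hε ⟨t⁻¹, by rw [← inv_inv ε, ht, _root_.mul_inv_rev]⟩) ?_
    calc (T ε⁻¹ * Ψ x.1)ᵀ * J * (T ε⁻¹ * Ψ x.1)
        = (Ψ x.1)ᵀ * ((T ε⁻¹)ᵀ * J * T ε⁻¹) * Ψ x.1 := by rw [transpose_mul]; noncomm_ring
      _ = ε⁻¹ • J := by
          rw [hTJ, mul_smul_comm, smul_mul_assoc, (hmem _).1 x.2]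
  have hcov : ∀ u : Matrix.symplecticGroup (Fin m) F, IsRegNil (Ψ u.1 - 1) →
      ConjClasses.mk u = ConjClasses.mk u₀ ∨ ConjClasses.mk u = ConjClasses.mk u₁ := by
    intro u hu
    obtain ⟨g, -, hgU, hgJ⟩ := exists_similitude h2 (by omega) hJu hJT h0 h0r
      ((hmem _).1 u.2) hu hε
    rcases hgJ with hgJ | hgJ
    · left
      obtain ⟨x, hx⟩ := hmk g hgJ
      refine ConjClasses.mk_eq_mk_iff_isConj.2 (IsConj.symm (isConj_iff.2 ⟨x, ?_⟩))
      refine mul_inv_eq_iff_eq_mul.2 (Subtype.ext (Ψ.injective ?_))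
      show Ψ (x.1 * u₀.1) = Ψ (u.1 * x.1)
      rw [map_mul, map_mul, hx, hu₀, hgU]
    · right
      obtain ⟨x, hx⟩ := hmk (g * T ε⁻¹) (by
        calc (g * T ε⁻¹)ᵀ * J * (g * T ε⁻¹) = (T ε⁻¹)ᵀ * (gᵀ * J * g) * T ε⁻¹ := by
              rw [transpose_mul]; noncomm_ring
          _ = J := by
              rw [hgJ, mul_smul_comm, smul_mul_assoc, hTJ, smul_smul, mul_inv_cancel₀ hε0, one_smul])
      refine ConjClasses.mk_eq_mk_iff_isConj.2 (IsConj.symm (isConj_iff.2 ⟨x, ?_⟩))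
      refine mul_inv_eq_iff_eq_mul.2 (Subtype.ext (Ψ.injective ?_))
      show Ψ (x.1 * u₁.1) = Ψ (u.1 * x.1)
      rw [map_mul, map_mul, hx, hu₁]
      calc g * T ε⁻¹ * (T ε * U₀ * T ε⁻¹) = g * (T ε⁻¹ * T ε) * U₀ * T ε⁻¹ := by noncomm_ring
        _ = Ψ u.1 * (g * T ε⁻¹) := by rw [hTi2, mul_one, hgU, mul_assoc]
  have hset : {C : ConjClasses ↥(Matrix.symplecticGroup (Fin m) F) |
      ∃ u : Matrix.symplecticGroup (Fin m) F, ConjClasses.mk u = C ∧
        ((u : Matrix (Fin m ⊕ Fin m) (Fin m ⊕ Fin m) F) - 1) ^ (2 * m) = 0 ∧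
        ((u : Matrix (Fin m ⊕ Fin m) (Fin m ⊕ Fin m) F) - 1).rank = 2 * m - 1} =
      {ConjClasses.mk u₀, ConjClasses.mk u₁} := by
    ext C
    simp only [Set.mem_setOf_eq, Set.mem_insert_iff, Set.mem_singleton_iff]
    constructor
    · rintro ⟨u, rfl, hu⟩
      exact hcov u ((isRegNil_iff _).2 hu)
    · rintro (rfl | rfl)
      · exact ⟨u₀, rfl, (isRegNil_iff _).1 (by rw [show toFinMat m F u₀.1 = U₀ from hu₀]; exact h0r)⟩
      · exact ⟨u₁, rfl, (isRegNil_iff _).1 (by rw [show toFinMat m F u₁.1 = U₁ from hu₁]; exact h1r)⟩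
  show Nat.card ↥({C : ConjClasses ↥(Matrix.symplecticGroup (Fin m) F) |
      ∃ u : Matrix.symplecticGroup (Fin m) F, ConjClasses.mk u = C ∧
        ((u : Matrix (Fin m ⊕ Fin m) (Fin m ⊕ Fin m) F) - 1) ^ (2 * m) = 0 ∧
        ((u : Matrix (Fin m ⊕ Fin m) (Fin m ⊕ Fin m) F) - 1).rank = 2 * m - 1}) = 2
  rw [Nat.card_coe_set_eq, hset, Set.ncard_pair hne]

end Cfsg.Agent.Forms59
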