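import Cfsg.Agent.Forms59.SelfDual
import Cfsg.Agent.Forms59.SemisimpleConj
import Cfsg.Agent.Lib.GLSemisimple.Commutant
import Cfsg.Agent.Lib.Forms.Sesq

/-!
Classes of elements of odd prime order, prime to the characteristic, of symplectic groups.
-/

set_option autoImplicit false
set_option linter.unusedSectionVars false

namespace Cfsg.Agent.Forms59.SelfDual

open Polynomial Matrix

variable {F : Type*} [Field F] [Fintype F]

local notation "σ" => RingHom.id F

theorem charpoly_inv_transpose {ι : Type*} [Fintype ι] [DecidableEq ι] (M : Matrix ι ι F) (hM : IsUnit M) :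
    ((Mᵀ)⁻¹).charpoly = GLSemi.dual σ M.charpoly := by
  rw [← GLSemi.charpoly_inv_transpose_map σ M hM, RingHom.coe_id, Matrix.map_id]

/-- A matrix preserving a nondegenerate form has self-dual characteristic polynomial. -/
theorem dual_charpoly_of_preserves {ι : Type*} [Fintype ι] [DecidableEq ι] {M B : Matrix ι ι F} (hB : IsUnit B)
    (hM : IsUnit M) (h : Mᵀ * B * M = B) : GLSemi.dual σ M.charpoly = M.charpoly := by
  obtain ⟨u, rfl⟩ := hB
  have hdet : IsUnit (Mᵀ).det := by rw [Matrix.det_transpose]; exact (Matrix.isUnit_iff_isUnit_det M).1 hM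
  have e : (u : Matrix ι ι F) * M * (u : Matrix ι ι F)⁻¹ = (Mᵀ)⁻¹ := by
    have h1 : (u : Matrix ι ι F) * M = (Mᵀ)⁻¹ * u := by
      calc (u : Matrix ι ι F) * M = (Mᵀ)⁻¹ * (Mᵀ * u * M) := by
            rw [← mul_assoc, ← mul_assoc, Matrix.nonsing_inv_mul _ hdet, one_mul]
        _ = _ := by rw [h]
    rw [h1, mul_assoc, Matrix.mul_nonsing_inv _ ((Matrix.isUnit_iff_isUnit_det _).1 u.isUnit), mul_one]
  rw [← charpoly_inv_transpose M hM, ← e, Matrix.charpoly_units_conj]

/-- An irreducible self-dual matrix preserves a nondegenerate alternating form. -/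
theorem exists_alt_invariant {d N : ℕ} (hN : (N : F) ≠ 0) {M : Matrix (Fin d) (Fin d) F} (hMN : M ^ N = 1)
    (hirr : Irreducible M.charpoly) (hd : GLSemi.dual σ M.charpoly = M.charpoly) (hd2 : 2 ≤ d) :
    ∃ B : Matrix (Fin d) (Fin d) F, (∀ x, x ⬝ᵥ B *ᵥ x = 0) ∧ IsUnit B ∧ Mᵀ * B * M = B := by
  have hN0 : N ≠ 0 := fun h => hN (by rw [h, Nat.cast_zero])
  have hu : IsUnit M := IsUnit.of_pow_eq_one hMN hN0
  have hdet : IsUnit (Mᵀ).det := by rw [Matrix.det_transpose]; exact (Matrix.isUnit_iff_isUnit_det M).1 hu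
  obtain ⟨G, hG, hGM⟩ := GLSemi.exists_unit_conj (A := M) (B := (Mᵀ)⁻¹) hN hMN
    (by rw [Matrix.inv_pow', ← Matrix.transpose_pow, hMN, Matrix.transpose_one, inv_one])
    (by rw [charpoly_inv_transpose M hu, hd])
  have hinv : Mᵀ * G * M = G := by
    rw [mul_assoc, hGM, ← mul_assoc, Matrix.mul_nonsing_inv _ hdet, one_mul]
  -- an invariant form is zero or nondegenerate
  have key : ∀ B : Matrix (Fin d) (Fin d) F, Mᵀ * B * M = B → B ≠ 0 → IsUnit B := by
    intro B hB hB0
    rw [← Matrix.mulVec_injective_iff_isUnit]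
    rw [← Matrix.coe_mulVecLin, injective_iff_map_eq_zero]
    intro v hv
    rw [Matrix.mulVecLin_apply] at hv
    by_contra hv0
    -- the kernel is invariant
    have hk : ∀ w, B *ᵥ w = 0 → B *ᵥ (M *ᵥ w) = 0 := by
      intro w hw
      have h1 : Mᵀ *ᵥ (B *ᵥ (M *ᵥ w)) = Mᵀ *ᵥ 0 := by
        rw [Matrix.mulVec_zero, Matrix.mulVec_mulVec, Matrix.mulVec_mulVec, hB, hw]
      exact Matrix.mulVec_injective_of_isUnit ((Matrix.isUnit_transpose M).2 hu) h1
    have hpoly : ∀ g : F[X], B *ᵥ (aeval M g *ᵥ v) = 0 := by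
      intro g
      induction g using Polynomial.induction_on with
      | C a => simp [Algebra.algebraMap_eq_smul_one, Matrix.smul_mulVec, Matrix.mulVec_smul, hv]
      | add p q hp hq => rw [map_add, Matrix.add_mulVec, Matrix.mulVec_add, hp, hq, add_zero]
      | monomial k a ih =>
        rw [pow_succ', ← mul_assoc, mul_comm (C a) X, mul_assoc, map_mul, aeval_X, ← Matrix.mulVec_mulVec]
        exact hk _ ih
    apply hB0
    -- the vectors g(M) v are all vectors
    let φ : F[X] →ₗ[F] (Fin d → F) :=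
      { toFun := fun g => aeval M g *ᵥ v
        map_add' := fun p q => by rw [map_add, Matrix.add_mulVec]
        map_smul' := fun c p => by rw [map_smul, Matrix.smul_mulVec, RingHom.id_apply] }
    have hli : LinearIndependent F fun j : Fin d => φ (X ^ (j : ℕ)) := by
      rw [Fintype.linearIndependent_iff]
      intro c hc
      set g : F[X] := ∑ j : Fin d, C (c j) * X ^ (j : ℕ)
      have hg : aeval M g *ᵥ v = 0 := by
        show φ g = 0
        rw [map_sum, ← hc]
        exact Finset.sum_congr rfl fun j _ => by rw [C_mul', map_smul]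
      by_contra hne
      push Not at hne
      obtain ⟨j, hj⟩ := hne
      have hg0 : g ≠ 0 := fun e => hj (by
        have h1 := congrArg (fun p => p.coeff (j : ℕ)) e
        simp only [g, finsetSum_coeff, coeff_C_mul, coeff_X_pow, coeff_zero] at h1
        rw [Finset.sum_eq_single j] at h1
        · simpa using h1
        · intro b _ hb
          rw [if_neg fun e => hb (Fin.ext e.symm), mul_zero]
        · simp)
      have hdeg : g.degree < d := by
        refine lt_of_le_of_lt (degree_sum_le _ _) ((Finset.sup_lt_iff (WithBot.bot_lt_coe d)).2 fun j _ => ?_)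
        exact lt_of_le_of_lt (degree_C_mul_X_pow_le _ _) (Nat.cast_lt.2 j.2)
      have hco : IsCoprime M.charpoly g := hirr.coprime_iff_not_dvd.2 fun hdvd => by
        have h1 := degree_le_of_dvd hdvd hg0
        rw [Matrix.charpoly_degree_eq_dim, Fintype.card_fin] at h1
        exact lt_irrefl _ (lt_of_le_of_lt h1 hdeg)
      obtain ⟨u1, w1, huw⟩ := hco
      have h1 := congrArg (fun p => aeval M p *ᵥ v) huw
      simp only [map_add, map_mul, Matrix.aeval_self_charpoly, mul_zero, zero_add, map_one, Matrix.one_mulVec,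
        ← Matrix.mulVec_mulVec, hg, Matrix.mulVec_zero] at h1
      exact hv0 h1.symm
    have hspan := hli.span_eq_top_of_card_eq_finrank' (by simp)
    refine Matrix.toLin'.injective (LinearMap.ext fun w => ?_)
    have hw : w ∈ Submodule.span F (Set.range fun j : Fin d => φ (X ^ (j : ℕ))) := hspan ▸ Submodule.mem_top
    rw [map_zero, LinearMap.zero_apply, Matrix.toLin'_apply]
    induction hw using Submodule.span_induction with
    | mem x hx => obtain ⟨j, rfl⟩ := hx; exact hpoly _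
    | zero => exact Matrix.mulVec_zero _
    | add x y _ _ hx hy => rw [Matrix.mulVec_add, hx, hy, add_zero]
    | smul c x _ hx => rw [Matrix.mulVec_smul, hx, smul_zero]
  have hT : ∀ Y : Matrix (Fin d) (Fin d) F, Mᵀ * Y * M = Y → Mᵀ * Yᵀ * M = Yᵀ := by
    intro Y hY
    conv_rhs => rw [← hY]
    simp only [Matrix.transpose_mul, Matrix.transpose_transpose, mul_assoc]
  have halt : ∀ Y : Matrix (Fin d) (Fin d) F, ∀ x, x ⬝ᵥ (Y - Yᵀ) *ᵥ x = 0 := by
    intro Y x
    rw [Matrix.sub_mulVec, dotProduct_sub, Matrix.dotProduct_mulVec x Yᵀ, Matrix.vecMul_transpose,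
      dotProduct_comm (Y *ᵥ x) x, sub_self]
  by_cases h1 : G - Gᵀ = 0
  · by_cases h2 : G * M - (G * M)ᵀ = 0
    · exfalso
      rw [sub_eq_zero] at h1 h2
      rw [Matrix.transpose_mul, ← h1] at h2
      have hMM : G * (M * M) = G := by rw [← mul_assoc, h2, hinv]
      have hM2 : M * M = 1 := hG.mul_left_cancel (by rw [hMM, mul_one])
      have hdvd : M.charpoly ∣ (X - C 1) * (X - C (-1)) := by
        have hmin : minpoly F M ∣ (X - C 1) * (X - C (-1)) := minpoly.dvd F M (by
          simp only [map_mul, map_sub, aeval_X, aeval_C, map_neg, map_one]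
          rw [sub_neg_eq_add, sub_mul, one_mul, mul_add, mul_one, hM2]
          abel)
        have hne : ¬ IsUnit (minpoly F M) := by
          haveI : Nonempty (Fin d) := ⟨⟨0, by omega⟩⟩
          exact minpoly.not_isUnit F M
        obtain ⟨c, hc⟩ := Matrix.minpoly_dvd_charpoly M
        rcases hirr.isUnit_or_isUnit hc with hu1 | hu1
        · exact absurd hu1 hne
        · rw [hc]; exact (IsUnit.mul_right_dvd hu1).2 hmin
      rcases hirr.prime.dvd_mul.1 hdvd with h3 | h3 <;>
      · have h4 := natDegree_le_of_dvd h3 (X_sub_C_ne_zero _)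
        rw [Matrix.charpoly_natDegree_eq_dim, Fintype.card_fin, natDegree_X_sub_C] at h4
        omega
    · refine ⟨_, halt (G * M), key _ ?_ h2, ?_⟩ <;>
      · have h3 : Mᵀ * (G * M) * M = G * M := by rw [← mul_assoc, hinv]
        rw [Matrix.mul_sub, Matrix.sub_mul, h3, hT _ h3]
  · refine ⟨_, halt G, key _ ?_ h1, ?_⟩ <;> rw [Matrix.mul_sub, Matrix.sub_mul, hinv, hT _ hinv]

/-- Characteristic polynomials of symplectic matrices of exponent `r`. -/
def Real (r : ℕ) (P : F[X]) : Prop :=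
  ∃ (m : ℕ) (M : Matrix (Fin m ⊕ Fin m) (Fin m ⊕ Fin m) F),
    M ∈ Matrix.symplecticGroup (Fin m) F ∧ M ^ r = 1 ∧ M.charpoly = P

theorem real_one (r : ℕ) : Real (F := F) r 1 :=
  ⟨0, 1, one_mem _, one_pow _, by rw [Matrix.charpoly_one]; simp⟩

theorem real_linear_sq (r : ℕ) : Real (F := F) r ((X - C 1) ^ 2) :=
  ⟨1, 1, one_mem _, one_pow _, by rw [Matrix.charpoly_one]; simp⟩

theorem real_mul {r : ℕ} {P Q : F[X]} (hP : Real r P) (hQ : Real r Q) : Real r (P * Q) := by
  obtain ⟨a, A, hA, hAr, rfl⟩ := hP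
  obtain ⟨b, B, hB, hBr, rfl⟩ := hQ
  let e : (Fin a ⊕ Fin a) ⊕ (Fin b ⊕ Fin b) ≃ Fin (a + b) ⊕ Fin (a + b) :=
    (Equiv.sumSumSumComm _ _ _ _).trans (Equiv.sumCongr finSumFinEquiv finSumFinEquiv)
  let φ := Matrix.reindexAlgEquiv F F e
  have hJ : φ (Matrix.fromBlocks (J (Fin a) F) 0 0 (J (Fin b) F)) = J (Fin (a + b)) F := by
    ext x y
    obtain ⟨x, rfl⟩ := e.surjective x
    obtain ⟨y, rfl⟩ := e.surjective y
    simp only [φ, Matrix.reindexAlgEquiv_apply, Matrix.reindex_apply, Matrix.submatrix_apply, Equiv.symm_apply_apply]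
    rcases x with (x | x) | (x | x) <;> rcases y with (y | y) | (y | y) <;>
      simp [e, J, Matrix.one_apply, Fin.ext_iff] <;> omega
  refine ⟨a + b, φ (Matrix.fromBlocks A 0 0 B), ?_, ?_, ?_⟩
  · rw [SymplecticGroup.mem_iff]
    have ht : (φ (Matrix.fromBlocks A 0 0 B))ᵀ = φ (Matrix.fromBlocks Aᵀ 0 0 Bᵀ) := by
      simp [φ, Matrix.transpose_reindex, Matrix.fromBlocks_transpose]
    rw [ht, ← hJ, ← map_mul, ← map_mul, Matrix.fromBlocks_multiply, Matrix.fromBlocks_multiply]
    simp only [Matrix.zero_mul, Matrix.mul_zero, add_zero, zero_add, SymplecticGroup.mem_iff.1 hA,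
      SymplecticGroup.mem_iff.1 hB]
  · have hb : ∀ k : ℕ, (Matrix.fromBlocks A 0 0 B) ^ k = Matrix.fromBlocks (A ^ k) 0 0 (B ^ k) := by
      intro k
      induction k with
      | zero => simp [Matrix.fromBlocks_one]
      | succ k ih => simp [pow_succ, ih, Matrix.fromBlocks_multiply]
    rw [← map_pow, hb, hAr, hBr, Matrix.fromBlocks_one, map_one]
  · show (Matrix.reindex e e (Matrix.fromBlocks A 0 0 B)).charpoly = _
    rw [Matrix.charpoly_reindex, Matrix.charpoly_fromBlocks_zero₁₂]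

theorem real_pow {r : ℕ} {P : F[X]} (hP : Real r P) (k : ℕ) : Real r (P ^ k) := by
  induction k with
  | zero => simpa using real_one r
  | succ k ih => rw [pow_succ]; exact real_mul ih hP

variable {r i : ℕ} [Fact r.Prime]

theorem real_hyperbolic {m : ℕ} {Q : F[X]} (hQ : Q ∈ GLSemi.AdmPoly F m r) :
    Real r (Q * GLSemi.dual σ Q) := by
  obtain ⟨A, hA, hAr⟩ := GLSemi.exists_matrix_pow_eq_one r m Q hQ.1 hQ.2.1 hQ.2.2
  have hu : IsUnit A := IsUnit.of_pow_eq_one hAr (Fact.out : r.Prime).ne_zero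
  have hd : IsUnit (Aᵀ).det := by rw [Matrix.det_transpose]; exact (Matrix.isUnit_iff_isUnit_det A).1 hu
  refine ⟨m, Matrix.fromBlocks A 0 0 (Aᵀ)⁻¹, ?_, ?_, ?_⟩
  · rw [SymplecticGroup.mem_iff, J, Matrix.fromBlocks_transpose, Matrix.fromBlocks_multiply,
      Matrix.fromBlocks_multiply]
    have h1 : A * ((Aᵀ)⁻¹)ᵀ = 1 := by
      rw [Matrix.transpose_nonsing_inv, Matrix.transpose_transpose,
        Matrix.mul_nonsing_inv _ ((Matrix.isUnit_iff_isUnit_det A).1 hu)]
    simp [h1, Matrix.nonsing_inv_mul _ hd]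
  · have hb : ∀ k : ℕ, (Matrix.fromBlocks A 0 0 (Aᵀ)⁻¹) ^ k = Matrix.fromBlocks (A ^ k) 0 0 ((Aᵀ)⁻¹ ^ k) := by
      intro k
      induction k with
      | zero => simp [Matrix.fromBlocks_one]
      | succ k ih => simp [pow_succ, ih, Matrix.fromBlocks_multiply]
    rw [hb, hAr, Matrix.inv_pow', ← Matrix.transpose_pow, hAr, Matrix.transpose_one, inv_one, Matrix.fromBlocks_one]
  · rw [Matrix.charpoly_fromBlocks_zero₁₂, charpoly_inv_transpose A hu, hA]

theorem real_elliptic (h : Good F r i) (hi : Even i) {g : F[X]} (hg : g ∈ factors F r) : Real r g := by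
  obtain ⟨hm, hirr, hdeg, -, -⟩ := factor_spec h hg
  obtain ⟨M, hM, hMr⟩ := GLSemi.exists_matrix_pow_eq_one r i g hm hdeg fun f hf hfd =>
    hfd.trans (dvd_X_pow_sub_one h hg)
  have hi0 := i_pos h
  have hi2 : 2 ≤ i := by obtain ⟨j, hj⟩ := hi; omega
  obtain ⟨B, halt, hBu, hMB⟩ := exists_alt_invariant h.cast_ne hMr (hM ▸ hirr)
    (by rw [hM]; exact (dual_eq_iff h hg).2 hi) hi2
  let T : LinearMap.BilinForm F (Fin i → F) := Matrix.toBilin' B
  have hT : T.IsAlt := fun x => by rw [Matrix.toBilin'_apply']; exact halt x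
  obtain ⟨n, k, b, hef, hee, hff, hrad⟩ := Forms.exists_symplectic_basis_with_radical T hT
  rcases k with _ | k
  swap
  · exfalso
    have h1 : T.Nondegenerate := by
      rw [Matrix.nondegenerate_toBilin'_iff, Matrix.nondegenerate_iff_det_ne_zero]
      exact ((Matrix.isUnit_iff_isUnit_det B).1 hBu).ne_zero
    exact b.ne_zero _ (h1.1 _ fun v => hrad 0 v)
  let b' := b.reindex (Equiv.sumEmpty (Fin n ⊕ Fin n) (Fin 0))
  let N : Matrix (Fin n ⊕ Fin n) (Fin n ⊕ Fin n) F := LinearMap.toMatrixAlgEquiv b' (Matrix.toLin' M)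
  have hJ : LinearMap.BilinForm.toMatrix b' T = -J (Fin n) F := by
    ext (x | x) (y | y)
    · simp [J, b', hee, LinearMap.BilinForm.toMatrix_apply]
    · simp [J, b', hef, LinearMap.BilinForm.toMatrix_apply, Matrix.one_apply]
    · simp only [J, b', LinearMap.BilinForm.toMatrix_apply, Module.Basis.coe_reindex, Function.comp_apply,
        Equiv.sumEmpty_symm_apply]
      rw [← LinearMap.IsAlt.neg hT, hef]
      simp [Matrix.one_apply, eq_comm]
    · simp [J, b', hff, LinearMap.BilinForm.toMatrix_apply]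
  have hpres : T.comp (Matrix.toLin' M) (Matrix.toLin' M) = T := by
    rw [Matrix.toBilin'_comp, hMB]
  refine ⟨n, N, ?_, ?_, ?_⟩
  · rw [SymplecticGroup.mem_iff']
    have h1 := congrArg (LinearMap.BilinForm.toMatrix b') hpres
    rw [LinearMap.BilinForm.toMatrix_comp (b := b'), hJ] at h1
    have h2 : Nᵀ * (-J (Fin n) F) * N = -J (Fin n) F := h1
    rw [Matrix.mul_neg, Matrix.neg_mul, neg_inj] at h2
    exact h2
  · show (LinearMap.toMatrixAlgEquiv b' (Matrix.toLin' M)) ^ r = 1
    rw [← map_pow, ← Matrix.toLin'_pow, hMr, Matrix.toLin'_one]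
    exact map_one (LinearMap.toMatrixAlgEquiv b')
  · show (LinearMap.toMatrix b' b' (Matrix.toLin' M)).charpoly = g
    rw [LinearMap.charpoly_toMatrix, Matrix.charpoly_toLin', hM]

theorem real_of_tup (h : Good F r i) {m : ℕ} {a : ↥(factors F r) → ℕ} (ha : a ∈ Tup h (2 * m)) :
    Real r (poly (2 * m) i a) := by
  classical
  obtain ⟨hda, hle⟩ := ha
  rcases Nat.even_or_odd i with hi | hi
  · have hc : Even (2 * m - i * ∑ g, a g) := by
      rw [Nat.even_sub hle]
      exact iff_of_true (even_two_mul m) (hi.mul_right _)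
    obtain ⟨c, hc⟩ := hc
    rw [poly, hc, ← two_mul, pow_mul]
    refine real_mul (real_pow (real_linear_sq r) c) ?_
    exact Finset.prod_induction _ (Real r) (fun x y => real_mul) (real_one r)
      fun g _ => real_pow (real_elliptic h hi g.2) _
  · obtain ⟨-, e, he⟩ := exists_reps_equiv (dualF h) (dualF_dualF h) (dualF_free h hi)
    let b : ↥(factors F r) → ℕ := fun g => if g ∈ reps (dualF h) then a g else 0
    have hb : ∀ g, b g + b (dualF h g) = a g := by
      intro g
      have hne : Fintype.equivFin _ g ≠ Fintype.equivFin _ (dualF h g) := fun e' =>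
        dualF_free h hi g ((Fintype.equivFin _).injective e').symm
      simp only [b, reps, Finset.mem_filter, Finset.mem_univ, true_and, dualF_dualF, hda]
      rcases lt_or_gt_of_ne hne with h1 | h1
      · rw [if_pos h1, if_neg h1.not_gt, add_zero]
      · rw [if_neg h1.not_gt, if_pos h1, zero_add]
    let ed : ↥(factors F r) ≃ ↥(factors F r) := Function.Involutive.toPerm _ (dualF_dualF h)
    have hsum : ∑ g, b (dualF h g) = ∑ g, b g := Equiv.sum_comp ed b
    have hsum2 : ∑ g, a g = 2 * ∑ g, b g := by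
      rw [← Finset.sum_congr rfl fun g _ => hb g, Finset.sum_add_distrib, hsum, two_mul]
    rw [hsum2, mul_left_comm] at hle
    have hbm : i * ∑ g, b g ≤ m := by omega
    have h1 := real_hyperbolic (poly_mem h hbm)
    rw [dual_poly h m b] at h1
    convert h1 using 1
    simp only [poly, hsum, hsum2]
    rw [mul_mul_mul_comm, ← pow_add, ← Finset.prod_mul_distrib]
    congr 1
    · congr 1
      rw [mul_left_comm]
      omega
    · exact Finset.prod_congr rfl fun g _ => by rw [← pow_add, hb]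

variable {m : ℕ}

theorem isConj_of_charpoly {N : ℕ} (hN : (N : F) ≠ 0) {x y : ↥(Matrix.symplecticGroup (Fin m) F)}
    (hx : (x : Matrix (Fin m ⊕ Fin m) (Fin m ⊕ Fin m) F) ^ N = 1)
    (hy : (y : Matrix (Fin m ⊕ Fin m) (Fin m ⊕ Fin m) F) ^ N = 1)
    (hc : (x : Matrix (Fin m ⊕ Fin m) (Fin m ⊕ Fin m) F).charpoly =
      (y : Matrix (Fin m ⊕ Fin m) (Fin m ⊕ Fin m) F).charpoly) : IsConj x y := by
  obtain ⟨G, hG, hGxy⟩ := GLSemi.exists_unit_conj hN hx hy hc
  let T : LinearMap.BilinForm F (Fin m ⊕ Fin m → F) := Matrix.toBilin' (J (Fin m) F)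
  have hT : T.IsAlt := fun u => by
    rw [Matrix.toBilin'_apply', J, Matrix.fromBlocks_mulVec]
    simp only [Matrix.zero_mulVec, Matrix.neg_mulVec, Matrix.one_mulVec, add_zero, zero_add]
    rw [dotProduct, Fintype.sum_sum_type]
    simp [mul_comm]
  have hTn : T.Nondegenerate := by
    rw [Matrix.nondegenerate_toBilin'_iff, Matrix.nondegenerate_iff_det_ne_zero]
    intro h0
    have := J_det_mul_J_det (Fin m) F
    rw [h0, mul_zero] at this
    exact zero_ne_one this
  have hpres : ∀ z : ↥(Matrix.symplecticGroup (Fin m) F), ∀ u v,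
      T (Matrix.toLin' z.1 u) (Matrix.toLin' z.1 v) = T u v := by
    intro z u v
    rw [← LinearMap.BilinForm.comp_apply, Matrix.toBilin'_comp, SymplecticGroup.mem_iff'.1 z.2]
  obtain ⟨H, hH, hHxy⟩ := symp_conj T hTn hT (Matrix.toLin' x.1) (Matrix.toLin' y.1)
    (Matrix.toLin' G)
    (by
      have := Matrix.mulVec_injective_of_isUnit hG
      exact ⟨this, LinearMap.injective_iff_surjective.1 this⟩)
    (by
      show (Matrix.toLin' G).comp (Matrix.toLin' _) = (Matrix.toLin' _).comp (Matrix.toLin' G)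
      rw [← Matrix.toLin'_mul, ← Matrix.toLin'_mul, hGxy])
    (hpres x) (hpres y) (N := N)
    (by rw [← Matrix.toLin'_pow, hx, Matrix.toLin'_one]; rfl)
    (by rw [← Matrix.toLin'_pow, hy, Matrix.toLin'_one]; rfl) hN
  have hmem : LinearMap.toMatrix' (H : (Fin m ⊕ Fin m → F) →ₗ[F] _) ∈ Matrix.symplecticGroup (Fin m) F := by
    rw [SymplecticGroup.mem_iff']
    apply Matrix.toBilin'.injective
    rw [← Matrix.toBilin'_comp, Matrix.toLin'_toMatrix']
    exact LinearMap.ext fun u => LinearMap.ext fun v => hH u v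
  refine isConj_iff.2 ⟨⟨_, hmem⟩, mul_inv_eq_iff_eq_mul.2 (Subtype.ext (Matrix.toLin'.injective ?_))⟩
  show Matrix.toLin' (LinearMap.toMatrix' _ * x.1) = Matrix.toLin' (y.1 * LinearMap.toMatrix' _)
  rw [Matrix.toLin'_mul, Matrix.toLin'_mul, Matrix.toLin'_toMatrix']
  exact LinearMap.ext hHxy

theorem card_classes_le_one (h : Good F r i) :
    Nat.card {C : ConjClasses ↥(Matrix.symplecticGroup (Fin m) F) //
      ∃ g, ConjClasses.mk g = C ∧ g ^ r = 1} = Nat.card ↥(Tup h (2 * m)) := by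
  classical
  have key : ∀ g : ↥(Matrix.symplecticGroup (Fin m) F), g ^ r = 1 →
      ∃ a ∈ Tup h (2 * m), g.1.charpoly = poly (2 * m) i a := by
    intro g hg
    have hgr : (g : Matrix (Fin m ⊕ Fin m) (Fin m ⊕ Fin m) F) ^ r = 1 := by
      rw [← SubmonoidClass.coe_pow, hg]; rfl
    have hu : IsUnit (g : Matrix (Fin m ⊕ Fin m) (Fin m ⊕ Fin m) F) :=
      IsUnit.of_pow_eq_one hgr (Fact.out : r.Prime).ne_zero
    have hd := dual_charpoly_of_preserves (B := J (Fin m) F)
      ((Matrix.isUnit_iff_isUnit_det _).2 (Matrix.isUnit_det_J _ _)) hu (SymplecticGroup.mem_iff'.1 g.2)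
    let e : Fin m ⊕ Fin m ≃ Fin (2 * m) := finSumFinEquiv.trans (finCongr (two_mul m).symm)
    have hadm : g.1.charpoly ∈ GLSemi.AdmPoly F (2 * m) r := by
      refine ⟨Matrix.charpoly_monic _, by rw [Matrix.charpoly_natDegree_eq_dim]; simp [two_mul], fun f hf hfd => ?_⟩
      refine GLSemi.factor_dvd_of_pow_eq_one (M := Matrix.reindexAlgEquiv F F e g.1) ?_ hf ?_
      · rw [← map_pow, hgr, map_one]
      · rwa [Matrix.reindexAlgEquiv_apply, Matrix.charpoly_reindex]
    obtain ⟨a, ha, he⟩ := exists_poly h hadm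
    exact ⟨a, mem_tup_of_dual h ha (by rw [← he, hd]), he⟩
  choose φ hφ1 hφ2 using key
  refine Nat.card_congr (Equiv.ofBijective (fun C => ⟨φ C.2.choose C.2.choose_spec.2, hφ1 _ _⟩) ⟨?_, ?_⟩)
  · intro C D e
    have e' : φ C.2.choose C.2.choose_spec.2 = φ D.2.choose D.2.choose_spec.2 := congrArg Subtype.val e
    apply Subtype.ext
    rw [← C.2.choose_spec.1, ← D.2.choose_spec.1, ConjClasses.mk_eq_mk_iff_isConj]
    refine isConj_of_charpoly h.cast_ne ?_ ?_ ?_
    · rw [← SubmonoidClass.coe_pow, C.2.choose_spec.2]; rfl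
    · rw [← SubmonoidClass.coe_pow, D.2.choose_spec.2]; rfl
    · rw [hφ2 _ C.2.choose_spec.2, hφ2 _ D.2.choose_spec.2, e']
  · rintro ⟨a, ha⟩
    obtain ⟨m', M, hM, hMr, hMc⟩ := real_of_tup h ha
    obtain rfl : m' = m := by
      have h1 := congrArg natDegree hMc
      rw [Matrix.charpoly_natDegree_eq_dim, Fintype.card_sum, Fintype.card_fin, (poly_mem h ha.2).2.1] at h1
      omega
    let g : ↥(Matrix.symplecticGroup (Fin m') F) := ⟨M, hM⟩
    have hg : g ^ r = 1 := Subtype.ext (by rw [SubmonoidClass.coe_pow]; exact hMr)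
    let C : {C : ConjClasses ↥(Matrix.symplecticGroup (Fin m') F) // ∃ g, ConjClasses.mk g = C ∧ g ^ r = 1} :=
      ⟨ConjClasses.mk g, g, rfl, hg⟩
    refine ⟨C, Subtype.ext (poly_injective h (2 * m') ?_)⟩
    rw [← hφ2 _ C.2.choose_spec.2]
    obtain ⟨c, hc⟩ := isConj_iff.1 (ConjClasses.mk_eq_mk_iff_isConj.1 C.2.choose_spec.1)
    rw [← hMc]
    have h2 : c.1 * C.2.choose.1 * (c⁻¹ : ↥(Matrix.symplecticGroup (Fin m') F)).1 = M :=
      congrArg Subtype.val hc
    have hcu : IsUnit (c : Matrix (Fin m' ⊕ Fin m') (Fin m' ⊕ Fin m') F) :=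
      (Units.map (Matrix.symplecticGroup (Fin m') F).subtype (toUnits c)).isUnit
    obtain ⟨u, hu⟩ := hcu
    have hinv : (c⁻¹ : ↥(Matrix.symplecticGroup (Fin m') F)).1 = c.1⁻¹ := by
      refine (Matrix.inv_eq_right_inv ?_).symm
      exact congrArg Subtype.val (mul_inv_cancel c)
    rw [← h2, hinv, ← hu, Matrix.charpoly_units_conj]

end Cfsg.Agent.Forms59.SelfDual
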