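import Cfsg.Agent.Forms59.Elliptic2
import Cfsg.Prelude.Def_LieClassical

set_option autoImplicit false

namespace Cfsg.Agent.Forms59

open Matrix

theorem exists_embedding_of_card_sq (K F : Type*) [Field K] [Fintype K] [Field F] [Fintype F]
    {q : ℕ} (hK : Fintype.card K = q ^ 2) (hF : Fintype.card F = q) : Nonempty (F →+* K) := by
  obtain ⟨p, hp⟩ := CharP.exists F
  haveI : Fact p.Prime := ⟨CharP.char_is_prime F p⟩
  obtain ⟨f, -, hf⟩ := FiniteField.card F p
  haveI : CharP K p := charP_of_card_eq_prime_pow (f := (f : ℕ) * 2) (by rw [hK, ← hF, hf, pow_mul])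
  letI : Algebra (ZMod p) F := ZMod.algebra F p
  letI : Algebra (ZMod p) K := ZMod.algebra K p
  have h1 := Module.card_eq_pow_finrank (K := ZMod p) (V := F)
  have h2 := Module.card_eq_pow_finrank (K := ZMod p) (V := K)
  rw [ZMod.card] at h1 h2
  have : Module.finrank (ZMod p) K = Module.finrank (ZMod p) F * 2 := by
    refine Nat.pow_right_injective (Fact.out (p := p.Prime)).two_le ?_
    show p ^ _ = p ^ _
    rw [← h2, pow_mul, ← h1, hK, hF]
  obtain ⟨g⟩ := FiniteField.nonempty_algHom_of_finrank_dvd (F := ZMod p) (K := F) (L := K)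
    ⟨2, this⟩
  exact ⟨g.toRingHom⟩

variable {K F : Type*} [Field K] [Fintype K] [Field F] [Fintype F] [Algebra F K] {q : ℕ}

section

variable (hK : Fintype.card K = q ^ 2) (hF : Fintype.card F = q)

include hK hF

theorem finrank_two : Module.finrank F K = 2 := by
  have h := Module.card_eq_pow_finrank (K := F) (V := K)
  rw [hK, hF] at h
  exact (Nat.pow_right_injective (hF ▸ Fintype.one_lt_card) h).symm

theorem algebraMap_norm_eq (x : K) : algebraMap F K (Algebra.norm F x) = x ^ (q + 1) := by
  rw [FiniteField.algebraMap_norm_eq_pow, Nat.card_eq_fintype_card, Nat.card_eq_fintype_card, hK, hF]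
  congr 1
  have h1 : 1 < q := hF ▸ Fintype.one_lt_card
  rw [show q ^ 2 - 1 = (q + 1) * (q - 1) by
    obtain ⟨r, rfl⟩ : ∃ r, q = r + 1 := ⟨q - 1, by omega⟩
    rw [Nat.add_sub_cancel]; apply Nat.sub_eq_of_eq_add; ring]
  rw [Nat.mul_div_cancel _ (by omega)]

theorem algebraMap_trace_eq (x : K) : algebraMap F K (Algebra.trace F K x) = x + x ^ q := by
  rw [FiniteField.algebraMap_trace_eq_sum_pow, finrank_two hK hF, Finset.sum_range_succ,
    Finset.sum_range_one, Nat.card_eq_fintype_card, hF]
  simp

theorem add_pow_q (x y : K) : (x + y) ^ q = x ^ q + y ^ q := by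
  obtain ⟨p, hp⟩ := CharP.exists F
  haveI : Fact p.Prime := ⟨CharP.char_is_prime F p⟩
  haveI : CharP K p := charP_of_injective_algebraMap (algebraMap F K).injective p
  obtain ⟨f, -, hf⟩ := FiniteField.card F p
  rw [← hF, hf]
  exact add_pow_char_pow x y p f

theorem pow_q_pow_q (x : K) : (x ^ q) ^ q = x := by
  rw [← pow_mul, ← pow_two, ← hK, FiniteField.pow_card]

theorem algebraMap_pow_q (c : F) : (algebraMap F K c) ^ q = algebraMap F K c := by
  rw [← map_pow, ← hF, FiniteField.pow_card]

end

/-- The Hermitian form as a quadratic form over the subfield. -/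
noncomputable def normQF (ι : Type*) [Fintype ι] (hK : Fintype.card K = q ^ 2)
    (hF : Fintype.card F = q) : QuadraticForm F (ι → K) :=
  QuadraticMap.ofPolar (fun v => ∑ i, Algebra.norm F (v i))
    (fun c v => by
      apply (algebraMap F K).injective
      simp only [map_sum, smul_eq_mul, map_mul, algebraMap_norm_eq hK hF, Finset.mul_sum,
        Pi.smul_apply, Algebra.smul_def, mul_pow]
      refine Finset.sum_congr rfl fun i _ => ?_
      rw [pow_succ, algebraMap_pow_q hK hF])
    (fun u u' v => by
      apply (algebraMap F K).injective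
      simp only [QuadraticMap.polar, map_sub, map_add, map_sum, algebraMap_norm_eq hK hF, pow_succ,
        Pi.add_apply, add_pow_q hK hF, add_mul, mul_add, Finset.sum_add_distrib]
      ring)
    (fun c u v => by
      apply (algebraMap F K).injective
      simp only [QuadraticMap.polar, Pi.add_apply, Pi.smul_apply]
      simp only [map_sub, map_sum, map_mul, algebraMap_norm_eq hK hF, pow_succ,
        Algebra.smul_def, mul_pow, algebraMap_pow_q hK hF,
        add_pow_q hK hF, add_mul, mul_add, Finset.sum_add_distrib, mul_sub, Finset.mul_sum]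
      simp only [Algebra.algebraMap_self, RingHom.id_apply]
      have : ∀ i, algebraMap F K c * (v i ^ q * u i) + algebraMap F K c * (u i ^ q * v i) =
        algebraMap F K c * (u i ^ q * v i) + algebraMap F K c * (v i ^ q * u i) := fun i => by ring
      simp only [← Finset.sum_add_distrib, ← Finset.sum_sub_distrib]
      refine Finset.sum_congr rfl fun i _ => ?_
      ring)

theorem normQF_apply {ι : Type*} [Fintype ι] (hK : Fintype.card K = q ^ 2)
    (hF : Fintype.card F = q) (v : ι → K) :
    normQF ι hK hF v = ∑ i, Algebra.norm F (v i) := rfl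

theorem normQF_nondegenerate (ι : Type*) [Fintype ι] (hK : Fintype.card K = q ^ 2)
    (hF : Fintype.card F = q) : (QuadraticMap.polarBilin (normQF ι hK hF)).Nondegenerate := by
  classical
  have key : ∀ u : ι → K, (∀ v, QuadraticMap.polar ⇑(normQF ι hK hF) u v = 0) → u = 0 := by
    intro u hu
    funext i
    by_contra hne
    have hq : q ≠ 0 := (hF ▸ Fintype.card_pos (α := F) : 0 < q).ne'
    -- the trace is not identically zero
    obtain ⟨y, hy⟩ := Algebra.trace_surjective F K 1
    have h := congr_arg (algebraMap F K) (hu (Pi.single i ((y / u i) ^ q)))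
    have hy' : y + y ^ q = 1 := by rw [← algebraMap_trace_eq hK hF, hy, map_one]
    simp only [QuadraticMap.polar, normQF_apply, map_sub, map_sum, algebraMap_norm_eq hK hF,
      ← Finset.sum_sub_distrib, map_zero] at h
    rw [Finset.sum_eq_single i] at h
    · simp only [Pi.add_apply, Pi.single_eq_same, pow_succ, add_pow_q hK hF, pow_q_pow_q hK hF] at h
      apply one_ne_zero (α := K)
      rw [← hy', ← div_mul_cancel₀ y hne, mul_pow]
      linear_combination h
    · intro j _ hji
      simp [Pi.single_eq_of_ne hji, zero_pow (Nat.succ_ne_zero q)]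
    · simp
  exact ⟨fun u hu => key u hu, fun v hv => key v fun u => by rw [QuadraticMap.polar_comm]; exact hv u⟩

theorem exists_neg_one_norm (hK : Fintype.card K = q ^ 2) (hF : Fintype.card F = q) :
    ∃ α : K, α ^ (q + 1) = -1 := by
  obtain ⟨α, hα⟩ := FiniteField.norm_surjective F K (-1 : F)
  exact ⟨α, by rw [← algebraMap_norm_eq hK hF, hα, map_neg, map_one]⟩

theorem finrank_pi_K (hK : Fintype.card K = q ^ 2) (hF : Fintype.card F = q) (ι : Type*) [Fintype ι] :
    Module.finrank F (ι → K) = 2 * Fintype.card ι := by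
  rw [Module.finrank_pi_fintype]
  simp [finrank_two hK hF, mul_comm]

theorem exists_totally_singular_even (hK : Fintype.card K = q ^ 2) (hF : Fintype.card F = q) (k : ℕ) :
    ∃ U : Submodule F (Fin (k + k) → K), Module.finrank F U = k + k ∧
      ∀ u ∈ U, normQF (Fin (k + k)) hK hF u = 0 := by
  obtain ⟨α, hα⟩ := exists_neg_one_norm hK hF
  let f : (Fin k → K) →ₗ[F] (Fin (k + k) → K) :=
    { toFun := fun u => Sum.elim u (fun i => α * u i) ∘ finSumFinEquiv.symm
      map_add' := fun u v => by
        funext j; rcases h : finSumFinEquiv.symm j with i | i <;> simp [h, mul_add]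
      map_smul' := fun c u => by
        funext j; rcases h : finSumFinEquiv.symm j with i | i <;> simp [h] }
  have hf : Function.Injective f := fun u v h => funext fun i => by
    simpa [f] using congr_fun h (finSumFinEquiv (Sum.inl i))
  refine ⟨LinearMap.range f, ?_, ?_⟩
  · rw [LinearMap.finrank_range_of_inj hf, finrank_pi_K hK hF, Fintype.card_fin, two_mul]
  · rintro _ ⟨u, rfl⟩
    rw [normQF_apply, ← finSumFinEquiv.sum_comp, Fintype.sum_sum_type]
    simp only [f, LinearMap.coe_mk, AddHom.coe_mk, Function.comp_apply, Equiv.symm_apply_apply,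
      Sum.elim_inl, Sum.elim_inr, map_mul]
    rw [← Finset.sum_add_distrib]
    refine Finset.sum_eq_zero fun i _ => ?_
    apply (algebraMap F K).injective
    rw [map_zero, map_add, map_mul, algebraMap_norm_eq hK hF, algebraMap_norm_eq hK hF, hα]
    ring

/-- For even `m` the norm form is hyperbolic. -/
theorem normQF_plus (hK : Fintype.card K = q ^ 2) (hF : Fintype.card F = q) (m : ℕ) (hm : Even m) :
    ∃ e : (Fin m → K) ≃ₗ[F] (Fin m ⊕ Fin m → F),
      ∀ v, normQF (Fin m) hK hF v = Cfsg.quadFormPlus m F (e v) := by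
  have hd : Module.finrank F (Fin m → K) = 2 * m := by
    rw [finrank_pi_K hK hF, Fintype.card_fin]
  rcases exists_normal_form _ (normQF_nondegenerate (Fin m) hK hF) with
    ⟨j, hj, e, he⟩ | ⟨j, hj, -⟩ | ⟨j, hj, ζ, e, hζ, he⟩
  · obtain rfl : j = m := by omega
    exact ⟨e, he⟩
  · omega
  · exfalso
    obtain ⟨k, rfl⟩ := hm
    obtain ⟨U, hU, hU0⟩ := exists_totally_singular_even hK hF k
    have := finrank_le_of_totally_singular_minus j 1 ζ (anisotropic_of_no_root ζ hζ)
      (U.map e.toLinearMap) (by
        rintro _ ⟨u, hu, rfl⟩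
        rw [LinearEquiv.coe_coe, ← he]
        exact hU0 u hu)
    rw [LinearEquiv.finrank_map_eq, hU] at this
    omega

theorem norm_binary_elliptic (hK : Fintype.card K = q ^ 2) (hF : Fintype.card F = q) :
    ∃ (ζ : F) (e : K ≃ₗ[F] (Fin 2 → F)), (∀ t : F, t ^ 2 + t + ζ ≠ 0) ∧
      ∀ x : K, Algebra.norm F x = e x 0 ^ 2 + 1 * e x 0 * e x 1 + ζ * e x 1 ^ 2 := by
  let u : (Fin 1 → K) ≃ₗ[F] K := LinearEquiv.funUnique (Fin 1) F K
  have hu : ∀ v, normQF (Fin 1) hK hF v = Algebra.norm F (u v) := fun v => by
    simp [normQF_apply, u]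
  rcases exists_normal_form _ (normQF_nondegenerate (Fin 1) hK hF) with
    ⟨j, hj, e, he⟩ | ⟨j, hj, -⟩ | ⟨j, hj, ζ, e, hζ, he⟩
  · exfalso
    rw [finrank_pi_K hK hF, Fintype.card_fin] at hj
    obtain ⟨U, hU, hU0⟩ := exists_totally_singular_plus (F := F) j
    obtain ⟨w, hw, hw0⟩ := U.exists_mem_ne_zero_of_ne_bot (by
      intro h; rw [h, finrank_bot] at hU; omega)
    have h1 := hu (e.symm w)
    rw [he, LinearEquiv.apply_symm_apply, hU0 w hw] at h1
    have h2 := Algebra.norm_eq_zero_iff.1 h1.symm
    simp at h2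
    exact hw0 h2
  · rw [finrank_pi_K hK hF, Fintype.card_fin] at hj
    omega
  · obtain rfl : j = 0 := by rw [finrank_pi_K hK hF, Fintype.card_fin] at hj; omega
    refine ⟨ζ, u.symm.trans (e.trans (LinearEquiv.funCongrLeft F F
      (Equiv.emptySum (Fin 0 ⊕ Fin 0) (Fin 2)).symm)), hζ, fun x => ?_⟩
    have := hu (u.symm x)
    rw [LinearEquiv.apply_symm_apply, he] at this
    rw [← this]
    simp [Cfsg.quadFormMinus]

/-- For odd `m` the norm form is elliptic. -/
theorem normQF_minus (hK : Fintype.card K = q ^ 2) (hF : Fintype.card F = q) (m : ℕ) (hm : Odd m)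
    (a b : F) (hab : ∀ z₁ z₂ : F, z₁ ^ 2 + a * z₁ * z₂ + b * z₂ ^ 2 = 0 → z₁ = 0 ∧ z₂ = 0) :
    ∃ e : (Fin m → K) ≃ₗ[F] ((Fin (m - 1) ⊕ Fin (m - 1)) ⊕ Fin 2 → F),
      ∀ v, normQF (Fin m) hK hF v = Cfsg.quadFormMinus (m - 1) F a b (e v) := by
  have hd : Module.finrank F (Fin m → K) = 2 * m := by
    rw [finrank_pi_K hK hF, Fintype.card_fin]
  rcases exists_normal_form _ (normQF_nondegenerate (Fin m) hK hF) with
    ⟨j, hj, e, he⟩ | ⟨j, hj, -⟩ | ⟨j, hj, ζ, e, hζ, he⟩
  · exfalso
    obtain rfl : j = m := by omega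
    obtain ⟨k, hk⟩ : ∃ k, j + 1 = k + k := by obtain ⟨r, rfl⟩ := hm; exact ⟨r + 1, by ring⟩
    obtain ⟨ζ, e₁, hζ, he₁⟩ := norm_binary_elliptic hK hF
    obtain ⟨U, hU, hU0⟩ := exists_totally_singular_even hK hF k
    let T : (Fin (k + k) → K) →ₗ[F] ((Fin j ⊕ Fin j) ⊕ Fin 2 → F) :=
      { toFun := fun v => Sum.elim (e (fun i => v (Fin.cast hk i.castSucc)))
            (e₁ (v (Fin.cast hk (Fin.last j))))
        map_add' := fun v w => by
          funext c; rcases c with c | c
          · exact congr_fun (map_add e (fun i => v (Fin.cast hk i.castSucc))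
              (fun i => w (Fin.cast hk i.castSucc))) c
          · simp
        map_smul' := fun t v => by
          funext c; rcases c with c | c
          · exact congr_fun (map_smul e t (fun i => v (Fin.cast hk i.castSucc))) c
          · simp }
    have hT : Function.Injective T := by
      intro v w h
      have h1 : (fun i : Fin j => v (Fin.cast hk i.castSucc)) = fun i => w (Fin.cast hk i.castSucc) :=
        e.injective (funext fun c => congr_fun h (Sum.inl c))
      have h2 : v (Fin.cast hk (Fin.last j)) = w (Fin.cast hk (Fin.last j)) :=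
        e₁.injective (funext fun c => congr_fun h (Sum.inr c))
      funext i
      obtain ⟨i, rfl⟩ : ∃ i', Fin.cast hk i' = i := ⟨Fin.cast hk.symm i, by simp⟩
      refine Fin.lastCases h2 (fun i => congr_fun h1 i) i
    have hval : ∀ v, Cfsg.quadFormMinus j F 1 ζ (T v) = normQF (Fin (k + k)) hK hF v := by
      intro v
      rw [normQF_apply, ← (finCongr hk).sum_comp, Fin.sum_univ_castSucc]
      show Cfsg.quadFormPlus j F (e (fun i => v (Fin.cast hk i.castSucc))) + _ = _
      rw [← he, normQF_apply]
      exact congr_arg _ (he₁ _).symm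
    have := finrank_le_of_totally_singular_minus j 1 ζ (anisotropic_of_no_root ζ hζ) (U.map T) (by
      rintro _ ⟨u, hu, rfl⟩
      rw [hval]
      exact hU0 u hu)
    have h3 : Module.finrank F (U.map T) = Module.finrank F U :=
      (Submodule.equivMapOfInjective T hT U).finrank_eq.symm
    omega
  · omega
  · obtain rfl : j = m - 1 := by omega
    obtain ⟨T, hT⟩ := elliptic_isometric (m - 1) a b hab ζ hζ
    exact ⟨e.trans T, fun v => by rw [he, LinearEquiv.trans_apply, hT]⟩

/-- A `K`-linear matrix group transported to `F`-matrices along a linear equivalence. -/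
noncomputable def restrictHom {ι κ : Type} [Fintype ι] [DecidableEq ι] [Fintype κ] [DecidableEq κ]
    (e : (ι → K) ≃ₗ[F] (κ → F)) : Matrix ι ι K →* Matrix κ κ F where
  toFun g := LinearMap.toMatrixAlgEquiv' (e.conj ((Matrix.mulVecLin g).restrictScalars F))
  map_one' := by
    rw [Matrix.mulVecLin_one]
    have : e.conj ((LinearMap.id : (ι → K) →ₗ[K] (ι → K)).restrictScalars F) = LinearMap.id := by
      ext v; simp
    rw [this]
    exact LinearMap.toMatrixAlgEquiv'_id
  map_mul' g h := by
    have : e.conj ((Matrix.mulVecLin (g * h)).restrictScalars F) =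
        e.conj ((Matrix.mulVecLin g).restrictScalars F) * e.conj ((Matrix.mulVecLin h).restrictScalars F) := by
      ext v; simp [← Matrix.mulVec_mulVec]
    rw [this, map_mul]

theorem restrictHom_mulVec {ι κ : Type} [Fintype ι] [DecidableEq ι] [Fintype κ] [DecidableEq κ]
    (e : (ι → K) ≃ₗ[F] (κ → F)) (g : Matrix ι ι K) (v : κ → F) :
    restrictHom e g *ᵥ v = e (g *ᵥ e.symm v) := by
  have h := Matrix.toLinAlgEquiv'_apply (restrictHom e g) v
  rw [← h]
  simp [restrictHom, Matrix.toLinAlgEquiv'_toMatrixAlgEquiv']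

theorem restrictHom_injective {ι κ : Type} [Fintype ι] [DecidableEq ι] [Fintype κ] [DecidableEq κ]
    (e : (ι → K) ≃ₗ[F] (κ → F)) : Function.Injective (restrictHom e) := by
  intro g h hgh
  refine Matrix.toLin'.injective (LinearMap.ext fun v => ?_)
  have := restrictHom_mulVec e g (e v)
  rw [hgh, restrictHom_mulVec, LinearEquiv.symm_apply_apply] at this
  simpa using (e.injective this).symm

theorem exists_gu_hom_isometryGroup {n : ℕ} {κ : Type} [Fintype κ] [DecidableEq κ]
    (hK : Fintype.card K = q ^ 2) (hF : Fintype.card F = q) (P : (κ → F) → F)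
    (e : (Fin n → K) ≃ₗ[F] (κ → F)) (he : ∀ v, normQF (Fin n) hK hF v = P (e v)) :
    ∃ φ : ↥(Cfsg.GU n K q) →* ↥(Cfsg.isometryGroup F P), Function.Injective φ := by
  refine ⟨((Units.map (restrictHom e)).comp (Cfsg.GU n K q).subtype).codRestrict _ fun g u w => ?_, ?_⟩
  · show P (restrictHom e ((g : GL (Fin n) K) : Matrix (Fin n) (Fin n) K) *ᵥ u) = P u
    rw [restrictHom_mulVec, ← he]
    conv_rhs => rw [← e.apply_symm_apply u, ← he]
    apply (algebraMap F K).injective
    have h := g.2 (e.symm u) (e.symm u)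
    simp only [normQF_apply, map_sum, algebraMap_norm_eq hK hF, pow_succ']
    exact h
  · intro g h hgh
    have := congr_arg (fun x : ↥(Cfsg.isometryGroup F P) =>
      ((x : GL κ F) : Matrix κ κ F)) hgh
    exact Subtype.ext (Units.ext (restrictHom_injective e this))

theorem exists_gu_hom_symplectic {m : ℕ} (hK : Fintype.card K = q ^ 2) (hF : Fintype.card F = q) :
    ∃ φ : ↥(Cfsg.GU m K q) →* ↥(Matrix.symplecticGroup (Fin m) F), Function.Injective φ := by
  classical
  obtain ⟨θ, hθ⟩ : ∃ θ : K, θ ∉ (1 : Submodule F K) := by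
    by_contra h
    push Not at h
    have h1 : (1 : Submodule F K) = ⊤ := Submodule.eq_top_iff'.2 h
    have h2 := congr_arg (fun S : Submodule F K => Module.finrank F S) h1
    simp only [finrank_top, finrank_two hK hF] at h2
    rw [Submodule.one_eq_span, finrank_span_singleton one_ne_zero] at h2
    omega
  have hli : LinearIndependent F ![(1 : K), θ] := by
    rw [LinearIndependent.pair_iff' one_ne_zero]
    intro c hc
    exact hθ (hc ▸ Submodule.mem_one.2 ⟨c, by rw [Algebra.smul_def, mul_one]⟩)
  let bK : Module.Basis (Fin 2) F K :=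
    basisOfLinearIndependentOfCardEqFinrank hli (by simp [finrank_two hK hF])
  let φ : K →ₗ[F] F := bK.coord 1
  have hb : ⇑bK = ![(1 : K), θ] := coe_basisOfLinearIndependentOfCardEqFinrank _ _
  have hφθ : φ θ = 1 := by
    have : θ = bK 1 := by simp [hb]
    rw [this]; simp [φ]
  have hφc : ∀ c : F, φ (algebraMap F K c) = 0 := by
    intro c
    have : algebraMap F K c = c • bK 0 := by simp [hb, Algebra.smul_def]
    rw [this, map_smul]; simp [φ]
  have hφconj : φ (θ ^ q) = -1 := by
    have h := hφc (Algebra.trace F K θ)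
    rw [algebraMap_trace_eq hK hF, map_add, hφθ] at h
    exact eq_neg_of_add_eq_zero_right h
  let e : (Fin m → K) ≃ₗ[F] (Fin m ⊕ Fin m → F) :=
    (LinearEquiv.piCongrRight fun _ => bK.equivFun.trans (LinearEquiv.finTwoArrow F F)).trans
      ({ toFun := fun p => Sum.elim (fun i => (p i).1) (fun i => (p i).2)
         map_add' := fun p p' => by ext (i | i) <;> simp
         map_smul' := fun c p => by ext (i | i) <;> simp
         invFun := fun v i => (v (Sum.inl i), v (Sum.inr i))
         left_inv := fun p => rfl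
         right_inv := fun v => by ext (i | i) <;> rfl } : (Fin m → F × F) ≃ₗ[F] (Fin m ⊕ Fin m → F))
  have hexp : ∀ (w : Fin m → K) i, w i = e w (Sum.inl i) • (1 : K) + e w (Sum.inr i) • θ := by
    intro w i
    conv_lhs => rw [← bK.sum_repr (w i)]
    simp [Fin.sum_univ_two, hb]
    rfl
  have hform : ∀ u v : Fin m → K, φ (Cfsg.hermForm m K q u v) =
      (e u) ⬝ᵥ (Matrix.J (Fin m) F *ᵥ e v) := by
    intro u v
    simp only [Cfsg.hermForm, map_sum, dotProduct, Matrix.mulVec, Matrix.J, Fintype.sum_sum_type]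
    simp only [Matrix.fromBlocks_apply₁₁, Matrix.fromBlocks_apply₁₂, Matrix.fromBlocks_apply₂₁,
      Matrix.fromBlocks_apply₂₂, Matrix.zero_apply, Matrix.neg_apply, zero_mul, neg_mul,
      Finset.sum_const_zero, zero_add, add_zero, Matrix.one_apply, ite_mul, one_mul,
      Finset.sum_neg_distrib, Finset.sum_ite_eq, Finset.mem_univ, if_true, mul_neg]
    rw [← Finset.sum_neg_distrib, ← Finset.sum_add_distrib]
    refine Finset.sum_congr rfl fun i _ => ?_
    rw [hexp u i, hexp v i]
    generalize e u (Sum.inl i) = a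
    generalize e u (Sum.inr i) = b
    generalize e v (Sum.inl i) = c
    generalize e v (Sum.inr i) = d
    have : (a • (1 : K) + b • θ) * (c • (1 : K) + d • θ) ^ q =
        algebraMap F K (a * c + b * d * Algebra.norm F θ) + (a * d) • (θ ^ q) + (b * c) • θ := by
      simp only [Algebra.smul_def, map_add, map_mul, algebraMap_norm_eq hK hF, add_pow_q hK hF,
        mul_pow, algebraMap_pow_q hK hF, mul_one, pow_succ]
      ring
    rw [this, map_add, map_add, hφc, map_smul, map_smul, hφθ, hφconj]
    simp
  refine ⟨(((restrictHom e).comp (Units.coeHom _)).comp (Cfsg.GU m K q).subtype).codRestrict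
    (Matrix.symplecticGroup (Fin m) F) fun g => ?_, fun g h hgh => ?_⟩
  · show restrictHom e ((g : GL (Fin m) K) : Matrix (Fin m) (Fin m) K) ∈ _
    set A := restrictHom e ((g : GL (Fin m) K) : Matrix (Fin m) (Fin m) K) with hA
    rw [SymplecticGroup.mem_iff']
    refine Matrix.toBilin'.injective ?_
    refine LinearMap.ext fun u => LinearMap.ext fun v => ?_
    simp only [Matrix.toBilin'_apply', ← Matrix.mulVec_mulVec, Matrix.dotProduct_mulVec u Aᵀ,
      Matrix.vecMul_transpose]
    rw [hA, restrictHom_mulVec, restrictHom_mulVec, ← hform]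
    conv_rhs => rw [← e.apply_symm_apply u, ← e.apply_symm_apply v, ← hform]
    exact congr_arg φ (g.2 _ _)
  · exact Subtype.ext (Units.ext (restrictHom_injective e (congr_arg Subtype.val hgh)))

end Cfsg.Agent.Forms59
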