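import Mathlib

/-!
Counting unitary elements of a finite ring with involution through a quotient with nil kernel.
-/

set_option autoImplicit false
set_option linter.unusedSectionVars false

namespace Cfsg.Agent.Forms59.UnitaryLift

variable {K : Type*} [Field K] [StarRing K]
variable {R B : Type*} [Ring R] [StarRing R] [Algebra K R] [StarModule K R] [Finite R]
variable [Ring B] [StarRing B]

theorem card_unitary_sq (π : R →+* B) (hsurj : Function.Surjective π) (hstar : ∀ x, π (star x) = star (π x))
    (hker : ∀ (a : K) (x : R), π x = 0 → π (a • x) = 0)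
    (hnil : ∀ x, π x = 0 → IsNilpotent x) (θ θ₀ : K) (hθ : θ + star θ = 1) (hθ₀ : star θ₀ ≠ θ₀) :
    Nat.card {x : R // star x * x = 1} ^ 2 =
      Nat.card {b : B // star b * b = 1} ^ 2 * Nat.card {x : R // π x = 0} := by
  classical
  let S := {h : R // π h = 0 ∧ star h = h}
  have hss : ∀ (a : K) (x : R), star (a • x) = star a • star x := star_smul
  -- (i) the kernel is two copies of the Hermitian part
  have hd : θ₀ - star θ₀ ≠ 0 := sub_ne_zero.2 (Ne.symm hθ₀)
  have hsd : star (θ₀ - star θ₀)⁻¹ = -(θ₀ - star θ₀)⁻¹ := by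
    rw [star_inv₀, star_sub, star_star, ← inv_neg, neg_sub]
  let e : {x : R // π x = 0} ≃ S × S :=
    { toFun := fun x => (⟨x.1 + star x.1, by simp [hstar, x.2], by rw [star_add, star_star, add_comm]⟩,
        ⟨θ₀ • x.1 + star θ₀ • star x.1, by
          rw [map_add, hker _ _ x.2, hker _ _ (by rw [hstar, x.2, star_zero]), add_zero],
          by rw [star_add, hss, hss, star_star, star_star, add_comm]⟩)
      invFun := fun p => ⟨(θ₀ - star θ₀)⁻¹ • (p.2.1 - star θ₀ • p.1.1), hker _ _ (by
        rw [map_sub, p.2.2.1, hker _ _ p.1.2.1, sub_zero])⟩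
      left_inv := fun x => by
        refine Subtype.ext ?_
        simp only [smul_add]
        rw [add_sub_add_right_eq_sub, ← sub_smul, smul_smul, inv_mul_cancel₀ hd, one_smul]
      right_inv := fun p => by
        have hstarx : star ((θ₀ - star θ₀)⁻¹ • (p.2.1 - star θ₀ • p.1.1)) =
            (θ₀ - star θ₀)⁻¹ • (θ₀ • p.1.1 - p.2.1) := by
          rw [hss, star_sub, hss, p.1.2.2, p.2.2.2, star_star, hsd, neg_smul, ← smul_neg, neg_sub]
        refine Prod.ext (Subtype.ext ?_) (Subtype.ext ?_)
        · simp only [hstarx]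
          match_scalars <;> field_simp <;> ring
        · simp only [hstarx]
          match_scalars <;> field_simp <;> ring }
  -- (ii) every `1 + h` is `star y * y`
  set c : K := star θ * θ
  have hc : star c = c := by rw [star_mul', star_star, mul_comm]
  let f : S → S := fun h => ⟨h.1 + c • (h.1 * h.1), by
    rw [map_add, h.2.1, hker _ _ (by rw [map_mul, h.2.1, mul_zero]), add_zero],
    by rw [star_add, hss, hc, star_mul, h.2.2]⟩
  have hf : Function.Injective f := by
    intro x y hxy
    have h0 : x.1 + c • (x.1 * x.1) = y.1 + c • (y.1 * y.1) := congrArg Subtype.val hxy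
    let L : Module.End K R := (-c) • (LinearMap.mulLeft K x.1 + LinearMap.mulRight K y.1)
    have hL : IsNilpotent L :=
      ((LinearMap.commute_mulLeft_right x.1 y.1).isNilpotent_add
        ((LinearMap.isNilpotent_mulLeft_iff K x.1).2 (hnil _ x.2.1))
        ((LinearMap.isNilpotent_mulRight_iff K y.1).2 (hnil _ y.2.1))).smul _
    have hfix : L (x.1 - y.1) = x.1 - y.1 := by
      simp only [L, LinearMap.smul_apply, LinearMap.add_apply, LinearMap.mulLeft_apply, LinearMap.mulRight_apply]
      rw [show x.1 * (x.1 - y.1) + (x.1 - y.1) * y.1 = x.1 * x.1 - y.1 * y.1 by noncomm_ring,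
        neg_smul, smul_sub, neg_sub, eq_comm, ← sub_eq_zero, ← sub_eq_zero.2 h0]
      abel
    obtain ⟨k, hk⟩ := hL
    have hk' : (L ^ k) (x.1 - y.1) = x.1 - y.1 := by
      clear hk
      induction k with
      | zero => simp
      | succ k ih => rw [pow_succ, Module.End.mul_apply, hfix, ih]
    rw [hk, LinearMap.zero_apply, eq_comm, sub_eq_zero] at hk'
    exact Subtype.ext hk'
  have hy : ∀ h : S, ∃ y : Rˣ, π y = 1 ∧ star (y : R) * y = 1 + h.1 := by
    intro h
    obtain ⟨h', rfl⟩ := Finite.surjective_of_injective hf h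
    have hu : IsUnit (1 + θ • h'.1) := ((hnil _ (hker _ _ h'.2.1))).isUnit_one_add
    refine ⟨hu.unit, by rw [IsUnit.unit_spec, map_add, map_one, hker _ _ h'.2.1, add_zero], ?_⟩
    rw [IsUnit.unit_spec, star_add, star_one, hss, h'.2.2]
    show (1 + star θ • h'.1) * (1 + θ • h'.1) = 1 + (h'.1 + c • (h'.1 * h'.1))
    rw [mul_add, add_mul, add_mul]
    simp only [mul_one, one_mul]
    rw [smul_mul_smul_comm, ← add_assoc]
    rw [show (1 : R) + star θ • h'.1 + θ • h'.1 = 1 + (θ + star θ) • h'.1 by rw [add_smul]; abel, hθ, one_smul,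
      add_assoc]
  choose sec hsec1 hsec2 using hy
  -- (iii) counting
  let U1 := {x : R // π x = 1 ∧ star x * x = 1}
  let g : U1 × S → {x : R // π x = 1} := fun p => ⟨p.1.1 * sec p.2, by rw [map_mul, p.1.2.1, hsec1, one_mul]⟩
  have hgval : ∀ p, star (g p).1 * (g p).1 = 1 + p.2.1 := fun p => by
    show star (p.1.1 * (sec p.2 : R)) * (p.1.1 * (sec p.2 : R)) = _
    rw [star_mul, mul_assoc, ← mul_assoc (star p.1.1), p.1.2.2, one_mul, hsec2]
  have hg : Function.Bijective g := by
    constructor
    · intro p p' h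
      have h2 : p.2 = p'.2 := Subtype.ext (add_left_cancel (by rw [← hgval, h, hgval] : (1 : R) + p.2.1 = 1 + p'.2.1))
      have h3 := congrArg Subtype.val h
      simp only [g, h2] at h3
      exact Prod.ext (Subtype.ext ((sec p'.2).isUnit.mul_right_cancel h3)) h2
    · rintro ⟨x, hx⟩
      let h : S := ⟨star x * x - 1, by rw [map_sub, map_mul, hstar, hx, star_one, one_mul, map_one, sub_self],
        by rw [star_sub, star_mul, star_star, star_one]⟩
      have hinv : π ((sec h)⁻¹ : Rˣ) = 1 := by
        have := congrArg π (Units.mul_inv (sec h))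
        rw [map_mul, hsec1, one_mul, map_one] at this
        exact this
      refine ⟨(⟨x * ((sec h)⁻¹ : Rˣ), by rw [map_mul, hx, hinv, one_mul], ?_⟩, h), Subtype.ext ?_⟩
      · rw [star_mul, mul_assoc, ← mul_assoc (star x),
          show star x * x = star (sec h : R) * (sec h) by rw [hsec2]; simp [h], mul_assoc, Units.mul_inv, mul_one,
          ← star_mul, Units.mul_inv, star_one]
      · simp [g, mul_assoc]
  have hU1S : Nat.card U1 = Nat.card S := by
    have h1 : Nat.card {x : R // π x = 1} = Nat.card {x : R // π x = 0} :=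
      Nat.card_congr ((Equiv.subRight (1 : R)).subtypeEquiv fun x => by simp [sub_eq_zero])
    rw [← Nat.card_eq_of_bijective g hg, Nat.card_congr e, Nat.card_prod, Nat.card_prod] at h1
    haveI : Nonempty S := ⟨⟨0, map_zero _, star_zero _⟩⟩
    exact Nat.eq_of_mul_eq_mul_right Nat.card_pos h1
  let UR := {x : R // star x * x = 1}
  let UB := {b : B // star b * b = 1}
  have hlift : ∀ b : UB, ∃ x : UR, π x.1 = b.1 := by
    rintro ⟨b, hb⟩
    obtain ⟨x, rfl⟩ := hsurj b
    let h : S := ⟨star x * x - 1, by rw [map_sub, map_mul, hstar, hb, map_one, sub_self],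
      by rw [star_sub, star_mul, star_star, star_one]⟩
    have hinv : π ((sec h)⁻¹ : Rˣ) = 1 := by
      have := congrArg π (Units.mul_inv (sec h))
      rw [map_mul, hsec1, one_mul, map_one] at this
      exact this
    refine ⟨⟨x * ((sec h)⁻¹ : Rˣ), ?_⟩, by show π (x * _) = π x; rw [map_mul, hinv, mul_one]⟩
    rw [star_mul, mul_assoc, ← mul_assoc (star x),
      show star x * x = star (sec h : R) * (sec h) by rw [hsec2]; simp [h], mul_assoc, Units.mul_inv, mul_one,
      ← star_mul, Units.mul_inv, star_one]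
  choose lift hliftπ using hlift
  let g2 : U1 × UB → UR := fun p => ⟨(lift p.2).1 * p.1.1, by
    rw [star_mul, mul_assoc, ← mul_assoc (star (lift p.2).1), (lift p.2).2, one_mul, p.1.2.2]⟩
  have hg2π : ∀ p, π (g2 p).1 = p.2.1 := fun p => by
    show π ((lift p.2).1 * p.1.1) = _
    rw [map_mul, hliftπ, p.1.2.1, mul_one]
  have hg2 : Function.Bijective g2 := by
    constructor
    · intro p p' h
      have h2 : p.2 = p'.2 := Subtype.ext (by rw [← hg2π, h, hg2π])
      have h3 := congrArg (fun x => star (lift p'.2).1 * x) (congrArg Subtype.val h)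
      simp only [g2, h2, ← mul_assoc, (lift p'.2).2, one_mul] at h3
      exact Prod.ext (Subtype.ext h3) h2
    · rintro ⟨x, hx⟩
      let b : UB := ⟨π x, by rw [← hstar, ← map_mul, hx, map_one]⟩
      have hy' : (lift b).1 * star (lift b).1 = 1 := mul_eq_one_comm.1 (lift b).2
      refine ⟨(⟨star (lift b).1 * x, ?_, ?_⟩, b), Subtype.ext ?_⟩
      · rw [map_mul, hstar, hliftπ]; exact b.2
      · rw [star_mul, star_star, mul_assoc, ← mul_assoc (lift b).1, hy', one_mul, hx]
      · show (lift b).1 * (star (lift b).1 * x) = x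
        rw [← mul_assoc, hy', one_mul]
  show Nat.card UR ^ 2 = Nat.card UB ^ 2 * _
  rw [← Nat.card_eq_of_bijective g2 hg2, Nat.card_congr e, Nat.card_prod, Nat.card_prod, hU1S]
  ring

end Cfsg.Agent.Forms59.UnitaryLift
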