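import Cfsg.Agent.S2581
import Cfsg.Agent.S2642
import Cfsg.Agent.Forms59.UnitaryConj
import Cfsg.Agent.Forms59.UnitaryLift
import Cfsg.Agent.Lib.Unitary.Count

/-!
Centralisers of unipotent elements of `GU_n(q)`.
-/

set_option autoImplicit false
set_option linter.unusedSectionVars false

namespace Cfsg.Agent.Forms59.UnitaryCent

open Matrix Cfsg.Agent.Forms59.Jordan
open Cfsg.Agent.S2581 (Co coef phi phi_comm phi_injective phi_surjective exponent_eq sum_by_size)

variable {K : Type*} [Field K] {t : ℕ} {d : Fin t → ℕ}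

/-- Reversal of each block. -/
def rev (d : Fin t → ℕ) : Ix d ≃ Ix d := Equiv.sigmaCongrRight fun k => Fin.revPerm

theorem rev_apply (k : Fin t) (a : Fin (d k)) : rev d ⟨k, a⟩ = ⟨k, a.rev⟩ := rfl

theorem rev_rev (p : Ix d) : rev d (rev d p) = p := by
  obtain ⟨k, a⟩ := p
  simp [rev_apply]

variable (K d) in
/-- The commutant of the nilpotent matrix. -/
abbrev Comm : Subalgebra K (Matrix (Ix d) (Ix d) K) := Subalgebra.centralizer K {Nmat K d}

theorem mem_comm {M : Matrix (Ix d) (Ix d) K} : M ∈ Comm K d ↔ M * Nmat K d = Nmat K d * M := by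
  rw [Subalgebra.mem_centralizer_iff]
  exact ⟨fun h => (h _ rfl).symm, fun h g hg => by rw [Set.mem_singleton_iff.1 hg, h]⟩

theorem exists_phi (hd : ∀ k, 1 ≤ d k) (x : Comm K d) : ∃ c, phi c = x.1 :=
  phi_surjective hd x.1 (mem_comm.1 x.2)

/-- The leading blocks. -/
def piFun (hd : ∀ k, 1 ≤ d k) (R : Finset ℕ) (M : Matrix (Ix d) (Ix d) K) (i : ↥R) :
    Matrix {k // d k = (i : ℕ)} {k // d k = (i : ℕ)} K :=
  Matrix.of fun p q => M ⟨p.1, ⟨0, hd _⟩⟩ ⟨q.1, ⟨0, hd _⟩⟩

variable [StarRing K]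

/-- The involution. -/
def st (M : Matrix (Ix d) (Ix d) K) : Matrix (Ix d) (Ix d) K := Mᴴ.submatrix (rev d) (rev d)

theorem st_mul (M N : Matrix (Ix d) (Ix d) K) : st (M * N) = st N * st M := by
  rw [st, st, st, Matrix.conjTranspose_mul, Matrix.submatrix_mul_equiv]

theorem st_st (M : Matrix (Ix d) (Ix d) K) : st (st M) = M := by
  ext p q
  simp [st, rev_rev]

theorem st_N : st (Nmat K d) = Nmat K d := by
  ext ⟨k, a⟩ ⟨l, b⟩
  show star (Nmat K d (rev d ⟨l, b⟩) (rev d ⟨k, a⟩)) = _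
  rw [rev_apply, rev_apply]
  by_cases h : k = l
  · subst h
    rw [Nmat_apply_same, Nmat_apply_same]
    have := a.2
    have := b.2
    simp only [Fin.val_rev]
    split_ifs <;> first | omega | simp
  · rw [Nmat_apply_ne (Ne.symm h), Nmat_apply_ne h, star_zero]

theorem st_mem {M : Matrix (Ix d) (Ix d) K} (h : M ∈ Comm K d) : st M ∈ Comm K d := by
  rw [mem_comm] at h ⊢
  have := congrArg st h
  rw [st_mul, st_mul, st_N] at this
  exact this.symm

instance : StarRing ↥(Comm K d) where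
  star x := ⟨st x.1, st_mem x.2⟩
  star_involutive x := Subtype.ext (st_st _)
  star_mul x y := Subtype.ext (st_mul _ _)
  star_add x y := Subtype.ext (by ext p q; simp [st])

instance : StarModule K ↥(Comm K d) := ⟨fun a x => Subtype.ext (by
  show st (a • x.1) = star a • st x.1
  ext p q
  simp [st])⟩

/-- The Hermitian matrix defining the involution. -/
def hmat (K : Type*) [Field K] (d : Fin t → ℕ) : Matrix (Ix d) (Ix d) K := (1 : Matrix (Ix d) (Ix d) K).submatrix (rev d) id

theorem hmat_mul (M : Matrix (Ix d) (Ix d) K) : hmat K d * M = M.submatrix (rev d) id := by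
  ext p q
  rw [Matrix.mul_apply, Finset.sum_eq_single (rev d p)]
  · simp [hmat, Matrix.one_apply, id_eq]
  · intro b _ hb
    simp [hmat, Matrix.one_apply, Ne.symm hb]
  · simp

theorem mul_hmat (M : Matrix (Ix d) (Ix d) K) : M * hmat K d = M.submatrix id (rev d) := by
  ext p q
  rw [Matrix.mul_apply, Finset.sum_eq_single (rev d q)]
  · simp [hmat, rev_rev, Matrix.one_apply, id_eq]
  · intro b _ hb
    have : rev d b ≠ q := fun e => hb (by rw [← e, rev_rev])
    simp [hmat, Matrix.one_apply, this]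
  · simp

theorem hmat_sq : hmat K d * hmat K d = 1 := by
  rw [hmat_mul]
  ext p q
  simp [hmat, rev_rev, Matrix.one_apply, id_eq]

theorem hmat_herm : (hmat K d)ᴴ = hmat K d := by
  ext p q
  by_cases h : rev d q = p
  · have h' : rev d p = q := by rw [← h, rev_rev]
    simp [hmat, h, h', Matrix.one_apply, id_eq]
  · have h' : rev d p ≠ q := fun e => h (by rw [← e, rev_rev])
    simp [hmat, Matrix.one_apply, h, h']

theorem st_eq (M : Matrix (Ix d) (Ix d) K) : st M = hmat K d * Mᴴ * hmat K d := by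
  rw [hmat_mul, mul_hmat, Matrix.submatrix_submatrix]
  rfl

/-- Unitary for the involution means preserving the form. -/
theorem st_mul_eq_one_iff (M : Matrix (Ix d) (Ix d) K) : st M * M = 1 ↔ Mᴴ * hmat K d * M = hmat K d := by
  rw [st_eq]
  constructor
  · intro h
    calc Mᴴ * hmat K d * M = hmat K d * hmat K d * (Mᴴ * hmat K d * M) := by rw [hmat_sq, one_mul]
      _ = hmat K d * (hmat K d * Mᴴ * hmat K d * M) := by simp only [mul_assoc]
      _ = hmat K d := by rw [h, mul_one]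
  · intro h
    calc hmat K d * Mᴴ * hmat K d * M = hmat K d * (Mᴴ * hmat K d * M) := by simp only [mul_assoc]
      _ = 1 := by rw [h, hmat_sq]

variable (hd : ∀ k, 1 ≤ d k) (R : Finset ℕ)

/-- The projection to the leading blocks. -/
def proj : ↥(Comm K d) →+* (Π i : ↥R, Matrix {k // d k = (i : ℕ)} {k // d k = (i : ℕ)} K) where
  toFun x i := piFun hd R x.1 i
  map_one' := by
    funext i
    ext p q
    by_cases h : p = q
    · subst h; simp [piFun]
    · have : p.1 ≠ q.1 := fun e => h (Subtype.ext e)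
      have h' : (⟨p.1, ⟨0, hd _⟩⟩ : Ix d) ≠ ⟨q.1, ⟨0, hd _⟩⟩ := fun e => this (congrArg Sigma.fst e)
      simp [piFun, Matrix.one_apply, h, h']
  map_mul' x y := by
    funext i
    ext p q
    obtain ⟨c, hc⟩ := exists_phi hd x
    obtain ⟨c', hc'⟩ := exists_phi hd y
    show (x.1 * y.1) _ _ = (piFun hd R x.1 i * piFun hd R y.1 i) p q
    rw [Matrix.mul_apply, Matrix.mul_apply, ← hc, ← hc']
    symm
    refine Fintype.sum_of_injective (fun s => (⟨s.1, ⟨0, hd _⟩⟩ : Ix d))
      (fun s s' e => Subtype.ext (congrArg Sigma.fst e)) _ _ ?_ (fun s => rfl)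
    rintro ⟨s, b⟩ hb
    have hpi := p.2
    have hqi := q.2
    simp only [phi, Matrix.of_apply]
    by_cases hb0 : (b : ℕ) = 0
    · have hs : d s ≠ i := fun e => hb ⟨⟨s, e⟩, Sigma.ext rfl (heq_of_eq (Fin.ext (by simp [hb0])))⟩
      simp only [hb0, le_refl, if_true, Nat.sub_zero, coef]
      by_cases h1 : d p.1 ≤ 0 + d s ∧ 0 < d p.1
      · rw [dif_neg (show ¬ (d s ≤ 0 + d q.1 ∧ 0 < d s) by omega), mul_zero]
      · rw [dif_neg h1, zero_mul]
    · rw [if_neg (by omega), zero_mul]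
  map_zero' := rfl
  map_add' x y := rfl

theorem proj_star (x : ↥(Comm K d)) : proj hd R (star x) = star (proj hd R x) := by
  funext i
  ext p q
  obtain ⟨c, hc⟩ := exists_phi hd x
  show star (x.1 (rev d ⟨q.1, ⟨0, hd _⟩⟩) (rev d ⟨p.1, ⟨0, hd _⟩⟩)) = star (x.1 ⟨q.1, ⟨0, hd _⟩⟩ ⟨p.1, ⟨0, hd _⟩⟩)
  congr 1
  rw [rev_apply, rev_apply, ← hc]
  simp only [phi, Matrix.of_apply, Fin.val_rev]
  rw [p.2, q.2, if_pos le_rfl, if_pos le_rfl, Nat.sub_self]

theorem proj_smul (a : K) (x : ↥(Comm K d)) (h : proj hd R x = 0) : proj hd R (a • x) = 0 := by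
  funext i
  ext p q
  have := congrFun (congrFun (congrFun h i) p) q
  show a * x.1 _ _ = 0
  rw [show x.1 (⟨p.1, ⟨0, hd _⟩⟩ : Ix d) ⟨q.1, ⟨0, hd _⟩⟩ = 0 from this, mul_zero]

/-- The index of a leading coordinate. -/
def lead : ((i : R) × ({k // d k = (i : ℕ)} × {k // d k = (i : ℕ)})) → Co d := fun z =>
  ⟨(z.2.1.1, z.2.2.1), ⟨0, by have := hd z.2.1.1; have := hd z.2.2.1; dsimp only; omega⟩⟩

theorem lead_injective : Function.Injective (lead hd R) := by
  rintro ⟨⟨i, hi⟩, ⟨p, hp⟩, ⟨q, hq⟩⟩ ⟨⟨i', hi'⟩, ⟨p', hp'⟩, ⟨q', hq'⟩⟩ h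
  have := congrArg Sigma.fst h
  simp only [lead, Prod.mk.injEq] at this
  obtain ⟨rfl, rfl⟩ := this
  simp only at hp hp'
  obtain rfl : i = i' := hp.symm.trans hp'
  rfl

theorem piFun_phi (c : Co d → K) (i : ↥R) (p q : {k // d k = (i : ℕ)}) :
    piFun hd R (phi c) i p q = c (lead hd R ⟨i, q, p⟩) := by
  have := p.2
  have := q.2
  have := hd p.1
  simp only [piFun, Matrix.of_apply, phi, le_refl, if_true, Nat.sub_self, coef, lead]
  rw [dif_pos (by omega)]
  simp

theorem proj_surjective : Function.Surjective (proj (K := K) hd R) := by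
  intro G
  classical
  let c : Co d → K := fun z => if hz : z ∈ Set.range (lead hd R) then
    G hz.choose.1 hz.choose.2.2 hz.choose.2.1 else 0
  refine ⟨⟨phi c, mem_comm.2 (phi_comm c)⟩, ?_⟩
  funext i
  ext p q
  show piFun hd R (phi c) i p q = _
  rw [piFun_phi]
  have hz : lead hd R ⟨i, q, p⟩ ∈ Set.range (lead hd R) := ⟨_, rfl⟩
  simp only [c, dif_pos hz]
  have e := lead_injective hd R hz.choose_spec
  generalize hz.choose = w at e ⊢
  subst e; rfl

theorem nilpotent_of_proj (hR : ∀ k, d k ∈ R) (x : ↥(Comm K d)) (h : proj hd R x = 0) : IsNilpotent x := by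
  obtain ⟨c, hc⟩ := exists_phi hd x
  set D := Finset.univ.sup d
  have hD : ∀ k, d k ≤ D := fun k => Finset.le_sup (Finset.mem_univ k)
  let w : Ix d → ℕ := fun p => p.2 * (D + 1) + (D - d p.1)
  have hw : ∀ p q, x.1 p q ≠ 0 → w q < w p := by
    rintro ⟨k, a⟩ ⟨l, b⟩ hne
    rw [← hc] at hne
    simp only [phi, Matrix.of_apply, coef] at hne
    split_ifs at hne with h1 h2
    swap
    · exact absurd rfl hne
    swap
    · exact absurd rfl hne
    show (b : ℕ) * (D + 1) + (D - d l) < a * (D + 1) + (D - d k)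
    have := hD k
    have := hD l
    by_cases hab : (b : ℕ) < a
    · have : ((b : ℕ) + 1) * (D + 1) ≤ a * (D + 1) := Nat.mul_le_mul_right _ hab
      rw [Nat.add_one_mul] at this
      omega
    · have hab' : (a : ℕ) = b := by omega
      have hlt : d k ≠ d l := fun e => hne (by
        have h0 := congrFun (congrFun (congrFun h ⟨d l, hR l⟩) ⟨k, e⟩) ⟨l, rfl⟩
        change piFun hd R x.1 ⟨d l, hR l⟩ ⟨k, e⟩ ⟨l, rfl⟩ = 0 at h0
        rw [← hc, piFun_phi] at h0
        convert h0 using 2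
        simp only [lead]
        congr 1
        exact Fin.ext (by simp only; omega))
      rw [hab']
      omega
  have hpow : ∀ (j : ℕ) p q, (x.1 ^ j) p q ≠ 0 → w q + j ≤ w p := by
    intro j
    induction j with
    | zero =>
      intro p q hne
      rw [pow_zero, Matrix.one_apply] at hne
      split_ifs at hne with h1
      · rw [h1]; rfl
      · exact absurd rfl hne
    | succ j ih =>
      intro p q hne
      rw [pow_succ', Matrix.mul_apply] at hne
      obtain ⟨s, -, hs⟩ := Finset.exists_ne_zero_of_sum_ne_zero hne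
      have h1 := hw p s (left_ne_zero_of_mul hs)
      have h2 := ih s q (right_ne_zero_of_mul hs)
      omega
  refine ⟨Finset.univ.sup w + 1, Subtype.ext (Matrix.ext fun p q => ?_)⟩
  rw [SubmonoidClass.coe_pow]
  by_contra hne
  have h1 := hpow _ p q hne
  have := Finset.le_sup (f := w) (Finset.mem_univ p)
  omega

theorem card_ker [Fintype K] (hR : R = Finset.range (Finset.univ.sup d + 1)) :
    Nat.card {x : ↥(Comm K d) // proj hd R x = 0} = Fintype.card K ^
      (2 * (∑ i ∈ R, ∑ j ∈ R, if i < j then i * (Finset.univ.filter fun k => d k = i).card *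
        (Finset.univ.filter fun k => d k = j).card else 0) +
      ∑ i ∈ R, (i - 1) * (Finset.univ.filter fun k => d k = i).card ^ 2) := by
  classical
  let Rest := {z : Co d // z ∉ Set.range (lead hd R)}
  let f : {x : ↥(Comm K d) // proj hd R x = 0} → (Rest → K) := fun x z => (exists_phi hd x.1).choose z.1
  have hlead : ∀ (x : {x : ↥(Comm K d) // proj hd R x = 0}) y, (exists_phi hd x.1).choose (lead hd R y) = 0 := by
    rintro x ⟨i, p, q⟩
    have h1 := piFun_phi hd R (exists_phi hd x.1).choose i q p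
    rw [(exists_phi hd x.1).choose_spec] at h1
    rw [← h1]
    exact congrFun (congrFun (congrFun x.2 i) q) p
  have hf : Function.Bijective f := by
    constructor
    · intro x y h
      refine Subtype.ext (Subtype.ext ?_)
      rw [← (exists_phi hd x.1).choose_spec, ← (exists_phi hd y.1).choose_spec]
      congr 1
      funext z
      by_cases hz : z ∈ Set.range (lead hd R)
      · obtain ⟨y', rfl⟩ := hz; rw [hlead, hlead]
      · exact congrFun h ⟨z, hz⟩
    · intro r
      let c : Co d → K := fun z => if hz : z ∈ Set.range (lead hd R) then 0 else r ⟨z, hz⟩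
      have h0 : proj hd R (⟨phi c, mem_comm.2 (phi_comm c)⟩ : ↥(Comm K d)) = 0 := by
        funext i
        ext p q
        show piFun hd R (phi c) i p q = 0
        rw [piFun_phi]
        exact dif_pos ⟨_, rfl⟩
      refine ⟨⟨_, h0⟩, funext fun z => ?_⟩
      have he : (exists_phi hd (⟨phi c, mem_comm.2 (phi_comm c)⟩ : ↥(Comm K d))).choose = c :=
        phi_injective hd (exists_phi hd _).choose_spec
      show (exists_phi hd (⟨phi c, mem_comm.2 (phi_comm c)⟩ : ↥(Comm K d))).choose z.1 = r z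
      rw [he]
      exact dif_neg z.2
  rw [Nat.card_eq_of_bijective f hf, Nat.card_fun, Nat.card_eq_fintype_card (α := K)]
  congr 1
  let a : ℕ → ℕ := fun i => (Finset.univ.filter (fun k : Fin t => d k = i)).card
  have hfib : ∀ i : ℕ, Fintype.card {k // d k = i} = a i := fun i => Fintype.card_subtype _
  have h0 : a 0 = 0 := by
    refine Finset.card_eq_zero.2 (Finset.filter_eq_empty_iff.2 fun k _ => ?_)
    have := hd k; omega
  have hI : Nat.card (Co d) = ∑ i ∈ R, a i * ∑ j ∈ R, a j * min i j := by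
    rw [Nat.card_eq_fintype_card, Fintype.card_sigma, Fintype.sum_prod_type]
    simp only [Fintype.card_fin]
    subst hR
    have : ∀ l, ∑ k, min (d l) (d k) = ∑ j ∈ Finset.range (Finset.univ.sup d + 1), a j * min (d l) j := fun l =>
      sum_by_size (fun x => min (d l) x) d
    simp only [this]
    exact sum_by_size (fun x => ∑ j ∈ Finset.range (Finset.univ.sup d + 1), a j * min x j) d
  have hD : Nat.card (Set.range (lead hd R)) = ∑ i ∈ R, a i ^ 2 := by
    rw [Nat.card_range_of_injective (lead_injective hd R), Nat.card_eq_fintype_card, Fintype.card_sigma,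
      ← Finset.sum_coe_sort R]
    exact Finset.sum_congr rfl fun i _ => by rw [Fintype.card_prod, hfib, sq]
  have hs : Nat.card (Set.range (lead hd R)) + Nat.card Rest = Nat.card (Co d) := by
    rw [← Nat.card_sum]; exact Nat.card_congr (Equiv.sumCompl (fun z => z ∈ Set.range (lead hd R)))
  rw [hI, hD, exponent_eq R a h0] at hs
  simp only [a] at hs ⊢
  omega

theorem card_blocks [Fintype K] {q : ℕ} (hK : Fintype.card K = q ^ 2) (hs : ∀ x : K, star x = x ^ q) :
    Nat.card {b : (Π i : ↥R, Matrix {k // d k = (i : ℕ)} {k // d k = (i : ℕ)} K) // star b * b = 1} =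
      ∏ i ∈ R, Nat.card ↥(Cfsg.GU (Finset.univ.filter fun k => d k = i).card K q) := by
  classical
  rw [← Finset.prod_coe_sort R, ← Nat.card_pi]
  have key : ∀ (m : ℕ) (κ : Type) [Fintype κ] [DecidableEq κ], Fintype.card κ = m →
      Nonempty ({M : Matrix κ κ K // Mᴴ * M = 1} ≃ ↥(Cfsg.GU m K q)) := by
    intro m κ _ _ hm
    let e := Fintype.equivFinOfCardEq hm
    refine ⟨{
      toFun := fun M => ⟨⟨Matrix.reindex e e M.1, Matrix.reindex e e M.1ᴴ, ?_, ?_⟩,
        (mem_GU_iff_conjTranspose hs _).2 ?_⟩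
      invFun := fun g => ⟨Matrix.reindex e.symm e.symm ((g : GL (Fin m) K) : Matrix (Fin m) (Fin m) K), ?_⟩
      left_inv := fun M => Subtype.ext (by simp)
      right_inv := fun g => Subtype.ext (Units.ext (by simp)) }⟩
    · rw [Matrix.reindex_apply, Matrix.reindex_apply, Matrix.submatrix_mul_equiv, mul_eq_one_comm.1 M.2,
        Matrix.submatrix_one_equiv]
    · rw [Matrix.reindex_apply, Matrix.reindex_apply, Matrix.submatrix_mul_equiv, M.2, Matrix.submatrix_one_equiv]
    · show (Matrix.reindex e e M.1)ᴴ * Matrix.reindex e e M.1 = 1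
      rw [Matrix.conjTranspose_reindex, Matrix.reindex_apply, Matrix.reindex_apply, Matrix.submatrix_mul_equiv, M.2,
        Matrix.submatrix_one_equiv]
    · rw [Matrix.conjTranspose_reindex, Matrix.reindex_apply, Matrix.reindex_apply, Matrix.submatrix_mul_equiv,
        (mem_GU_iff_conjTranspose hs _).1 g.2, Matrix.submatrix_one_equiv]
  refine Nat.card_congr ({
    toFun := fun b i => (key _ _ (Fintype.card_subtype _)).some ⟨b.1 i, congrFun b.2 i⟩
    invFun := fun g => ⟨fun i => ((key _ _ (Fintype.card_subtype _)).some.symm (g i)).1,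
      funext fun i => ((key _ _ (Fintype.card_subtype _)).some.symm (g i)).2⟩
    left_inv := fun b => Subtype.ext (funext fun i => by simp)
    right_inv := fun g => funext fun i => by simp })

theorem sqrt_eq {a b c : ℕ} (h : a ^ 2 = b ^ 2 * c ^ 2) : a = b * c :=
  Nat.pow_left_injective two_ne_zero (h.trans (mul_pow b c 2).symm)

variable {n : ℕ} [Fintype K] {q : ℕ}

include hd in
set_option maxHeartbeats 1000000 in
theorem card_centralizer (hK : Fintype.card K = q ^ 2) (hs : ∀ x : K, star x = x ^ q)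
    (e : Ix d ≃ Fin n) (u : ↥(Cfsg.GU n K q))
    (hu : IsConj (Matrix.reindex e e (Cfsg.jordanTypeMatrix d K)) ((u : GL (Fin n) K) : Matrix (Fin n) (Fin n) K))
    (hR : R = Finset.range (Finset.univ.sup d + 1)) :
    Nat.card ↥(Subgroup.centralizer ({u} : Set ↥(Cfsg.GU n K q))) = q ^
      (2 * (∑ i ∈ R, ∑ j ∈ R, if i < j then i * (Finset.univ.filter fun k => d k = i).card *
        (Finset.univ.filter fun k => d k = j).card else 0) +
      ∑ i ∈ R, (i - 1) * (Finset.univ.filter fun k => d k = i).card ^ 2) *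
      ∏ i ∈ R, Nat.card ↥(Cfsg.GU (Finset.univ.filter fun k => d k = i).card K q) := by
  classical
  obtain ⟨-, -, -, θ₀, hθ₀⟩ := card_sq_facts hK
  rw [← hs] at hθ₀
  obtain ⟨θ, hθ⟩ : ∃ θ : K, θ + star θ = 1 := by
    by_cases h2 : (2 : K) = 0
    · have : θ₀ + star θ₀ ≠ 0 := fun h => hθ₀ (by linear_combination h - θ₀ * h2)
      refine ⟨θ₀ / (θ₀ + star θ₀), ?_⟩
      rw [star_div₀, star_add, star_star, add_comm (star θ₀) θ₀, ← add_div, div_self this]
    · exact ⟨2⁻¹, by rw [star_inv₀, star_ofNat, ← two_mul, mul_inv_cancel₀ h2]⟩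
  -- the unitary model of the unipotent element
  set N := Nmat K d
  have hNmem : N ∈ Comm K d := mem_comm.2 rfl
  have hNn : IsNilpotent N := ⟨Finset.univ.sup d, by
    refine Matrix.toLin'.injective (LinearMap.ext fun y => funext fun ⟨k, a⟩ => ?_)
    have := a.2
    have : d k ≤ Finset.univ.sup d := Finset.le_sup (Finset.mem_univ k)
    rw [Matrix.toLin'_apply, Nmat_pow_mulVec, if_neg (by omega)]
    simp⟩
  obtain ⟨X, hX⟩ : ∃ X : (Matrix (Ix d) (Ix d) K)ˣ, (X : Matrix (Ix d) (Ix d) K) = 1 + θ₀ • N :=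
    ⟨(hNn.smul θ₀).isUnit_one_add.unit, rfl⟩
  obtain ⟨Y, hY⟩ : ∃ Y : (Matrix (Ix d) (Ix d) K)ˣ, (Y : Matrix (Ix d) (Ix d) K) = 1 + star θ₀ • N :=
    ⟨(hNn.smul (star θ₀)).isUnit_one_add.unit, rfl⟩
  have hXY : Commute X Y := Units.ext (by
    show (X : Matrix (Ix d) (Ix d) K) * Y = Y * X
    rw [hX, hY]
    simp only [add_mul, mul_add, one_mul, mul_one, smul_mul_smul_comm, mul_comm θ₀]
    abel)
  let U : (Matrix (Ix d) (Ix d) K)ˣ := Y⁻¹ * X
  have hst1 : st (X : Matrix (Ix d) (Ix d) K) = Y := by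
    rw [hX, hY]
    have h1 : st (1 : Matrix (Ix d) (Ix d) K) = 1 := by rw [st, Matrix.conjTranspose_one, Matrix.submatrix_one_equiv]
    have := st_N (K := K) (d := d)
    calc st (1 + θ₀ • N) = st (1 : Matrix (Ix d) (Ix d) K) + star θ₀ • st N := by ext p q; simp [st, Matrix.one_apply]
      _ = _ := by rw [h1, this]
  have hst2 : st (Y : Matrix (Ix d) (Ix d) K) = X := by rw [← hst1, st_st]
  have hstU : st (U : Matrix (Ix d) (Ix d) K) * U = 1 := by
    have hinv : st ((Y⁻¹ : _ˣ) : Matrix (Ix d) (Ix d) K) = ((X⁻¹ : _ˣ) : Matrix (Ix d) (Ix d) K) := by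
      have h1 : st ((Y⁻¹ : _ˣ) : Matrix (Ix d) (Ix d) K) * X = 1 := by
        rw [← hst2, ← st_mul, Units.mul_inv, st, Matrix.conjTranspose_one, Matrix.submatrix_one_equiv]
      rw [← mul_one (st _), ← Units.mul_inv X, ← mul_assoc, h1, one_mul]
    show st ((Y⁻¹ * X : _ˣ) : Matrix (Ix d) (Ix d) K) * ((Y⁻¹ * X : _ˣ) : Matrix (Ix d) (Ix d) K) = 1
    rw [Units.val_mul, st_mul, hinv, hst1, ← Units.val_mul, ← Units.val_mul, ← Units.val_mul, ← Units.val_one]
    congr 1
    rw [mul_assoc, ← mul_assoc X⁻¹, hXY.inv_inv.eq, mul_assoc Y⁻¹, inv_mul_cancel, mul_one, mul_inv_cancel]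
  have hU1 : (U : Matrix (Ix d) (Ix d) K) - 1 = ((θ₀ - star θ₀) • ((Y⁻¹ : _ˣ) : Matrix (Ix d) (Ix d) K)) * N := by
    show ((Y⁻¹ * X : _ˣ) : Matrix (Ix d) (Ix d) K) - 1 = _
    rw [Units.val_mul, ← Units.inv_mul Y, ← mul_sub, hX, hY, smul_mul_assoc, add_sub_add_left_eq_sub, ← sub_smul,
      mul_smul_comm]
  have hcomm : ∀ M : Matrix (Ix d) (Ix d) K, M * (U : Matrix (Ix d) (Ix d) K) = U * M ↔ M * N = N * M := by
    intro M
    constructor
    · intro h
      have hZ : θ₀ • (1 : Matrix (Ix d) (Ix d) K) - star θ₀ • (U : Matrix (Ix d) (Ix d) K) =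
          (θ₀ - star θ₀) • ((Y⁻¹ : _ˣ) : Matrix (Ix d) (Ix d) K) := by
        show θ₀ • (1 : Matrix (Ix d) (Ix d) K) - star θ₀ • ((Y⁻¹ * X : _ˣ) : Matrix (Ix d) (Ix d) K) = _
        rw [Units.val_mul, ← Units.inv_mul Y, ← mul_smul_comm, ← mul_smul_comm, ← mul_sub]
        rw [show θ₀ • (Y : Matrix (Ix d) (Ix d) K) - star θ₀ • (X : Matrix (Ix d) (Ix d) K) = (θ₀ - star θ₀) • 1 by
          rw [hX, hY]; module, mul_smul_comm, mul_one]
      have hMY : Commute M ((θ₀ - star θ₀) • ((Y⁻¹ : _ˣ) : Matrix (Ix d) (Ix d) K)) := by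
        rw [← hZ]
        exact ((Commute.one_right M).smul_right θ₀).sub_right ((show Commute M U from h).smul_right _)
      have hu' : IsUnit ((θ₀ - star θ₀) • ((Y⁻¹ : _ˣ) : Matrix (Ix d) (Ix d) K)) :=
        (Y⁻¹).isUnit.smul (Units.mk0 _ (sub_ne_zero.2 (Ne.symm hθ₀)))
      refine hu'.mul_left_cancel ?_
      rw [← mul_assoc, ← hMY.eq, mul_assoc, ← hU1, mul_sub, mul_one, h]
      rw [show ((θ₀ - star θ₀) • ((Y⁻¹ : _ˣ) : Matrix (Ix d) (Ix d) K)) * (N * M) =
        ((U : Matrix (Ix d) (Ix d) K) - 1) * M by rw [hU1, mul_assoc], sub_mul, one_mul]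
    · intro h
      have hMX : Commute M X := by rw [hX]; exact (Commute.one_right M).add_right ((show Commute M N from h).smul_right _)
      have hMY : Commute M Y := by rw [hY]; exact (Commute.one_right M).add_right ((show Commute M N from h).smul_right _)
      show M * ((Y⁻¹ * X : _ˣ) : Matrix (Ix d) (Ix d) K) = ((Y⁻¹ * X : _ˣ) : Matrix (Ix d) (Ix d) K) * M
      rw [Units.val_mul]
      exact (hMY.units_inv_right.mul_right hMX).eq
  -- transport to the standard form
  have hHu : IsUnit (hmat K d) := IsUnit.of_mul_eq_one _ hmat_sq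
  obtain ⟨C, hC, hCC, -⟩ := exists_conjTranspose_mul_eq θ₀ hθ₀ (hmat K d) hmat_herm hHu
  obtain ⟨c, rfl⟩ := hC
  let ψ : Matrix (Ix d) (Ix d) K → Matrix (Fin n) (Fin n) K :=
    fun M => Matrix.reindexAlgEquiv K K e ((c : Matrix (Ix d) (Ix d) K) * M * ((c⁻¹ : _ˣ) : Matrix (Ix d) (Ix d) K))
  have hψmul : ∀ M M', ψ (M * M') = ψ M * ψ M' := fun M M' => by
    simp only [ψ]
    rw [← map_mul]
    congr 1
    simp only [mul_assoc, Units.inv_mul_cancel_left]
  have hψinj : Function.Injective ψ := fun M M' h => by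
    have := (Matrix.reindexAlgEquiv K K e).injective h
    exact (Units.mul_right_inj c).1 ((Units.mul_left_inj c⁻¹).1 this)
  have hψsurj : Function.Surjective ψ := fun Z =>
    ⟨((c⁻¹ : _ˣ) : Matrix (Ix d) (Ix d) K) * (Matrix.reindexAlgEquiv K K e).symm Z * (c : Matrix (Ix d) (Ix d) K), by
      simp only [ψ, mul_assoc, Units.mul_inv_cancel_left, Units.mul_inv, mul_one, AlgEquiv.apply_symm_apply]⟩
  have hψone : ψ 1 = 1 := by simp [ψ]
  have hψunit : ∀ M, (ψ M)ᴴ * ψ M = 1 ↔ st M * M = 1 := fun M => by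
    rw [st_mul_eq_one_iff, ← hCC]
    set C := (c : Matrix (Ix d) (Ix d) K)
    set Ci := ((c⁻¹ : _ˣ) : Matrix (Ix d) (Ix d) K)
    have h1 : (ψ M)ᴴ * ψ M = Matrix.reindexAlgEquiv K K e ((C * M * Ci)ᴴ * (C * M * Ci)) := by
      rw [map_mul]
      congr 1
    rw [h1, EmbeddingLike.map_eq_one_iff]
    constructor
    · intro h
      have h2 : Ciᴴ * (Mᴴ * (Cᴴ * C) * M) * Ci = 1 := by rw [← h]; simp only [conjTranspose_mul, mul_assoc]
      calc Mᴴ * (Cᴴ * C) * M = (Ci * C)ᴴ * (Mᴴ * (Cᴴ * C) * M) * (Ci * C) := by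
            simp [C, Ci]
        _ = Cᴴ * (Ciᴴ * (Mᴴ * (Cᴴ * C) * M) * Ci) * C := by simp only [conjTranspose_mul, mul_assoc]
        _ = Cᴴ * C := by rw [h2, mul_one]
    · intro h
      calc (C * M * Ci)ᴴ * (C * M * Ci) = Ciᴴ * (Mᴴ * (Cᴴ * C) * M) * Ci := by
            simp only [conjTranspose_mul, mul_assoc]
        _ = (C * Ci)ᴴ * (C * Ci) := by rw [h]; simp only [conjTranspose_mul, mul_assoc]
        _ = 1 := by simp [C, Ci]
  let v₀ : GL (Fin n) K := ⟨ψ U, ψ ((U⁻¹ : _ˣ) : Matrix (Ix d) (Ix d) K),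
    by rw [← hψmul, Units.mul_inv, hψone], by rw [← hψmul, Units.inv_mul, hψone]⟩
  let v : ↥(Cfsg.GU n K q) := ⟨v₀, (mem_GU_iff_conjTranspose hs _).2 ((hψunit _).2 hstU)⟩
  -- `v` is conjugate to `u`
  have hJ : Matrix.reindex e e (Cfsg.jordanTypeMatrix d K) = 1 + Matrix.reindexAlgEquiv K K e N := by
    show Matrix.reindexAlgEquiv K K e _ = _
    rw [← map_one (Matrix.reindexAlgEquiv K K e), ← map_add]
    exact congrArg _ (add_sub_cancel (1 : Matrix (Ix d) (Ix d) K) _).symm
  have h1 : IsConj (Matrix.reindex e e (Cfsg.jordanTypeMatrix d K))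
      (Matrix.reindexAlgEquiv K K e (U : Matrix (Ix d) (Ix d) K)) := by
    refine S2642.conj_of_card_ker ?_ ?_ fun j => ?_
    · rw [hJ, add_sub_cancel_left]; exact hNn.map _
    · rw [← map_one (Matrix.reindexAlgEquiv K K e), ← map_sub, hU1]
      refine IsNilpotent.map (Commute.isNilpotent_mul_left ?_ hNn) _
      have : Commute ((Y : Matrix (Ix d) (Ix d) K)) N := by
        rw [hY]; exact (Commute.one_left N).add_left ((Commute.refl N).smul_left _)
      exact this.units_inv_left.smul_left _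
    · have hW : Commute ((θ₀ - star θ₀) • ((Y⁻¹ : _ˣ) : Matrix (Ix d) (Ix d) K)) N := by
        have : Commute ((Y : Matrix (Ix d) (Ix d) K)) N := by
          rw [hY]; exact (Commute.one_left N).add_left ((Commute.refl N).smul_left _)
        exact this.units_inv_left.smul_left _
      have hu' : IsUnit (Matrix.reindexAlgEquiv K K e (((θ₀ - star θ₀) • ((Y⁻¹ : _ˣ) : Matrix (Ix d) (Ix d) K)) ^ j)) :=
        (((Y⁻¹).isUnit.smul (Units.mk0 _ (sub_ne_zero.2 (Ne.symm hθ₀)))).pow j).map _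
      refine Nat.card_congr (Equiv.subtypeEquivRight fun y => ?_)
      rw [hJ, add_sub_cancel_left, ← map_one (Matrix.reindexAlgEquiv K K e), ← map_sub, hU1, ← map_pow, ← map_pow,
        hW.mul_pow, map_mul, ← Matrix.mulVec_mulVec]
      exact ⟨fun h => by rw [h, Matrix.mulVec_zero], fun h =>
        Matrix.mulVec_injective_of_isUnit hu' (h.trans (Matrix.mulVec_zero _).symm)⟩
  have h2 : IsConj (Matrix.reindexAlgEquiv K K e (U : Matrix (Ix d) (Ix d) K)) (ψ U) :=
    ⟨Units.map (Matrix.reindexAlgEquiv K K e).toMonoidHom c, by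
      show Matrix.reindexAlgEquiv K K e (c : Matrix (Ix d) (Ix d) K) * Matrix.reindexAlgEquiv K K e _ =
        Matrix.reindexAlgEquiv K K e _ * Matrix.reindexAlgEquiv K K e (c : Matrix (Ix d) (Ix d) K)
      rw [← map_mul, ← map_mul, mul_assoc ((c : Matrix (Ix d) (Ix d) K) * _), Units.inv_mul, mul_one]⟩
  obtain ⟨g, hg⟩ : IsConj ((u : GL (Fin n) K) : Matrix (Fin n) (Fin n) K) (ψ U) := hu.symm.trans (h1.trans h2)
  have huv : IsConj u v := by
    rw [gu_isConj_iff hK]
    exact isConj_iff.2 ⟨g, by rw [mul_inv_eq_iff_eq_mul]; exact Units.ext hg⟩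
  -- the centraliser of `v`
  have hc1 : Nat.card ↥(Subgroup.centralizer ({u} : Set ↥(Cfsg.GU n K q))) =
      Nat.card ↥(Subgroup.centralizer ({v} : Set ↥(Cfsg.GU n K q))) := by
    obtain ⟨w, hw⟩ := isConj_iff.1 huv
    refine Nat.card_congr ((MulAut.conj w).toEquiv.subtypeEquiv fun z => ?_)
    rw [Subgroup.mem_centralizer_singleton_iff, Subgroup.mem_centralizer_singleton_iff, ← hw]
    simp [mul_assoc]
    rw [← mul_assoc z, ← mul_assoc u, mul_left_inj]
  have hc2 : Nat.card ↥(Subgroup.centralizer ({v} : Set ↥(Cfsg.GU n K q))) =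
      Nat.card {x : ↥(Comm K d) // star x * x = 1} := by
    refine (Nat.card_eq_of_bijective (fun x : {x : ↥(Comm K d) // star x * x = 1} =>
      (⟨⟨⟨ψ x.1.1, ψ (star x.1 : ↥(Comm K d)).1,
          by rw [← hψmul, ← MulMemClass.coe_mul, mul_eq_one_comm.1 x.2, OneMemClass.coe_one, hψone],
          by rw [← hψmul, ← MulMemClass.coe_mul, x.2, OneMemClass.coe_one, hψone]⟩,
        (mem_GU_iff_conjTranspose hs _).2 ((hψunit _).2 (congrArg Subtype.val x.2))⟩, ?_⟩ :
        ↥(Subgroup.centralizer ({v} : Set ↥(Cfsg.GU n K q))))) ⟨?_, ?_⟩).symm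
    · rw [Subgroup.mem_centralizer_singleton_iff]
      refine Subtype.ext (Units.ext ?_)
      show ψ x.1.1 * ψ U = ψ U * ψ x.1.1
      rw [← hψmul, ← hψmul, (hcomm _).2 (mem_comm.1 x.1.2)]
    · intro x y h
      exact Subtype.ext (Subtype.ext (hψinj (congrArg (fun z => ((z.1.1 : GL (Fin n) K) : Matrix (Fin n) (Fin n) K)) h)))
    · rintro ⟨z, hz⟩
      obtain ⟨M, hM⟩ := hψsurj ((z : GL (Fin n) K) : Matrix (Fin n) (Fin n) K)
      rw [Subgroup.mem_centralizer_singleton_iff] at hz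
      have hz' : ((z : GL (Fin n) K) : Matrix (Fin n) (Fin n) K) * ψ U = ψ U * ((z : GL (Fin n) K) : Matrix (Fin n) (Fin n) K) :=
        congrArg (fun w : ↥(Cfsg.GU n K q) => ((w : GL (Fin n) K) : Matrix (Fin n) (Fin n) K)) hz
      rw [← hM, ← hψmul, ← hψmul] at hz'
      have hMst := (hψunit M).1 (by rw [hM]; exact (mem_GU_iff_conjTranspose hs _).1 z.2)
      refine ⟨⟨⟨M, mem_comm.2 ((hcomm M).1 (hψinj hz'))⟩, Subtype.ext hMst⟩, ?_⟩
      exact Subtype.ext (Subtype.ext (Units.ext hM))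
  have hmain := UnitaryLift.card_unitary_sq (proj (K := K) hd R) (proj_surjective hd R) (proj_star hd R)
    (proj_smul hd R) (nilpotent_of_proj hd R (fun k => hR ▸ Finset.mem_range.2
      (Nat.lt_succ_of_le (Finset.le_sup (Finset.mem_univ k))))) θ θ₀ hθ hθ₀
  rw [card_ker hd R hR, card_blocks R hK hs, hK, ← pow_mul, mul_comm 2, pow_mul] at hmain
  rw [hc1, hc2, sqrt_eq hmain, mul_comm]

end Cfsg.Agent.Forms59.UnitaryCent
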