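import Cfsg.Agent.Forms59.UnitaryConj
import Cfsg.Agent.KnownSimple58.RegularNilpotent
import Cfsg.Agent.Lib.Unitary.Count

/-!
Regular unipotent classes of the special unitary group.
-/

set_option autoImplicit false
set_option linter.unusedSectionVars false

namespace Cfsg.Agent.Forms59

open Matrix KS58
open scoped Matrix

variable {K : Type*} [Field K] [Fintype K] {q n : ℕ}

/-- Regular unipotent matrices. -/
def IsRegUni (M : Matrix (Fin n) (Fin n) K) : Prop := IsRegNil (M - 1)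

theorem det_regUni {M : Matrix (Fin n) (Fin n) K} (h : IsRegUni M) (hn : 1 ≤ n) : M.det = 1 := by
  have e : M = ∑ i : Fin n, (fun i : Fin n => if (i : ℕ) ≤ 1 then (1 : K) else 0) i • (M - 1) ^ (i : ℕ) := by
    rcases Nat.lt_or_ge 1 n with h1 | h1
    · rw [← Finset.sum_subset (Finset.subset_univ {⟨0, hn⟩, ⟨1, h1⟩})]
      · rw [Finset.sum_pair (by simp [Fin.ext_iff])]
        simp
      · intro i _ hi
        simp only [Finset.mem_insert, Finset.mem_singleton, Fin.ext_iff, not_or] at hi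
        simp only
        rw [if_neg (by omega), zero_smul]
    · haveI : Subsingleton (Fin n) := Fin.subsingleton_iff_le_one.2 h1
      rw [Fintype.sum_subsingleton _ ⟨0, hn⟩]
      obtain rfl : n = 1 := by omega
      have h0 := h.1
      rw [pow_one] at h0
      simp [sub_eq_zero.1 h0]
  rw [e, det_sum_smul_pow h.1 hn]
  simp

theorem isRegUni_inv_transpose :
    IsRegUni (((1 + shift K n).map (fun x : K => x ^ q)).transpose)⁻¹ ∨ q = 0 := by
  rcases Nat.eq_zero_or_pos q with hq | hq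
  · exact Or.inr hq
  left
  have hmap : (1 + shift K n).map (fun x : K => x ^ q) = 1 + shift K n := by
    ext i j
    rw [Matrix.map_apply]
    simp only [shift, Matrix.add_apply, Matrix.one_apply, Matrix.of_apply]
    rcases eq_or_ne i j with rfl | hij
    · simp
    · rw [if_neg hij, zero_add]; split_ifs <;> simp [zero_pow hq.ne']
  rw [hmap, transpose_add, transpose_one]
  set N := shift K n
  have hN : IsRegNil N := isRegNil_shift K n
  have hu : IsUnit (1 + Nᵀ) := IsNilpotent.isUnit_one_add ⟨n, by rw [← transpose_pow, hN.1, transpose_zero]⟩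
  have hd := (Matrix.isUnit_iff_isUnit_det _).1 hu
  have hi := Matrix.mul_nonsing_inv _ hd
  have hi2 := Matrix.nonsing_inv_mul _ hd
  set V := (1 + Nᵀ)⁻¹
  have hc : Commute Nᵀ V := by
    calc Nᵀ * V = V * (1 + Nᵀ) * Nᵀ * V := by rw [hi2, one_mul]
      _ = V * Nᵀ * ((1 + Nᵀ) * V) := by noncomm_ring
      _ = V * Nᵀ := by rw [hi, mul_one]
  have e : V - 1 = -(Nᵀ * V) := by
    calc V - 1 = V - (1 + Nᵀ) * V := by rw [hi]
      _ = -(Nᵀ * V) := by noncomm_ring
  refine ⟨?_, ?_⟩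
  · rw [e, neg_pow, hc.mul_pow, ← transpose_pow, hN.1, transpose_zero, zero_mul, mul_zero]
  · have e2 : -(Nᵀ * V) = Nᵀ * (-V) := by rw [mul_neg]
    rw [e, e2, Matrix.rank_mul_eq_left_of_isUnit_det, Matrix.rank_transpose, hN.2]
    rw [← Matrix.isUnit_iff_isUnit_det]
    exact (IsUnit.of_mul_eq_one _ hi2).neg

theorem exists_regUni_GU (hK : Fintype.card K = q ^ 2) :
    ∃ g : ↥(Cfsg.GU n K q), IsRegUni ((g : GL (Fin n) K) : Matrix (Fin n) (Fin n) K) := by
  have hq : q ≠ 0 := by rintro rfl; simp at hK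
  have hN : IsRegNil (shift K n) := isRegNil_shift K n
  obtain ⟨A, hA⟩ : ∃ A : GL (Fin n) K, (A : Matrix (Fin n) (Fin n) K) = 1 + shift K n :=
    ⟨(IsNilpotent.isUnit_one_add ⟨n, hN.1⟩).unit, rfl⟩
  obtain ⟨B, hB⟩ := (similar_to_unitary_iff hK A).2 (by
    rw [hA]
    obtain ⟨g, hg⟩ := exists_gl_conj (N := (1 + shift K n) - 1)
      (N' := (((1 + shift K n).map (fun x : K => x ^ q)).transpose)⁻¹ - 1)
      (by rw [add_sub_cancel_left]; exact hN) (isRegUni_inv_transpose.resolve_right hq)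
    rw [mul_sub, sub_mul, mul_one, one_mul] at hg
    exact ⟨g, sub_left_injective hg⟩)
  refine ⟨B, ?_⟩
  obtain ⟨g, hg⟩ := isConj_iff.1 hB
  have hg' := congrArg Units.val hg
  simp only [Units.val_mul] at hg'
  rw [hA] at hg'
  set G : Matrix (Fin n) (Fin n) K := (g : Matrix (Fin n) (Fin n) K)
  set G' : Matrix (Fin n) (Fin n) K := ((g⁻¹ : GL (Fin n) K) : Matrix (Fin n) (Fin n) K)
  have hGG : G * G' = 1 := g.mul_inv
  have hGG2 : G' * G = 1 := g.inv_mul
  have e : G * (1 + shift K n) * G' - 1 = G * shift K n * G' := by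
    rw [mul_add, mul_one, add_mul, hGG]; abel
  have hpow : ∀ k : ℕ, (G * shift K n * G') ^ k = G * shift K n ^ k * G' := by
    intro k
    induction k with
    | zero => rw [pow_zero, pow_zero, mul_one, hGG]
    | succ k ih =>
      rw [pow_succ, ih, pow_succ]
      calc G * shift K n ^ k * G' * (G * shift K n * G')
          = G * shift K n ^ k * (G' * G) * shift K n * G' := by noncomm_ring
        _ = _ := by rw [hGG2, mul_one]; noncomm_ring
  refine ⟨?_, ?_⟩
  · rw [← hg', e, hpow, hN.1, mul_zero, zero_mul]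
  · rw [← hg', e, Matrix.rank_mul_eq_left_of_isUnit_det _ _
        ((Matrix.isUnit_iff_isUnit_det _).1 (IsUnit.of_mul_eq_one _ hGG2)),
      Matrix.rank_mul_eq_right_of_isUnit_det _ _
        ((Matrix.isUnit_iff_isUnit_det _).1 (IsUnit.of_mul_eq_one _ hGG))]
    exact hN.2

/-- The determinant of an isometry commuting with a regular unipotent one. -/
theorem det_centralizer (hK : Fintype.card K = q ^ 2) (hn : 1 ≤ n) (u c : ↥(Cfsg.GU n K q))
    (hu : IsRegUni ((u : GL (Fin n) K) : Matrix (Fin n) (Fin n) K)) (hc : Commute c u) :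
    ∃ a : K, a ^ (q + 1) = 1 ∧ ((c : GL (Fin n) K) : Matrix (Fin n) (Fin n) K).det = a ^ n := by
  set U : Matrix (Fin n) (Fin n) K := ((u : GL (Fin n) K) : Matrix (Fin n) (Fin n) K)
  set C : Matrix (Fin n) (Fin n) K := ((c : GL (Fin n) K) : Matrix (Fin n) (Fin n) K)
  set N := U - 1
  have hCU : Commute C U := congrArg (fun x : ↥(Cfsg.GU n K q) =>
    ((x : GL (Fin n) K) : Matrix (Fin n) (Fin n) K)) hc.eq
  obtain ⟨d, hd⟩ := hu.commute_eq_sum (hCU.sub_right (Commute.one_right C))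
  refine ⟨d ⟨0, hn⟩, ?_, by rw [hd, det_sum_smul_pow hu.1 hn]⟩
  obtain ⟨w0, hw0⟩ := hu.exists_cyclic hn
  set v := (N ^ (n - 1)) *ᵥ w0
  have hNv : N *ᵥ v = 0 := by
    rw [Matrix.mulVec_mulVec, ← pow_succ', Nat.sub_add_cancel hn, hu.1, Matrix.zero_mulVec]
  obtain ⟨m, rfl⟩ : ∃ m, n = m + 1 := ⟨n - 1, by omega⟩
  obtain ⟨P, hP⟩ : ∃ P, C = d ⟨0, hn⟩ • 1 + N * P ∧ Commute N P := by
    refine ⟨∑ i : Fin m, d i.succ • N ^ (i : ℕ), ?_,
      Commute.sum_right _ _ _ fun i _ => ((Commute.refl N).pow_right _).smul_right _⟩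
    rw [hd, Fin.sum_univ_succ]
    simp only [Fin.val_zero, pow_zero, Fin.val_succ, pow_succ', ← mul_smul_comm, ← Finset.mul_sum]
    rfl
  obtain ⟨y, hy⟩ : ∃ y, Unitary.herm q v y ≠ 0 := by
    by_contra hh
    push Not at hh
    exact hw0 (Unitary.eq_zero_of_herm hK hh)
  have hCv : C *ᵥ v = d ⟨0, hn⟩ • v := by
    rw [hP.1, Matrix.add_mulVec, Matrix.smul_mulVec, Matrix.one_mulVec, hP.2.eq,
      ← Matrix.mulVec_mulVec, hNv, Matrix.mulVec_zero, add_zero]
  have hperp : ∀ z, Unitary.herm q v (N *ᵥ z) = 0 := by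
    intro z
    have hUv : U *ᵥ v = v := by
      rw [show U = N + 1 by simp [N], Matrix.add_mulVec, hNv, Matrix.one_mulVec, zero_add]
    have h := Unitary.herm_smul_GU u v z
    rw [show u • v = U *ᵥ v from rfl, hUv, show u • z = U *ᵥ z from rfl] at h
    rw [Matrix.sub_mulVec, Matrix.one_mulVec, Unitary.herm_sub_right hK, h, sub_self]
  have h := Unitary.herm_smul_GU c v y
  rw [show c • v = C *ᵥ v from rfl, show c • y = C *ᵥ y from rfl, hCv] at h
  rw [hP.1, Matrix.add_mulVec, Matrix.smul_mulVec, Matrix.one_mulVec, ← Matrix.mulVec_mulVec,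
    Unitary.herm_smul_left, Unitary.herm_add_right hK, hperp, add_zero,
    Unitary.herm_smul_right hK, ← mul_assoc, ← pow_succ'] at h
  exact mul_right_cancel₀ hy (h.trans (one_mul _).symm)

/-- `gcd(n, q+1)` classes of regular unipotents in `SU`. -/
theorem card_regUni_classes_SU (hK : Fintype.card K = q ^ 2) (hn : 1 ≤ n) :
    Nat.card {C : ConjClasses ↥(Cfsg.SU n K q) // ∃ u : ↥(Cfsg.SU n K q), ConjClasses.mk u = C ∧
      IsRegUni ((u : GL (Fin n) K) : Matrix (Fin n) (Fin n) K)} = Nat.gcd n (q + 1) := by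
  classical
  let μ : Subgroup Kˣ := (powMonoidHom (q + 1) : Kˣ →* Kˣ).ker
  let R : Subgroup ↥μ := (powMonoidHom n : ↥μ →* ↥μ).range
  have hμ : Nat.card ↥μ = q + 1 := Unitary.card_norm_one_units hK
  have hidx : R.index = Nat.gcd n (q + 1) := by
    rw [IsCyclic.index_powMonoidHom_range, hμ, Nat.gcd_comm]
  obtain ⟨g₀, hg₀⟩ := exists_regUni_GU (n := n) hK
  have hlift : ∀ g : ↥(Cfsg.GU n K q),
      ((g : GL (Fin n) K) : Matrix (Fin n) (Fin n) K).det = 1 →
      ∃ u : ↥(Cfsg.SU n K q), Unitary.toGU u = g := fun g hg => by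
    have : g ∈ (Unitary.toGU : ↥(Cfsg.SU n K q) →* ↥(Cfsg.GU n K q)).range := by
      rw [Unitary.range_toGU]
      exact Units.ext (by rw [Unitary.coe_detGU, hg]; rfl)
    exact this
  have hdet : ∀ g : ↥(Cfsg.GU n K q), Unitary.detGU g ∈ μ := fun g =>
    Units.ext (Unitary.det_norm hK g)
  have hsurjdet : ∀ a : ↥μ, ∃ g : ↥(Cfsg.GU n K q), Unitary.detGU g = (a : Kˣ) := fun a => by
    obtain ⟨g, hg⟩ := Unitary.exists_det_eq hK hn (a := ((a : Kˣ) : K)) (congrArg Units.val a.2)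
    exact ⟨g, Units.ext hg⟩
  choose x hx using hsurjdet
  have hregconj : ∀ g : ↥(Cfsg.GU n K q), IsRegUni
      (((g * g₀ * g⁻¹ : ↥(Cfsg.GU n K q)) : GL (Fin n) K) : Matrix (Fin n) (Fin n) K) := by
    intro g
    set G : Matrix (Fin n) (Fin n) K := ((g : GL (Fin n) K) : Matrix (Fin n) (Fin n) K)
    set G' : Matrix (Fin n) (Fin n) K := (((g : GL (Fin n) K)⁻¹ : GL (Fin n) K) : Matrix (Fin n) (Fin n) K)
    set U : Matrix (Fin n) (Fin n) K := ((g₀ : GL (Fin n) K) : Matrix (Fin n) (Fin n) K)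
    have hGG : G * G' = 1 := (g : GL (Fin n) K).mul_inv
    have hGG2 : G' * G = 1 := (g : GL (Fin n) K).inv_mul
    show IsRegNil (G * U * G' - 1)
    have e : G * U * G' - 1 = G * (U - 1) * G' := by rw [mul_sub, sub_mul, mul_one, hGG]
    have hpow : ∀ k : ℕ, (G * (U - 1) * G') ^ k = G * (U - 1) ^ k * G' := by
      intro k
      induction k with
      | zero => rw [pow_zero, pow_zero, mul_one, hGG]
      | succ k ih =>
        rw [pow_succ, ih, pow_succ]
        calc G * (U - 1) ^ k * G' * (G * (U - 1) * G')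
            = G * (U - 1) ^ k * (G' * G) * (U - 1) * G' := by noncomm_ring
          _ = _ := by rw [hGG2, mul_one]; noncomm_ring
    refine ⟨by rw [e, hpow, hg₀.1, mul_zero, zero_mul], ?_⟩
    rw [e, Matrix.rank_mul_eq_left_of_isUnit_det _ _
        ((Matrix.isUnit_iff_isUnit_det _).1 (IsUnit.of_mul_eq_one _ hGG2)),
      Matrix.rank_mul_eq_right_of_isUnit_det _ _
        ((Matrix.isUnit_iff_isUnit_det _).1 (IsUnit.of_mul_eq_one _ hGG))]
    exact hg₀.2
  have hex : ∀ a : ↥μ, ∃ u : ↥(Cfsg.SU n K q), Unitary.toGU u = x a * g₀ * (x a)⁻¹ := fun a =>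
    hlift _ (det_regUni (hregconj (x a)) hn)
  choose y hy using hex
  -- conjugacy in SU of the representatives
  have hiff : ∀ a b : ↥μ, ConjClasses.mk (y a) = ConjClasses.mk (y b) ↔ b⁻¹ * a ∈ R := by
    intro a b
    rw [ConjClasses.mk_eq_mk_iff_isConj, isConj_iff]
    constructor
    · rintro ⟨s, hs⟩
      have hs' : Unitary.toGU s * (x a * g₀ * (x a)⁻¹) * (Unitary.toGU s)⁻¹ = x b * g₀ * (x b)⁻¹ := by
        rw [← hy, ← hy, ← map_mul, ← map_inv, ← map_mul, hs]
      set c := (x b)⁻¹ * Unitary.toGU s * x a with hcdef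
      have hc : Commute c g₀ := by
        show c * g₀ = g₀ * c
        calc c * g₀ = (x b)⁻¹ * (Unitary.toGU s * (x a * g₀ * (x a)⁻¹) * (Unitary.toGU s)⁻¹) *
              (Unitary.toGU s * x a) := by rw [hcdef]; group
          _ = g₀ * c := by rw [hs', hcdef]; group
      obtain ⟨t, ht, hdett⟩ := det_centralizer hK hn g₀ c hg₀ hc
      have hts : Unitary.detGU (Unitary.toGU s) = (1 : Kˣ) := by
        have : Unitary.toGU s ∈ (Unitary.detGU : ↥(Cfsg.GU n K q) →* Kˣ).ker := by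
          rw [← Unitary.range_toGU]; exact ⟨s, rfl⟩
        exact this
      have ht0 : t ≠ 0 := fun h => by rw [h, zero_pow (Nat.succ_ne_zero q)] at ht; exact zero_ne_one ht
      refine ⟨⟨Units.mk0 t ht0, Units.ext ht⟩, Subtype.ext (Units.ext ?_)⟩
      have e : Unitary.detGU c = (b : Kˣ)⁻¹ * (a : Kˣ) := by
        rw [hcdef, map_mul, map_mul, map_inv, hts, hx, hx, mul_one]
      have e' := congrArg Units.val e
      rw [Unitary.coe_detGU, hdett] at e'
      exact e'
    · rintro ⟨⟨t, ht⟩, hta⟩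
      have hta' : (b : Kˣ)⁻¹ * (a : Kˣ) = t ^ n := (congrArg Subtype.val hta).symm
      have htq : ((t : K)) ^ (q + 1) = 1 := congrArg Units.val ht
      have hS : ∀ v w : Fin n → K, Unitary.herm q (((t : K) • (1 : Matrix (Fin n) (Fin n) K)) *ᵥ v)
          (((t : K) • (1 : Matrix (Fin n) (Fin n) K)) *ᵥ w) = Unitary.herm q v w := fun v w => by
        rw [Matrix.smul_mulVec, Matrix.smul_mulVec, Matrix.one_mulVec, Matrix.one_mulVec,
          Unitary.herm_smul_left, Unitary.herm_smul_right hK, ← mul_assoc, ← pow_succ', htq, one_mul]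
      set T := Unitary.mkGU hK _ hS
      have hTdet : Unitary.detGU T = t ^ n := Units.ext (by
        show (((t : K) • (1 : Matrix (Fin n) (Fin n) K))).det = _
        rw [det_smul, det_one, mul_one, Fintype.card_fin, Units.val_pow_eq_pow_val])
      have hTc : Commute T g₀ := Subtype.ext (Units.ext (by
        show ((t : K) • (1 : Matrix (Fin n) (Fin n) K)) *
            ((g₀ : GL (Fin n) K) : Matrix (Fin n) (Fin n) K) =
          ((g₀ : GL (Fin n) K) : Matrix (Fin n) (Fin n) K) * ((t : K) • 1)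
        rw [smul_mul_assoc, one_mul, mul_smul_comm, mul_one]))
      obtain ⟨s, hs⟩ := hlift (x b * T * (x a)⁻¹) (by
        have : Unitary.detGU (x b * T * (x a)⁻¹) = (1 : Kˣ) := by
          rw [map_mul, map_mul, map_inv, hx, hx, hTdet, ← hta', mul_inv_cancel_left, mul_inv_cancel]
        exact congrArg Units.val this)
      refine ⟨s, Unitary.toGU_injective ?_⟩
      rw [map_mul, map_mul, map_inv, hy, hy, hs]
      calc x b * T * (x a)⁻¹ * (x a * g₀ * (x a)⁻¹) * (x b * T * (x a)⁻¹)⁻¹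
          = x b * (T * g₀) * T⁻¹ * (x b)⁻¹ := by group
        _ = x b * g₀ * (x b)⁻¹ := by rw [hTc.eq]; group
  -- every class is reached
  have hsurj : ∀ u : ↥(Cfsg.SU n K q), IsRegUni ((u : GL (Fin n) K) : Matrix (Fin n) (Fin n) K) →
      ∃ a : ↥μ, ConjClasses.mk (y a) = ConjClasses.mk u := by
    intro u hu
    obtain ⟨g, hg⟩ := exists_gl_conj hg₀ (N' := ((u : GL (Fin n) K) : Matrix (Fin n) (Fin n) K) - 1) hu
    rw [mul_sub, sub_mul, mul_one, one_mul] at hg
    have hg' := sub_left_injective hg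
    have hGL : IsConj (g₀ : GL (Fin n) K) (Unitary.toGU u : GL (Fin n) K) := by
      refine isConj_iff.2 ⟨g, mul_inv_eq_iff_eq_mul.2 (Units.ext ?_)⟩
      exact hg'
    obtain ⟨z, hz⟩ := isConj_iff.1 ((gu_isConj_iff hK g₀ (Unitary.toGU u)).2 hGL)
    let a : ↥μ := ⟨Unitary.detGU z, hdet z⟩
    refine ⟨a, ConjClasses.mk_eq_mk_iff_isConj.2 (isConj_iff.2 ?_)⟩
    obtain ⟨s, hs⟩ := hlift (z * (x a)⁻¹) (by
      have : Unitary.detGU (z * (x a)⁻¹) = (1 : Kˣ) := by
        rw [map_mul, map_inv, hx, mul_inv_cancel]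
      exact congrArg Units.val this)
    refine ⟨s, Unitary.toGU_injective ?_⟩
    rw [map_mul, map_mul, map_inv, hy, hs, ← hz]
    group
  have hreg : ∀ a, IsRegUni ((y a : GL (Fin n) K) : Matrix (Fin n) (Fin n) K) := fun a => by
    have e : ((y a : GL (Fin n) K) : Matrix (Fin n) (Fin n) K) =
        (((Unitary.toGU (y a) : ↥(Cfsg.GU n K q)) : GL (Fin n) K) : Matrix (Fin n) (Fin n) K) := rfl
    rw [e, hy]; exact hregconj _
  let f : ↥μ ⧸ R → {C : ConjClasses ↥(Cfsg.SU n K q) // ∃ u : ↥(Cfsg.SU n K q),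
      ConjClasses.mk u = C ∧ IsRegUni ((u : GL (Fin n) K) : Matrix (Fin n) (Fin n) K)} :=
    Quotient.lift (fun a => ⟨ConjClasses.mk (y a), y a, rfl, hreg a⟩) fun a b hab =>
      Subtype.ext ((hiff a b).2 (by
        have h := QuotientGroup.leftRel_apply.1 hab
        have := R.inv_mem h
        rwa [_root_.mul_inv_rev, inv_inv] at this))
  have hf : Function.Bijective f := by
    constructor
    · intro A B
      obtain ⟨a, rfl⟩ := QuotientGroup.mk_surjective A
      obtain ⟨b, rfl⟩ := QuotientGroup.mk_surjective B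
      intro h
      have h' := (hiff a b).1 (congrArg Subtype.val h)
      rw [QuotientGroup.eq]
      have := R.inv_mem h'
      rwa [_root_.mul_inv_rev, inv_inv] at this
    · rintro ⟨C, u, rfl, hu⟩
      obtain ⟨a, ha⟩ := hsurj u hu
      exact ⟨QuotientGroup.mk a, Subtype.ext ha⟩
  rw [← Nat.card_eq_of_bijective f hf, ← hidx]
  rfl

end Cfsg.Agent.Forms59
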